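import Mathlib
import Cfsg.Agent.Lib.Oct.Co

/-!
# Fusion systems over a Sylow 2-subgroup of the large Ree groups: interfaces, part one (helper78)
-/

set_option autoImplicit false
set_option linter.unusedSectionVars false
set_option linter.unnecessarySeqFocus false

namespace H78.Ofs

open H78.Oct H78.Oct.Co Subgroup
open scoped commutatorElement

section Gen

variable {W : Type*} [Group W]

/-- `f` restricts to an automorphism of `E`. -/
structure Au (E : Subgroup W) (f : W → W) : Prop where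
  mem : ∀ x ∈ E, f x ∈ E
  mul : ∀ x ∈ E, ∀ y ∈ E, f (x * y) = f x * f y
  inj : ∀ x ∈ E, f x = 1 → x = 1

/-- `A` is a subgroup of `E` invariant under `𝒜`. -/
def Iv (𝒜 : Set (W → W)) (E A : Subgroup W) : Prop := A ≤ E ∧ ∀ f ∈ 𝒜, ∀ x ∈ A, f x ∈ A

/-- The subgroup generated by the squares. -/
def Ph (E : Subgroup W) : Subgroup W := closure {y | ∃ x ∈ E, y = x * x}

/-- The subgroup generated by the involutions. -/
def Om (E : Subgroup W) : Subgroup W := closure {x | x ∈ E ∧ x * x = 1}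

/-- The central involutions. -/
def Wz (E : Subgroup W) : Subgroup W where
  carrier := {x | x ∈ E ∧ x * x = 1 ∧ ∀ y ∈ E, x * y = y * x}
  mul_mem' := fun {a b} ha hb => ⟨mul_mem ha.1 hb.1, by
      rw [mul_assoc, ← mul_assoc b, hb.2.2 a ha.1, mul_assoc, hb.2.1, mul_one, ha.2.1],
    fun y hy => by rw [mul_assoc, hb.2.2 y hy, ← mul_assoc, ha.2.2 y hy, mul_assoc]⟩
  one_mem' := ⟨one_mem E, one_mul 1, fun y _ => by simp⟩
  inv_mem' := fun {a} ha => by rwa [inv_eq_of_mul_eq_one_right ha.2.1]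

theorem mem_Wz {E : Subgroup W} {x : W} :
    x ∈ Wz E ↔ x ∈ E ∧ x * x = 1 ∧ ∀ y ∈ E, x * y = y * x := Iff.rfl

/-- The subgroup generated by the involutions that are central modulo `Wz E`. -/
def Bz (E : Subgroup W) : Subgroup W := closure {x | x ∈ E ∧ x * x = 1 ∧ ∀ y ∈ E, ⁅x, y⁆ ∈ Wz E}

/-- What is used of an essential subgroup `E` with automizer `𝒜`, relative to an overgroup `M`. -/
structure Gd (M E : Subgroup W) (𝒜 : Set (W → W)) : Prop where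
  le : E ≤ M
  au : ∀ f ∈ 𝒜, Au E f
  inv : ∀ f ∈ 𝒜, ∃ g ∈ 𝒜, ∀ x ∈ E, g (f x) = x
  chain : ∀ t ∈ M, ∀ A B, Iv 𝒜 E A → Iv 𝒜 E B → (∀ x ∈ E, ⁅t, x⁆ ∈ A ⊔ Ph E) →
    (∀ x ∈ A, ⁅t, x⁆ ∈ B ⊔ Ph E) → (∀ x ∈ B, ⁅t, x⁆ ∈ Ph E) → t ∈ E
  f1 : E.relIndex (M ⊓ normalizer (E : Set W)) ^ 2 * Nat.card (Ph E) ≤ Nat.card E

/-- The same for the full automorphism group. -/
abbrev Gc (M E : Subgroup W) : Prop := Gd M E {f | Au E f}

/-- Orbits of normal subgroups have odd length. -/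
def Orb (E : Subgroup W) (𝒜 : Set (W → W)) : Prop :=
  ∀ A B : Subgroup W, A.Normal → A ≤ E → Nat.card B ≤ Nat.card A →
    (∀ f ∈ 𝒜, (∀ x ∈ A, f x ∈ A) ∨ ∀ x ∈ A, f x ∈ B) → Iv 𝒜 E A

namespace Au

variable {E : Subgroup W} {f : W → W} (h : Au E f) {x y : W}
include h

theorem one : f 1 = 1 := by simpa using h.mul 1 (one_mem E) 1 (one_mem E)

theorem inv (hx : x ∈ E) : f x⁻¹ = (f x)⁻¹ :=
  eq_inv_of_mul_eq_one_left (by rw [← h.mul _ (inv_mem hx) _ hx, inv_mul_cancel, h.one])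

theorem comm (hx : x ∈ E) (hy : y ∈ E) : f ⁅x, y⁆ = ⁅f x, f y⁆ := by
  rw [commutatorElement_def, commutatorElement_def, h.mul _ (mul_mem (mul_mem hx hy) (inv_mem hx)) _ (inv_mem hy),
    h.mul _ (mul_mem hx hy) _ (inv_mem hx), h.mul _ hx _ hy, h.inv hx, h.inv hy]

theorem eq (hx : x ∈ E) (hy : y ∈ E) (e : f x = f y) : x = y :=
  mul_inv_eq_one.1 (h.inj _ (mul_mem hx (inv_mem hy)) (by
    rw [h.mul _ hx _ (inv_mem hy), h.inv hy, e, mul_inv_cancel]))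

theorem surj [Finite W] (hy : y ∈ E) : ∃ x ∈ E, f x = y := by
  obtain ⟨x, e⟩ := (Finite.injective_iff_surjective (f := fun x : E => (⟨f x, h.mem _ x.2⟩ : E))).1
    (fun a b e => Subtype.ext (h.eq a.2 b.2 (congrArg Subtype.val e))) ⟨y, hy⟩
  exact ⟨x, x.2, congrArg Subtype.val e⟩

/-- The preimage of a subgroup. -/
def pre (A : Subgroup W) : Subgroup W where
  carrier := {x | x ∈ E ∧ f x ∈ A}
  mul_mem' := fun {a b} ha hb => ⟨mul_mem ha.1 hb.1, h.mul a ha.1 b hb.1 ▸ mul_mem ha.2 hb.2⟩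
  one_mem' := ⟨one_mem E, h.one.symm ▸ one_mem A⟩
  inv_mem' := fun {a} ha => ⟨inv_mem ha.1, h.inv ha.1 ▸ inv_mem ha.2⟩

@[simp] theorem mem_pre {A : Subgroup W} : x ∈ h.pre A ↔ x ∈ E ∧ f x ∈ A := Iff.rfl

end Au

theorem au_conj (M : Subgroup W) [hM : M.Normal] (s : W) : Au M fun x => s * x * s⁻¹ :=
  ⟨fun x hx => hM.conj_mem x hx s, fun _ _ _ _ => by group, fun _ _ e => by simpa using e⟩

theorem sq_mem_Ph {E : Subgroup W} {x : W} (hx : x ∈ E) : x * x ∈ Ph E := subset_closure ⟨x, hx, rfl⟩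

theorem Ph_le (E : Subgroup W) : Ph E ≤ E := (closure_le _).2 (by
  rintro _ ⟨x, hx, rfl⟩
  exact mul_mem hx hx)

theorem comm_mem_Ph {E : Subgroup W} {x y : W} (hx : x ∈ E) (hy : y ∈ E) : ⁅x, y⁆ ∈ Ph E := by
  have := mul_mem (mul_mem (sq_mem_Ph hx) (sq_mem_Ph (mul_mem (inv_mem hx) hy))) (sq_mem_Ph (inv_mem hy))
  convert this using 1
  rw [commutatorElement_def]
  group

theorem Ph_le_of {E A : Subgroup W} (h : ∀ x ∈ E, x * x ∈ A) : Ph E ≤ A := (closure_le _).2 (by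
  rintro _ ⟨x, hx, rfl⟩
  exact h x hx)

theorem mem_Om {E : Subgroup W} {x : W} (hx : x ∈ E) (h : x * x = 1) : x ∈ Om E := subset_closure ⟨hx, h⟩

theorem Om_le_of {E A : Subgroup W} (h : ∀ x ∈ E, x * x = 1 → x ∈ A) : Om E ≤ A :=
  (closure_le _).2 fun x hx => h x hx.1 hx.2

theorem mem_Bz {E : Subgroup W} {x : W} (hx : x ∈ E) (h : x * x = 1) (h' : ∀ y ∈ E, ⁅x, y⁆ ∈ Wz E) :
    x ∈ Bz E := subset_closure ⟨hx, h, h'⟩

theorem Bz_le_of {E A : Subgroup W} (h : ∀ x ∈ E, x * x = 1 → (∀ y ∈ E, ⁅x, y⁆ ∈ Wz E) → x ∈ A) :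
    Bz E ≤ A := (closure_le _).2 fun x hx => h x hx.1 hx.2.1 hx.2.2

end Gen

variable {K : Type*} [Field K] [Tits K]

/-- The second centre `U₅ Z₄ Z₆` of `R`. -/
def D3 : Subgroup (Co K) where
  carrier := {x | x.a1 = 0 ∧ x.a2 = 0 ∧ x.b2 = 0 ∧ x.a3 = 0 ∧ x.a4 = 0 ∧ x.a6 = 0 ∧ x.a7 = 0 ∧ x.a8 = 0 ∧ x.b8 = 0}
  mul_mem' := fun ha hb => by simp_all
  one_mem' := by simp
  inv_mem' := fun ha => by simp_all

@[simp] theorem mem_D3 {x : Co K} : x ∈ (D3 : Subgroup (Co K)) ↔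
    x.a1 = 0 ∧ x.a2 = 0 ∧ x.b2 = 0 ∧ x.a3 = 0 ∧ x.a4 = 0 ∧ x.a6 = 0 ∧ x.a7 = 0 ∧ x.a8 = 0 ∧ x.b8 = 0 := Iff.rfl

/-- The subgroup `U₃ U₇ D₃`. -/
def J3 : Subgroup (Co K) where
  carrier := {x | x.a1 = 0 ∧ x.a2 = 0 ∧ x.b2 = 0 ∧ x.a4 = 0 ∧ x.a6 = 0 ∧ x.a8 = 0 ∧ x.b8 = 0}
  mul_mem' := fun ha hb => by simp_all
  one_mem' := by simp
  inv_mem' := fun ha => by simp_all

@[simp] theorem mem_J3 {x : Co K} : x ∈ (J3 : Subgroup (Co K)) ↔
    x.a1 = 0 ∧ x.a2 = 0 ∧ x.b2 = 0 ∧ x.a4 = 0 ∧ x.a6 = 0 ∧ x.a8 = 0 ∧ x.b8 = 0 := Iff.rfl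

/-- The centralizer of `D₃`. -/
def R1 : Subgroup (Co K) where
  carrier := {x | x.a1 = 0 ∧ x.a2 = 0 ∧ x.a8 = 0}
  mul_mem' := fun ha hb => by simp_all
  one_mem' := by simp
  inv_mem' := fun ha => by simp_all

@[simp] theorem mem_R1 {x : Co K} : x ∈ (R1 : Subgroup (Co K)) ↔
    x.a1 = 0 ∧ x.a2 = 0 ∧ x.a8 = 0 := Iff.rfl

/-- The subgroup `Q Z₈`. -/
def T8 : Subgroup (Co K) where
  carrier := {x | x.a8 = 0}
  mul_mem' := fun ha hb => by simp_all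
  one_mem' := by simp
  inv_mem' := fun ha => by simp_all

@[simp] theorem mem_T8 {x : Co K} : x ∈ (T8 : Subgroup (Co K)) ↔
    x.a8 = 0 := Iff.rfl

/-- The subgroup `Q ⊓ R₁`. -/
def M2 : Subgroup (Co K) where
  carrier := {x | x.a1 = 0 ∧ x.a2 = 0 ∧ x.a8 = 0 ∧ x.b8 = 0}
  mul_mem' := fun ha hb => by simp_all
  one_mem' := by simp
  inv_mem' := fun ha => by simp_all

@[simp] theorem mem_M2 {x : Co K} : x ∈ (M2 : Subgroup (Co K)) ↔
    x.a1 = 0 ∧ x.a2 = 0 ∧ x.a8 = 0 ∧ x.b8 = 0 := Iff.rfl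

instance normal_Q : (Q : Subgroup (Co K)).Normal := ⟨fun x hx g => by
  simp only [mem_Q] at hx ⊢
  and_intros <;> simp [hx] <;> grind⟩

instance normal_R : (R : Subgroup (Co K)).Normal := ⟨fun x hx g => by
  simp only [mem_R] at hx ⊢
  and_intros <;> simp [hx] <;> grind⟩

instance normal_F : (F : Subgroup (Co K)).Normal := ⟨fun x hx g => by
  simp only [mem_F] at hx ⊢
  and_intros <;> simp [hx] <;> grind⟩

instance normal_E : (E : Subgroup (Co K)).Normal := ⟨fun x hx g => by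
  simp only [mem_E] at hx ⊢
  and_intros <;> simp [hx] <;> grind⟩

instance normal_V : (V : Subgroup (Co K)).Normal := ⟨fun x hx g => by
  simp only [mem_V] at hx ⊢
  and_intros <;> simp [hx] <;> grind⟩

instance normal_Z : (Z : Subgroup (Co K)).Normal := ⟨fun x hx g => by
  simp only [mem_Z] at hx ⊢
  and_intros <;> simp [hx] <;> grind⟩

instance normal_D3 : (D3 : Subgroup (Co K)).Normal := ⟨fun x hx g => by
  simp only [mem_D3] at hx ⊢
  and_intros <;> simp [hx] <;> grind⟩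

instance normal_J3 : (J3 : Subgroup (Co K)).Normal := ⟨fun x hx g => by
  simp only [mem_J3] at hx ⊢
  and_intros <;> simp [hx] <;> grind⟩

instance normal_R1 : (R1 : Subgroup (Co K)).Normal := ⟨fun x hx g => by
  simp only [mem_R1] at hx ⊢
  and_intros <;> simp [hx] <;> grind⟩

instance normal_T8 : (T8 : Subgroup (Co K)).Normal := ⟨fun x hx g => by
  simp only [mem_T8] at hx ⊢
  and_intros <;> simp [hx] <;> grind⟩

instance normal_M2 : (M2 : Subgroup (Co K)).Normal := ⟨fun x hx g => by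
  simp only [mem_M2] at hx ⊢
  and_intros <;> simp [hx] <;> grind⟩
theorem au_w1 : Au (R : Subgroup (Co K)) w1 :=
  ⟨fun x _ => w1_mem x, fun _ hx _ hy => w1_mul hx hy, fun x hx e => by
    rw [← w1_w1 hx, e]; ext <;> simp⟩

theorem au_w2 : Au (Q : Subgroup (Co K)) w2 :=
  ⟨fun x _ => w2_mem x, fun _ hx _ hy => w2_mul hx hy, fun x hx e => by
    rw [← w2_w2 hx, e]; ext <;> simp⟩

theorem inv_a8 {x : Co K} (h : x * x = 1) : x.a8 = 0 :=
  N_eq_zero (by simpa [CharTwo.add_self_eq_zero, add_assoc] using congrArg Co.b8 h)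

theorem inv_R {x : Co K} (h : x * x = 1) (h1 : x.a1 = 0) : x ∈ (R1 : Subgroup (Co K)) := by
  have h8 := inv_a8 h
  have := congrArg Co.b2 h
  simp [h1, h8] at this
  exact ⟨h1, N_eq_zero (by grind), h8⟩

theorem inv_Q {x : Co K} (h : x * x = 1) (h1 : x.a1 ≠ 0) : x ∈ (Q : Subgroup (Co K)) := by
  have h8 := inv_a8 h
  have := congrArg Co.a6 h
  simp [h8] at this
  exact ⟨h8, (mul_eq_zero.1 (show x.b8 * x.a1 = 0 by grind)).resolve_right h1⟩

theorem inv_R1 {x : Co K} (h : x * x = 1) (hx : x ∈ (R1 : Subgroup (Co K))) :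
    x.a4 * x.a6 = x.b2 * x.b8 ∧ x.a4 * σ x.a4 + x.a3 * x.a6 + x.a7 * x.b2 + σ x.b2 * x.b8 = 0 ∧
      x.a6 * σ x.a6 + x.a3 * x.b8 + x.a4 * x.a7 + x.b2 * σ x.b8 = 0 := by
  have e1 := congrArg Co.a5 h
  have e2 := congrArg Co.b6 h
  have e3 := congrArg Co.b4 h
  rw [mem_R1] at hx
  simp [hx] at e1 e2 e3
  grind

theorem inv_M2 {x : Co K} (h : x * x = 1) (hx : x ∈ (M2 : Subgroup (Co K))) :
    x ∈ (E : Subgroup (Co K)) ∨ x ∈ (J3 : Subgroup (Co K)) := by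
  obtain ⟨e1, e2, e3⟩ := inv_R1 h ⟨hx.1, hx.2.1, hx.2.2.1⟩
  rw [mem_M2] at hx
  simp only [hx, mul_zero, map_zero, add_zero] at e1 e2 e3
  have h4 : x.a4 = 0 := by
    by_contra h4
    have h6 : x.a6 = 0 := by grind
    have h7 : x.a7 = 0 := by grind
    exact h4 (N_eq_zero (by grind))
  have h6 : x.a6 = 0 := N_eq_zero (by grind)
  simp only [mem_E, mem_J3]
  grind

theorem card_le [Finite K] (A : Subgroup (Co K)) (n : ℕ) (f : Co K → Fin n → K)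
    (h : ∀ x ∈ A, ∀ y ∈ A, f x = f y → x = y) : Nat.card A ≤ Nat.card K ^ n := by
  have := Nat.card_le_card_of_injective (fun x : A => f x) fun x y e => Subtype.ext (h x x.2 y y.2 e)
  rwa [Nat.card_fun, Nat.card_eq_fintype_card (α := Fin n), Fintype.card_fin] at this

theorem le_card [Finite K] (A : Subgroup (Co K)) (n : ℕ) (g : (Fin n → K) → Co K) (hg : ∀ v, g v ∈ A)
    (h : Function.Injective g) : Nat.card K ^ n ≤ Nat.card A := by
  have := Nat.card_le_card_of_injective (fun v => (⟨g v, hg v⟩ : A)) fun x y e => h (congrArg Subtype.val e)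
  rwa [Nat.card_fun, Nat.card_eq_fintype_card (α := Fin n), Fintype.card_fin] at this

theorem auto_lemmas_ofsdefs : True := by
  have := @Iv.eq_1.{0}
  have := @Ph.eq_1.{0}
  have := @Om.eq_1.{0}
  have := @Wz.eq_1.{0}
  have := @Bz.eq_1.{0}
  have := @Orb.eq_1.{0}
  have := @Au.pre.eq_1.{0}
  have := @D3.eq_1.{0}
  have := @J3.eq_1.{0}
  have := @R1.eq_1.{0}
  have := @T8.eq_1.{0}
  have := @M2.eq_1.{0}
  trivial

end H78.Ofs
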