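import Mathlib
import Cfsg.Agent.Lib.Ofs.Defs

/-!
# Coordinate facts (OFS CO)
-/

set_option autoImplicit false
set_option linter.unusedSectionVars false
set_option linter.unnecessarySeqFocus false

namespace H78.Ofs

open H78.Oct H78.Oct.Co Subgroup
open scoped commutatorElement

variable {K : Type*} [Field K] [Tits K] [Finite K] {A X : Subgroup (Co K)} {𝒜 : Set (Co K → Co K)}


theorem card_Q : Nat.card (Q : Subgroup (Co K)) = Nat.card K ^ 10 := by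
  refine le_antisymm (card_le _ 10 (fun x => ![x.a1, x.a2, x.b2, x.a3, x.a4, x.b4, x.a5, x.a6, x.b6, x.a7]) fun x hx y hy e => ?_)
    (le_card _ 10 (fun v => ⟨v 0, v 1, v 2, v 3, v 4, v 5, v 6, v 7, v 8, v 9, 0, 0⟩) (fun v => by simp) fun v w e => ?_)
  · simp only [mem_Q] at hx hy
    simp [funext_iff, Fin.forall_fin_succ] at e
    ext <;> simp [hx, hy, e]
  · simp only [Co.mk.injEq] at e
    funext i
    fin_cases i <;> simp [e]

theorem card_R : Nat.card (R : Subgroup (Co K)) = Nat.card K ^ 11 := by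
  refine le_antisymm (card_le _ 11 (fun x => ![x.a2, x.b2, x.a3, x.a4, x.b4, x.a5, x.a6, x.b6, x.a7, x.a8, x.b8]) fun x hx y hy e => ?_)
    (le_card _ 11 (fun v => ⟨0, v 0, v 1, v 2, v 3, v 4, v 5, v 6, v 7, v 8, v 9, v 10⟩) (fun v => by simp) fun v w e => ?_)
  · simp only [mem_R] at hx hy
    simp [funext_iff, Fin.forall_fin_succ] at e
    ext <;> simp [hx, hy, e]
  · simp only [Co.mk.injEq] at e
    funext i
    fin_cases i <;> simp [e]

theorem card_EE : Nat.card (E : Subgroup (Co K)) = Nat.card K ^ 5 := by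
  refine le_antisymm (card_le _ 5 (fun x => ![x.b2, x.a3, x.b4, x.a5, x.b6]) fun x hx y hy e => ?_)
    (le_card _ 5 (fun v => ⟨0, 0, v 0, v 1, 0, v 2, v 3, 0, v 4, 0, 0, 0⟩) (fun v => by simp) fun v w e => ?_)
  · simp only [mem_E] at hx hy
    simp [funext_iff, Fin.forall_fin_succ] at e
    ext <;> simp [hx, hy, e]
  · simp only [Co.mk.injEq] at e
    funext i
    fin_cases i <;> simp [e]

theorem card_J3 : Nat.card (J3 : Subgroup (Co K)) = Nat.card K ^ 5 := by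
  refine le_antisymm (card_le _ 5 (fun x => ![x.a3, x.b4, x.a5, x.b6, x.a7]) fun x hx y hy e => ?_)
    (le_card _ 5 (fun v => ⟨0, 0, 0, v 0, 0, v 1, v 2, 0, v 3, v 4, 0, 0⟩) (fun v => by simp) fun v w e => ?_)
  · simp only [mem_J3] at hx hy
    simp [funext_iff, Fin.forall_fin_succ] at e
    ext <;> simp [hx, hy, e]
  · simp only [Co.mk.injEq] at e
    funext i
    fin_cases i <;> simp [e]

theorem card_Z : Nat.card (Z : Subgroup (Co K)) = Nat.card K := by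
  rw [← pow_one (Nat.card K)]
  refine le_antisymm (card_le _ 1 (fun x => ![x.b4]) fun x hx y hy e => ?_)
    (le_card _ 1 (fun v => ⟨0, 0, 0, 0, 0, v 0, 0, 0, 0, 0, 0, 0⟩) (fun v => by simp) fun v w e => ?_)
  · simp only [mem_Z] at hx hy
    simp [funext_iff, Fin.forall_fin_succ] at e
    ext <;> simp [hx, hy, e]
  · simp only [Co.mk.injEq] at e
    funext i
    fin_cases i <;> simp [e]

theorem card_TR : Nat.card (T8 ⊓ R : Subgroup (Co K)) = Nat.card K ^ 10 := by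
  refine le_antisymm (card_le _ 10 (fun x => ![x.a2, x.b2, x.a3, x.a4, x.b4, x.a5, x.a6, x.b6, x.a7, x.b8]) fun x hx y hy e => ?_)
    (le_card _ 10 (fun v => ⟨0, v 0, v 1, v 2, v 3, v 4, v 5, v 6, v 7, v 8, 0, v 9⟩) (fun v => by simp) fun v w e => ?_)
  · simp only [mem_inf, mem_T8, mem_R] at hx hy
    simp [funext_iff, Fin.forall_fin_succ] at e
    ext <;> simp [hx, hy, e]
  · simp only [Co.mk.injEq] at e
    funext i
    fin_cases i <;> simp [e]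

theorem two_le_card : 2 ≤ Nat.card K := Finite.one_lt_card

theorem co_x1 {y : Co K} (hy : y ∈ (Q : Subgroup (Co K))) (h : y * y = 1) (h1 : y.a1 ≠ 0) (h2 : y.a2 = 0)
    (h6 : y.a6 = 0) : ∃ s, s * x1 y.a1 * s⁻¹ = y := by
  rw [mem_Q] at hy
  have e7 : y.a7 = 0 := by
    have := congrArg Co.a5 h
    simp [hy, h2, h6] at this
    have : σ y.a7 * y.a1 = 0 := by grind
    simpa [h1] using this
  have e4 : y.a4 = 0 := by
    have := congrArg Co.b2 h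
    simp [hy, h2, h6] at this
    have : y.a4 * y.a1 = 0 := by grind
    simpa [h1] using this
  have e6 : y.b6 = 0 := by
    have := congrArg Co.b4 h
    simp [hy, h2, h6, e7, e4] at this
    have : y.b6 * y.a1 = 0 := by grind
    simpa [h1] using this
  obtain ⟨c7, k7⟩ := (σ : K ≃+* K).surjective (y.a5 / y.a1)
  obtain ⟨c6, k6⟩ := (σ : K ≃+* K).surjective ((y.a3 + c7 * σ y.a1) / y.a1)
  refine ⟨⟨0, 0, 0, 0, (y.b2 + c6 * σ y.a1) / y.a1, 0, 0, c6, (y.b4 + c6 * c7 * σ y.a1) / y.a1, c7, 0, 0⟩,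
    mul_inv_eq_iff_eq_mul.2 ?_⟩
  ext <;> simp [hy, h2, h6, e7, e4, e6, k6, k7, div_mul_cancel₀ _ h1] <;> grind

theorem conj_x1' {x : Co K} (h : x * x = 1) (h1 : x.a1 ≠ 0) : ∃ s, s * x1 x.a1 * s⁻¹ = x := by
  have hx := inv_Q h h1
  obtain ⟨t, ht⟩ : ∃ t, t * x.a1 = x.a2 := ⟨_, div_mul_cancel₀ _ h1⟩
  obtain ⟨v, hv⟩ : ∃ v, v * x.a1 = t * σ t * x.a1 + σ t * x.a2 + x.a6 := ⟨_, div_mul_cancel₀ _ h1⟩
  have e1 : (y8 t v * x * (y8 t v)⁻¹).a1 = x.a1 := by simp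
  obtain ⟨s, hs⟩ := co_x1 (normal_Q.conj_mem x hx (y8 t v)) (by rw [conj_mul, h, mul_one, mul_inv_cancel])
    (e1 ▸ h1) (by simp [hx.1, hx.2]; grind) (by simp [hx.1, hx.2]; grind)
  refine ⟨(y8 t v)⁻¹ * s, ?_⟩
  rw [e1] at hs
  calc _ = (y8 t v)⁻¹ * (s * x1 x.a1 * s⁻¹) * y8 t v := by group
    _ = x := by rw [hs]; group

theorem red_R1 {x : Co K} (h : x * x = 1) (hx : x ∈ R1) (h8 : x.b8 ≠ 0) :
    ∃ t, ∃ y ∈ (E : Subgroup (Co K)), y.b2 ≠ 0 ∧ x1 t * w1 y * (x1 t)⁻¹ = x := by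
  obtain ⟨t, ht⟩ := (σ : K ≃+* K).surjective (x.a4 / x.b8)
  replace ht : σ t * x.b8 = x.a4 := by rw [ht, div_mul_cancel₀ _ h8]
  have m : (x1 t)⁻¹ * x * (x1 t)⁻¹⁻¹ ∈ (R1 : Subgroup (Co K)) := normal_R1.conj_mem x hx _
  have s : (x1 t)⁻¹ * x * (x1 t)⁻¹⁻¹ * ((x1 t)⁻¹ * x * (x1 t)⁻¹⁻¹) = 1 := by
    rw [conj_mul, h, mul_one, mul_inv_cancel]
  have i0 := (inv_R1 h hx).1
  have e8 : ((x1 t)⁻¹ * x * (x1 t)⁻¹⁻¹).b8 = x.b8 := by simp
  have e4 : ((x1 t)⁻¹ * x * (x1 t)⁻¹⁻¹).a4 = 0 := by simp [hx.1, hx.2.1, hx.2.2]; grind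
  have e2 : ((x1 t)⁻¹ * x * (x1 t)⁻¹⁻¹).b2 = 0 := by simp [hx.1, hx.2.1, hx.2.2]; grind
  obtain ⟨-, i1, i2⟩ := inv_R1 s m
  refine ⟨t, w1 ((x1 t)⁻¹ * x * (x1 t)⁻¹⁻¹), ?_, by rwa [w1_b2, e8], by rw [w1_w1 m.1]; group⟩
  generalize (x1 t)⁻¹ * x * (x1 t)⁻¹⁻¹ = y at *
  simp only [e4, e2, e8, zero_mul, mul_zero, add_zero, zero_add, map_zero] at i1 i2
  have e6 : y.a6 = 0 := by
    by_contra n
    exact n (N_eq_zero (by grind))
  have e3 : y.a3 = 0 := by grind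
  simp [m.1, m.2.1, m.2.2, e4, e2, e6, e3]

theorem co_E {x a : Co K} (hx : x ∈ (E : Subgroup (Co K))) (h2 : x.b2 ≠ 0) (ha : a ∈ (R1 : Subgroup (Co K)))
    (h : a * a = 1) (c : a * x = x * a) : a ∈ (E : Subgroup (Co K)) := by
  rw [mem_E] at hx
  have e5 := congrArg Co.a5 c
  have e6 := congrArg Co.b6 c
  have e4 := congrArg Co.b4 c
  simp [hx, ha.1, ha.2.1, ha.2.2] at e5 e6 e4
  have e8 : a.b8 = 0 := by grind
  rcases inv_M2 h ⟨ha.1, ha.2.1, ha.2.2, e8⟩ with k | k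
  · exact k
  · simp only [mem_J3] at k
    simp only [mem_E, k, true_and, and_true]
    grind

theorem co_FE {e : Co K} (he : e ∈ (E : Subgroup (Co K))) (s : K) : y4 s 0 * e = e * y4 s 0 := by
  rw [mem_E] at he
  ext <;> simp [he]

/-- An elementary abelian subgroup of `R1` that contains its centralizer lies in `J3`. -/
theorem le_J3 (hA : A ≤ R1) (h : ∀ a ∈ A, a * a = 1)
    (hc : ∀ t ∈ (R1 : Subgroup (Co K)), (∀ a ∈ A, t * a = a * t) → t ∈ A) : A ≤ J3 := by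
  intro x hx
  by_contra n
  have cm : ∀ a ∈ A, a * x = x * a := fun a ha => by
    rw [← inv_eq_of_mul_eq_one_right (h _ (mul_mem ha hx)), mul_inv_rev,
      inv_eq_of_mul_eq_one_right (h a ha), inv_eq_of_mul_eq_one_right (h x hx)]
  have n4 : (y4 1 0 : Co K) * y4 1 0 ≠ 1 := fun e => by simpa using congrArg Co.b4 e
  by_cases h8 : x.b8 = 0
  · have xE := (inv_M2 (h x hx) ⟨(hA hx).1, (hA hx).2.1, (hA hx).2.2, h8⟩).resolve_right n
    have h2 : x.b2 ≠ 0 := fun e => n (by simp only [mem_E] at xE; simp [xE, e])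
    exact n4 (h _ (hc _ (by simp) fun a ha => co_FE (co_E xE h2 (hA ha) (h a ha) (cm a ha)) 1))
  obtain ⟨t, y, yE, h2, e⟩ := red_R1 (h x hx) (hA hx) h8
  have r4 : (y4 1 0 : Co K) ∈ (R : Subgroup (Co K)) := by simp
  refine n4 (au_w1.inj _ (mul_mem r4 r4) ?_)
  have := h _ (hc (x1 t * w1 (y4 1 0) * (x1 t)⁻¹) (normal_R1.conj_mem _ (by simp) _) fun a ha => ?_)
  · rwa [conj_mul, conj_eq_one_iff, ← w1_mul r4 r4] at this
  have m : (x1 t)⁻¹ * a * (x1 t)⁻¹⁻¹ ∈ (R1 : Subgroup (Co K)) := normal_R1.conj_mem a (hA ha) _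
  have yR : y ∈ (R : Subgroup (Co K)) := yE.1
  have k := co_FE (co_E yE h2 (a := w1 ((x1 t)⁻¹ * a * (x1 t)⁻¹⁻¹)) ⟨rfl, m.2.2, m.2.1⟩
    (by rw [← w1_mul m.1 m.1, conj_mul, h a ha, mul_one, mul_inv_cancel, au_w1.one])
    (au_w1.eq (mul_mem (w1_mem _) yR) (mul_mem yR (w1_mem _)) (by
      rw [w1_mul (w1_mem _) yR, w1_mul yR (w1_mem _), w1_w1 m.1]
      have := cm a ha
      rw [← e] at this
      calc _ = (x1 t)⁻¹ * (a * (x1 t * w1 y * (x1 t)⁻¹)) * x1 t := by group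
        _ = _ := by rw [this]; group))) 1
  have k2 := congrArg w1 k
  rw [w1_mul r4 (w1_mem _), w1_mul (w1_mem _) r4, w1_w1 m.1] at k2
  calc _ = x1 t * (w1 (y4 1 0) * ((x1 t)⁻¹ * a * (x1 t)⁻¹⁻¹)) * (x1 t)⁻¹ := by group
    _ = _ := by rw [k2]; group

theorem cent_E' {t : Co K} (h : ∀ e ∈ (E : Subgroup (Co K)), t * e = e * t) : t ∈ (F : Subgroup (Co K)) := by
  have e1 := congrArg Co.b4 (h (y6 0 1) (by simp))
  have e2 := congrArg Co.b4 (h (x5 1) (by simp))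
  have e3 := congrArg Co.b6 (h (x5 1) (by simp))
  simp at e1 e2 e3
  have a1 : t.a1 = 0 := by grind
  have a8 : t.a8 = 0 := by grind
  have a2 : t.a2 = 0 := by grind
  have e4 := congrArg Co.b4 (h (x3 1) (by simp))
  have e5 := congrArg Co.b6 (h (x3 1) (by simp))
  have e6 := congrArg Co.b4 (h (y2 0 1) (by simp))
  simp [a1, a2, a8] at e4 e5 e6
  simp only [mem_F]
  grind

theorem cent_J3 {t : Co K} (h : ∀ e ∈ (J3 : Subgroup (Co K)), t * e = e * t) : t ∈ (J3 : Subgroup (Co K)) := by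
  have e1 := congrArg Co.b4 (h (y6 0 1) (by simp))
  have e2 := congrArg Co.b4 (h (x5 1) (by simp))
  have e3 := congrArg Co.b6 (h (x5 1) (by simp))
  simp at e1 e2 e3
  have a1 : t.a1 = 0 := by grind
  have a8 : t.a8 = 0 := by grind
  have a2 : t.a2 = 0 := by grind
  have e4 := congrArg Co.b4 (h (x3 1) (by simp))
  have e5 := congrArg Co.b6 (h (x3 1) (by simp))
  have e6 := congrArg Co.b4 (h (x7 1) (by simp))
  have e7 := congrArg Co.b6 (h (x7 1) (by simp))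
  simp [a1, a2, a8] at e4 e5 e6 e7
  simp only [mem_J3]
  grind

theorem au_J3 {f : Co K → Co K} (h : Au R1 f) : ∀ x ∈ (J3 : Subgroup (Co K)), f x ∈ (J3 : Subgroup (Co K)) := by
  have l : (J3 : Subgroup (Co K)) ≤ R1 := fun x hx => ⟨hx.1, hx.2.1, hx.2.2.2.2.2.1⟩
  let B : Subgroup (Co K) :=
    { carrier := {y | ∃ x ∈ (J3 : Subgroup (Co K)), f x = y}
      mul_mem' := by
        rintro _ _ ⟨a, ha, rfl⟩ ⟨b, hb, rfl⟩
        exact ⟨_, mul_mem ha hb, h.mul a (l ha) b (l hb)⟩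
      one_mem' := ⟨1, one_mem _, h.one⟩
      inv_mem' := by
        rintro _ ⟨a, ha, rfl⟩
        exact ⟨_, inv_mem ha, h.inv (l ha)⟩ }
  refine fun x hx => le_J3 (A := B) ?_ ?_ ?_ ⟨x, hx, rfl⟩
  · rintro _ ⟨a, ha, rfl⟩
    exact h.mem a (l ha)
  · rintro _ ⟨a, ha, rfl⟩
    rw [← h.mul a (l ha) a (l ha), show a * a = 1 by
      simp only [mem_J3] at ha
      ext <;> simp [ha] <;> grind, h.one]
  · intro t ht c
    obtain ⟨u, hu, rfl⟩ := h.surj ht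
    refine ⟨u, cent_J3 fun e he => h.eq (mul_mem hu (l he)) (mul_mem (l he) hu) ?_, rfl⟩
    rw [h.mul _ hu _ (l he), h.mul _ (l he) _ hu]
    exact c _ ⟨e, he, rfl⟩

theorem Z_le_Ph (hV : V ≤ X) (h : ¬ X ≤ R) : Z ≤ Ph X := by
  obtain ⟨e, he, h1⟩ := SetLike.not_le_iff_exists.1 h
  intro z hz
  obtain ⟨u, hu⟩ : ∃ u, u * e.a1 = z.b4 := ⟨_, div_mul_cancel₀ _ h1⟩
  have := comm_mem_Ph (hV (show y6 0 u ∈ V by simp)) he
  convert this using 1
  simp only [mem_Z] at hz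
  ext <;> simp [commutatorElement_def, hz] <;> grind

theorem Wz_le_E (hV : V ≤ X) (h : ¬ X ≤ R) : Wz X ≤ E := by
  obtain ⟨e, he, h1⟩ := SetLike.not_le_iff_exists.1 h
  rw [mem_R] at h1
  rintro w ⟨-, w2, c⟩
  have e1 := congrArg Co.b4 (c _ (hV (show y6 0 1 ∈ V by simp)))
  simp at e1
  have m := inv_R w2 (by grind)
  have n := σ_ne h1
  have e4 := congrArg Co.a4 (c e he)
  simp [m.1, m.2.1, m.2.2] at e4
  rcases inv_M2 w2 ⟨m.1, m.2.1, m.2.2, by grind⟩ with k | k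
  · exact k
  · simp only [mem_J3] at k
    have e3 := congrArg Co.a3 (c e he)
    simp [k] at e3
    simp only [mem_E, k, true_and, and_true]
    grind

theorem co_step {P N : Subgroup (Co K)} (hN : N ≤ P) {c d : Co K} (hc : c ∈ P) (h : c⁻¹ * d ∈ N) : d ∈ P :=
  (mul_mem_cancel_left (inv_mem hc)).1 (hN h)

theorem co_D3 (h4 : ∀ s, y4 s 0 ∈ X) (h6 : ∀ s, y6 s 0 ∈ X) : (D3 : Subgroup (Co K)) ≤ Ph X := by
  have hV : (V : Subgroup (Co K)) ≤ Ph X := fun v hv => by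
    obtain ⟨s, hs⟩ := N_surj v.b4
    obtain ⟨t, ht⟩ := N_surj v.b6
    convert mul_mem (sq_mem_Ph (h4 s)) (sq_mem_Ph (h6 t)) using 1
    simp only [mem_V] at hv
    ext <;> simp [hv, CharTwo.add_self_eq_zero] <;> grind
  intro d hd
  refine co_step hV (comm_mem_Ph (h4 d.a5) (h6 1)) ?_
  simp only [mem_D3] at hd
  simp only [mem_V]
  and_intros <;> simp [commutatorElement_def, hd] <;> grind

theorem E_le_Ph_Q : (E : Subgroup (Co K)) ≤ Ph Q := by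
  intro d hd
  obtain ⟨s, hs⟩ := N_surj d.b2
  refine co_step (co_D3 (X := Q) (by simp) (by simp)) (mul_mem (sq_mem_Ph (show y2 s 0 ∈ Q by simp))
    (comm_mem_Ph (show y4 d.a3 0 ∈ Q by simp) (show y2 1 0 ∈ Q by simp))) ?_
  simp only [mem_E] at hd
  simp only [mem_D3]
  and_intros <;> simp [commutatorElement_def, hd] <;> grind

theorem D3_le_Ph_R1 : (D3 : Subgroup (Co K)) ≤ Ph R1 := co_D3 (by simp) (by simp)

theorem R1_le_Ph_R (hq : 2 < Nat.card K) : (R1 : Subgroup (Co K)) ≤ Ph R := by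
  have h3 : (J3 : Subgroup (Co K)) ≤ Ph R := fun d hd => by
    refine co_step (co_D3 (X := R) (by simp) (by simp)) (mul_mem
      (comm_mem_Ph (show y4 d.a3 0 ∈ R by simp) (show y2 1 0 ∈ R by simp))
      (comm_mem_Ph (show y6 d.a7 0 ∈ R by simp) (show y8 1 0 ∈ R by simp))) ?_
    simp only [mem_J3] at hd
    simp only [mem_D3]
    and_intros <;> simp [commutatorElement_def, hd] <;> grind
  have h4 : ∀ d ∈ (R1 : Subgroup (Co K)), d.a4 = 0 → d.a6 = 0 → d ∈ Ph R := fun d hd a4 a6 => by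
    obtain ⟨s, hs⟩ := N_surj d.b2
    obtain ⟨t, ht⟩ := N_surj d.b8
    refine co_step h3 (mul_mem (sq_mem_Ph (show y2 s 0 ∈ R by simp))
      (sq_mem_Ph (show y8 t 0 ∈ R by simp))) ?_
    simp only [mem_R1] at hd
    simp only [mem_J3]
    and_intros <;> simp [hd, a4, a6, CharTwo.add_self_eq_zero] <;> grind
  have h5 : ∀ g h : K, ∃ c ∈ Ph (R : Subgroup (Co K)), c ∈ (R1 : Subgroup (Co K)) ∧ c.a4 = g * σ h ∧
      c.a6 = h * σ g := fun g h =>
    ⟨_, comm_mem_Ph (show y2 h 0 ∈ R by simp) (show y8 g 0 ∈ R by simp), by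
      simp only [mem_R1]
      and_intros <;> simp [commutatorElement_def] <;> grind⟩
  obtain ⟨g, g0, g1⟩ : ∃ g : K, g ≠ 0 ∧ g ≠ 1 := by
    by_contra! n
    have := Nat.card_le_card_of_surjective (fun b : Bool => if b then (1 : K) else 0) fun x => by
      by_cases e : x = 0
      exacts [⟨false, e.symm⟩, ⟨true, (n x e).symm⟩]
    simp at this
    omega
  intro d hd
  have g2 : g + 1 ≠ 0 := fun e => g1 (by grind)
  obtain ⟨k, hk⟩ := (σ : K ≃+* K).surjective ((d.a4 + σ d.a6) / (g ^ 2 + g))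
  replace hk : σ k * (g ^ 2 + g) = d.a4 + σ d.a6 := by
    rw [hk, div_mul_cancel₀ _ (by rw [show g ^ 2 + g = g * (g + 1) by ring]; exact mul_ne_zero g0 g2)]
  obtain ⟨c1, p1, r1, a1, b1⟩ := h5 1 (k * σ g + d.a6)
  obtain ⟨c2, p2, r2, a2, b2⟩ := h5 g k
  refine (mul_mem_cancel_left (inv_mem (mul_mem p1 p2))).1
    (h4 _ (mul_mem (inv_mem (mul_mem r1 r2)) hd) ?_ ?_) <;>
  simp [r1.1, r1.2.1, r1.2.2, r2.1, r2.2.1, r2.2.2, hd.1, hd.2.1, hd.2.2, a1, a2, b1, b2] <;> grind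

end H78.Ofs
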