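import Mathlib
import Cfsg.Agent.Lib.Ofs.Defs
import Cfsg.Agent.Lib.SpX.Ch

/-!
# Fusion systems over a Sylow 2-subgroup of the large Ree groups: interfaces, part two (helper78)
-/

set_option autoImplicit false
set_option linter.unusedSectionVars false

namespace H78.Ofs

open H78.Oct H78.Oct.Co Subgroup
open H93.SX (Cj nr)
open scoped commutatorElement

section Gen

variable {W X G : Type*} [Group W] [Group X] [Group G]

/-- `G` is a model at the normal subgroup `E` of its Sylow 2-subgroup `W`. -/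
structure Md (ψ : W →* G) (E : Subgroup W) [(E.map ψ).Normal] : Prop where
  inj : Function.Injective ψ
  pg : IsPGroup 2 W
  odd : Odd ψ.range.index
  cen : ∀ g, (∀ x ∈ E, Cj ψ g x x) → g ∈ E.map ψ
  se : ∃ H : Subgroup (G ⧸ E.map ψ), Cfsg.IsStronglyEmbedded H

/-- `ι` and `ψ` induce the same automorphisms on `E` and on `W`. -/
structure Lk (ι : W →* X) (ψ : W →* G) (E : Subgroup W) : Prop where
  e1 : ∀ g ∈ nr ι E, ∃ k, ∀ x ∈ E, ∀ y, Cj ι g x y → Cj ψ k x y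
  e2 : ∀ k ∈ nr ψ E, ∃ g, ∀ x ∈ E, ∀ y, Cj ψ k x y → Cj ι g x y
  t1 : ∀ g ∈ nr ι ⊤, g ∈ nr ι E → ∃ k, ∀ x y, Cj ι g x y → Cj ψ k x y
  t2 : ∀ k ∈ nr ψ ⊤, ∃ g, ∀ x y, Cj ψ k x y → Cj ι g x y

/-- The automizer of `W` is `Inn(W) H`. -/
structure Tp (ι : W →* X) (H : Subgroup (MulAut W)) : Prop where
  top : ∀ g ∈ nr ι ⊤, ∃ s, ∃ τ ∈ H, ∀ x, Cj ι g x (s * τ x * s⁻¹)
  ex : ∀ τ ∈ H, ∃ g, ∀ x, Cj ι g x (τ x)

/-- The Bruhat decomposition of a model. -/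
def Brm (ψ : W →* G) (n : G) : Prop := ∀ g, g ∈ nr ψ ⊤ ∨ ∃ b ∈ nr ψ ⊤, ∃ s, g = b * n * ψ s

/-- The Bruhat decomposition of the automizer of `E`, with Weyl element acting as `w`. -/
def Br (ι : W →* X) (E : Subgroup W) (w : W → W) : Prop :=
  ∃ n, (∀ x ∈ E, Cj ι n x (w x)) ∧ ∀ g ∈ nr ι E, ∃ b ∈ nr ι ⊤,
    (∀ x ∈ E, ∀ y, Cj ι g x y → Cj ι b x y) ∨ ∃ s, ∀ x ∈ E, ∀ y, Cj ι g x y → Cj ι (b * n * ι s) x y

/-- The split BN-pair of rank one of a model; `n` normalises the torus `H` and acts on it as `ω`. -/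
structure Rk (ψ : W →* G) (E : Subgroup W) (H : Subgroup (MulAut W)) (n : G) (ω : H →* H) : Prop where
  bru : Brm ψ n
  om : ∀ τ : H, ∀ x ∈ E, ∀ y, Cj ψ n x y → Cj ψ n (τ.1 x) ((ω τ).1 y)
  fix : ∀ τ : H, (∀ s, τ.1 s * s⁻¹ ∈ E) → ω τ = τ
  tr : ∀ i j, i ∉ E → j ∉ E → i * i ∈ E → j * j ∈ E → ∃ τ : H, ω τ = τ⁻¹ ∧ τ.1 i * j⁻¹ ∈ E
  triv : ∀ τ : H, ω τ = τ⁻¹ → ∀ A B : Subgroup W, (A.map ψ).Normal → (B.map ψ).Normal →
    (∀ s : W, ∀ x ∈ A, ⁅s, x⁆ ∈ B) → ∀ x ∈ A, τ.1 x * x⁻¹ ∈ B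
  com : ∀ τ τ' : H, ω τ = τ⁻¹ → ω τ' = τ'⁻¹ → ∀ s, τ.1 (τ'.1 s) * (τ'.1 (τ.1 s))⁻¹ ∈ E

/-- The odd core of `G / E` centralises the Sylow subgroup. -/
def Oc (ψ : W →* G) (E : Subgroup W) [(E.map ψ).Normal] : Prop :=
  ∀ o : G, (o : G ⧸ E.map ψ) ∈ Cfsg.oddCore (G ⧸ E.map ψ) → ∀ s, ⁅o, ψ s⁆ ∈ E.map ψ

/-- `g` acts trivially on `A / B`. -/
def Tv (ψ : W →* G) (g : G) (A B : Subgroup W) : Prop := ∀ x ∈ A, ∃ y, Cj ψ g x y ∧ y * x⁻¹ ∈ B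

end Gen

variable {K : Type*} [Field K] [Tits K]

variable (K) in
/-- The field automorphisms commuting with the Tits automorphism. -/
def Gal : Subgroup (RingAut K) := centralizer {(σ : K ≃+* K)}

theorem gal_σ (φ : Gal K) (x : K) : φ.1 (σ x) = σ (φ.1 x) :=
  congrArg (fun f : RingAut K => f x) (mem_centralizer_singleton_iff.1 φ.2)

/-- A field automorphism applied to the coordinates. -/
def fl (φ : Gal K) (x : Co K) : Co K :=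
  ⟨φ.1 x.a1, φ.1 x.a2, φ.1 x.b2, φ.1 x.a3, φ.1 x.a4, φ.1 x.b4, φ.1 x.a5, φ.1 x.a6, φ.1 x.b6, φ.1 x.a7,
    φ.1 x.a8, φ.1 x.b8⟩

@[simp] theorem fl_a1 (φ : Gal K) (x : Co K) : (fl φ x).a1 = φ.1 x.a1 := rfl
@[simp] theorem fl_a2 (φ : Gal K) (x : Co K) : (fl φ x).a2 = φ.1 x.a2 := rfl
@[simp] theorem fl_b2 (φ : Gal K) (x : Co K) : (fl φ x).b2 = φ.1 x.b2 := rfl
@[simp] theorem fl_a3 (φ : Gal K) (x : Co K) : (fl φ x).a3 = φ.1 x.a3 := rfl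
@[simp] theorem fl_a4 (φ : Gal K) (x : Co K) : (fl φ x).a4 = φ.1 x.a4 := rfl
@[simp] theorem fl_b4 (φ : Gal K) (x : Co K) : (fl φ x).b4 = φ.1 x.b4 := rfl
@[simp] theorem fl_a5 (φ : Gal K) (x : Co K) : (fl φ x).a5 = φ.1 x.a5 := rfl
@[simp] theorem fl_a6 (φ : Gal K) (x : Co K) : (fl φ x).a6 = φ.1 x.a6 := rfl
@[simp] theorem fl_b6 (φ : Gal K) (x : Co K) : (fl φ x).b6 = φ.1 x.b6 := rfl
@[simp] theorem fl_a7 (φ : Gal K) (x : Co K) : (fl φ x).a7 = φ.1 x.a7 := rfl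
@[simp] theorem fl_a8 (φ : Gal K) (x : Co K) : (fl φ x).a8 = φ.1 x.a8 := rfl
@[simp] theorem fl_b8 (φ : Gal K) (x : Co K) : (fl φ x).b8 = φ.1 x.b8 := rfl

theorem fl_mul (φ : Gal K) (x y : Co K) : fl φ (x * y) = fl φ x * fl φ y := by
  ext <;> simp [gal_σ]

theorem fl_fl (φ φ' : Gal K) (x : Co K) : fl φ (fl φ' x) = fl (φ * φ') x := rfl

theorem fl_one (x : Co K) : fl 1 x = x := rfl

/-- Field automorphisms of the Sylow subgroup. -/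
def fld : Gal K →* MulAut (Co K) where
  toFun φ := ⟨⟨fl φ, fl φ⁻¹, fun x => by rw [fl_fl, inv_mul_cancel, fl_one],
    fun x => by rw [fl_fl, mul_inv_cancel, fl_one]⟩, fl_mul φ⟩
  map_one' := rfl
  map_mul' _ _ := rfl

@[simp] theorem fld_apply (φ : Gal K) (x : Co K) : fld φ x = fl φ x := rfl

/-- Diagonal automorphisms of the Sylow subgroup. -/
def tA : Kˣ × Kˣ →* MulAut (Co K) where
  toFun p := ⟨⟨tor p.1 p.2, tor p.1⁻¹ p.2⁻¹, fun x => by rw [tor_tor, inv_mul_cancel, inv_mul_cancel, tor_one],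
    fun x => by rw [tor_tor, mul_inv_cancel, mul_inv_cancel, tor_one]⟩, map_mul _⟩
  map_one' := MulEquiv.ext tor_one
  map_mul' p p' := MulEquiv.ext fun x => (tor_tor p.1 p.2 p'.1 p'.2 x).symm

@[simp] theorem tA_apply (c k : Kˣ) (x : Co K) : tA (c, k) x = tor c k x := rfl

/-- A field automorphism on units. -/
def gu (φ : Gal K) : Kˣ →* Kˣ := Units.map φ.1.toMonoidHom

@[simp] theorem gu_val (φ : Gal K) (c : Kˣ) : (gu φ c : K) = φ.1 c := rfl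

theorem fl_tor (φ : Gal K) (c k : Kˣ) (x : Co K) : fl φ (tor c k x) = tor (gu φ c) (gu φ k) (fl φ x) := by
  ext <;> simp [gal_σ]

theorem fl_w1 (φ : Gal K) (x : Co K) : fl φ (w1 x) = w1 (fl φ x) := by ext <;> simp [gal_σ]

theorem fl_w2 (φ : Gal K) (x : Co K) : fl φ (w2 x) = w2 (fl φ x) := by ext <;> simp [gal_σ]

theorem w2_tor (c k : Kˣ) (x : Co K) : w2 (tor c k x) = tor c (σu c * k⁻¹) (w2 x) := by
  have := c.ne_zero
  have := k.ne_zero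
  have := σ_ne c.ne_zero
  have := σ_ne k.ne_zero
  ext <;> simp <;> field_simp <;> simp

theorem fld_tA (φ : Gal K) (p : Kˣ × Kˣ) : fld φ * tA p = tA (gu φ p.1, gu φ p.2) * fld φ :=
  MulEquiv.ext fun x => fl_tor φ p.1 p.2 x

variable (K) in
/-- Diagonal times field automorphisms. -/
def TG : Subgroup (MulAut (Co K)) where
  carrier := {α | ∃ p φ, α = tA p * fld φ}
  one_mem' := ⟨1, 1, by simp⟩
  mul_mem' := by
    rintro _ _ ⟨p, φ, rfl⟩ ⟨p', φ', rfl⟩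
    exact ⟨p * (gu φ p'.1, gu φ p'.2), φ * φ', by
      rw [map_mul, map_mul, mul_assoc, ← mul_assoc (fld φ), fld_tA, mul_assoc, mul_assoc]⟩
  inv_mem' := by
    rintro _ ⟨p, φ, rfl⟩
    exact ⟨_, φ⁻¹, by rw [mul_inv_rev, ← map_inv, ← map_inv, fld_tA]⟩

theorem mem_TG {α : MulAut (Co K)} : α ∈ TG K ↔ ∃ p φ, α = tA p * fld φ := Iff.rfl

/-- `α` preserves `Q` and `R`. -/
def Pr (α : MulAut (Co K)) : Prop :=
  (∀ x, α x ∈ (Q : Subgroup (Co K)) ↔ x ∈ (Q : Subgroup (Co K))) ∧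
    ∀ x, α x ∈ (R : Subgroup (Co K)) ↔ x ∈ (R : Subgroup (Co K))

/-- The fusion pattern of `²F₄(q)` extended by the field automorphisms in `A`. -/
structure Std {X : Type*} [Group X] (ι : Co K →* X) (A : Subgroup (Gal K)) : Prop where
  tp : Tp ι (tA.range ⊔ A.map fld)
  nQ : Br ι Q w2
  nR : Br ι R w1

/-- An element of order five in the model at `Q` for `q = 2`. -/
structure Fv {G : Type*} [Group G] (ψ : Co K →* G) (f : G) : Prop where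
  ord : orderOf f = 5
  dec : ∀ g, ∃ j : ℕ, ∃ s, g = f ^ j * ψ s
  nrm : ∀ s, ∃ q ∈ (Q : Subgroup (Co K)), ∃ k : ℕ, ψ (q * s) * f * (ψ (q * s))⁻¹ = f ^ k
  fpf : ∀ x ∈ (Q : Subgroup (Co K)), ∀ y, Cj ψ f x y → y * x⁻¹ ∈ (F : Subgroup (Co K)) →
    x ∈ (F : Subgroup (Co K))

theorem auto_lemmas_ofsdef2 : True := by
  have := @Brm.eq_1.{0, 0}
  have := @Br.eq_1.{0, 0}
  have := @Oc.eq_1.{0, 0}
  have := @Tv.eq_1.{0, 0}
  have := @Gal.eq_1.{0}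
  have := @fl.eq_1.{0}
  have := @fld.eq_1.{0}
  have := @tA.eq_1.{0}
  have := @gu.eq_1.{0}
  have := @TG.eq_1.{0}
  have := @Pr.eq_1.{0}
  trivial

end H78.Ofs
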