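import Mathlib
import Cfsg.Agent.Lib.Ofs.Def2
import Cfsg.Agent.Lib.Ofs.CO
import Cfsg.Agent.Lib.Oct.PA
import Cfsg.Agent.Lib.Core.CoprimeBasic
import Cfsg.Agent.Lib.PGroup.Frattini

/-!
# Automorphisms of the Sylow subgroup (OFS AU)
-/

set_option autoImplicit false
set_option linter.unusedSectionVars false

namespace H78.Ofs

open H78.Oct H78.Oct.Co Subgroup
open H93.SX (Cj nr)
open scoped commutatorElement

variable {K : Type*} [Field K] [Tits K] [Finite K] {α : MulAut (Co K)}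

theorem au_comm (φ ψ : RingAut K) (x : K) : φ (ψ x) = ψ (φ x) := by
  obtain ⟨g, hg⟩ := IsCyclic.exists_monoid_generator (α := Kˣ)
  have h : ∀ χ : RingAut K, ∃ a : ℕ, χ g = (g : K) ^ a := fun χ => by
    obtain ⟨a, ha⟩ := hg (Units.mk0 (χ g) ((map_ne_zero χ).2 g.ne_zero))
    exact ⟨a, by simpa using (congrArg Units.val ha).symm⟩
  obtain ⟨a, ha⟩ := h φ
  obtain ⟨b, hb⟩ := h ψ
  by_cases hx : x = 0
  · simp [hx]
  obtain ⟨n, hn⟩ := hg (Units.mk0 x hx)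
  have e : x = (g : K) ^ n := by simpa using (congrArg Units.val hn).symm
  rw [e]
  simp only [map_pow, ha, hb, ← pow_mul]
  congr 1; ring

theorem mem_gal (φ : RingAut K) : φ ∈ Gal K :=
  mem_centralizer_singleton_iff.2 (RingEquiv.ext fun x => au_comm φ σ x)

theorem odd_gal (m : ℕ) (hK : Nat.card K = 2 ^ (2 * m + 1)) : Odd (Nat.card (Gal K)) := by
  let _ : Algebra (ZMod 2) K := ZMod.algebra K 2
  have h1 : Module.finrank (ZMod 2) K = 2 * m + 1 := by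
    have := Module.natCard_eq_pow_finrank (K := ZMod 2) (V := K)
    rw [hK, Nat.card_zmod] at this
    exact (Nat.pow_right_injective le_rfl this).symm
  have h2 : Nat.card (RingAut K) = Nat.card (K ≃ₐ[ZMod 2] K) := Nat.card_congr
    ⟨fun φ => AlgEquiv.ofRingEquiv (f := φ) fun x =>
        congrArg (fun f : ZMod 2 →+* K => f x)
          (RingHom.ext_zmod ((φ : K →+* K).comp (algebraMap (ZMod 2) K)) (algebraMap (ZMod 2) K)),
      fun φ => φ.toRingEquiv, fun _ => rfl, fun _ => rfl⟩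
  have h3 := card_subgroup_dvd_card (Gal K)
  rw [h2, IsGalois.card_aut_eq_finrank, h1] at h3
  exact Odd.of_dvd_nat ⟨m, rfl⟩ h3

theorem au_pow (p : Kˣ × Kˣ) (φ : Gal K) (j : ℕ) : ∃ p', (tA p * fld φ) ^ j = tA p' * fld (φ ^ j) := by
  induction j with
  | zero => exact ⟨1, by simp⟩
  | succ j ih =>
    obtain ⟨p', e⟩ := ih
    exact ⟨p' * (gu (φ ^ j) p.1, gu (φ ^ j) p.2), by
      rw [pow_succ, e, pow_succ, map_mul, map_mul, mul_assoc, ← mul_assoc (fld (φ ^ j)), fld_tA,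
        mul_assoc, mul_assoc]⟩

theorem odd_TG (h : Odd (Nat.card (Gal K))) : Odd (Nat.card (TG K)) := by
  by_contra hc
  obtain ⟨⟨_, p, φ, rfl⟩, ho⟩ := exists_prime_orderOf_dvd_card' (G := TG K) 2
    (Nat.not_odd_iff_even.1 hc).two_dvd
  rw [← orderOf_coe] at ho
  change orderOf (tA p * fld φ) = 2 at ho
  obtain ⟨p', e⟩ := au_pow p φ (Nat.card (Gal K))
  rw [pow_card_eq_one', map_one, mul_one] at e
  have e2 : (tA p * fld φ) ^ (Nat.card (Gal K) * (orderOf p'.1 * orderOf p'.2)) = 1 := by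
    rw [pow_mul, e, ← map_pow, show p' ^ (orderOf p'.1 * orderOf p'.2) = 1 from Prod.ext
      (by rw [Prod.pow_fst, pow_mul, pow_orderOf_eq_one, one_pow]; rfl)
      (by rw [Prod.pow_snd, pow_mul', pow_orderOf_eq_one, one_pow]; rfl), map_one]
  have e3 := orderOf_dvd_of_pow_eq_one e2
  rw [ho] at e3
  exact Nat.not_even_iff_odd.2 (h.mul ((odd_unit _).mul (odd_unit _))) (even_iff_two_dvd.2 e3)

theorem pr_TG (h : α ∈ TG K) : Pr α := by
  obtain ⟨⟨c, k⟩, φ, rfl⟩ := h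
  constructor <;> intro x <;> simp [MulAut.mul_apply]

theorem au_a1 (h : Pr α) (x : Co K) : (α x).a1 = 0 ↔ x.a1 = 0 := h.2 x

theorem au_sqQ (x : Co K) : x * x ∈ (Q : Subgroup (Co K)) ↔ x.a8 = 0 := by
  simp only [mem_Q, mul_a8, mul_b8, add_assoc, CharTwo.add_self_eq_zero, add_zero, true_and]
  exact ⟨N_eq_zero, fun e => by rw [e, zero_mul]⟩

theorem au_a8 (h : Pr α) (x : Co K) : (α x).a8 = 0 ↔ x.a8 = 0 := by
  rw [← au_sqQ, ← map_mul, h.1, au_sqQ]

theorem au_presR1 (h : Pr α) {x : Co K} (hx : x ∈ (R1 : Subgroup (Co K))) :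
    α x ∈ (R1 : Subgroup (Co K)) := by
  have h1 := (au_a1 h x).2 hx.1
  have h8 := (au_a8 h x).2 hx.2.2
  refine ⟨h1, ?_, h8⟩
  obtain ⟨y, hy⟩ := α.surjective (y8 1 0)
  have yR : y.a1 = 0 := (au_a1 h y).1 (by rw [hy]; rfl)
  have s1 : x * x ∈ (D3 : Subgroup (Co K)) := by
    rw [mem_R1] at hx
    simp only [mem_D3]
    and_intros <;> simp [hx, CharTwo.add_self_eq_zero]
  have s2 : ∀ d ∈ (D3 : Subgroup (Co K)), ⁅d, y⁆ ∈ (V : Subgroup (Co K)) := fun d hd => by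
    simp only [mem_D3] at hd
    simp only [mem_V]
    and_intros <;> simp [commutatorElement_def, hd, yR] <;> grind
  have s3 : ∀ v ∈ (V : Subgroup (Co K)), v * y = y * v := fun v hv => by
    simp only [mem_V] at hv
    ext <;> simp [hv, yR] <;> grind
  have s4 := congrArg α (s3 _ (s2 _ s1))
  rw [map_mul, map_mul, map_commutatorElement, map_mul, hy] at s4
  generalize α x = z at h1 h8 s4
  have t1 : (z * z).a1 = 0 ∧ (z * z).a2 = 0 ∧ (z * z).a4 = 0 ∧ (z * z).a6 = 0 ∧ (z * z).a8 = 0 ∧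
      (z * z).b8 = 0 ∧ (z * z).b2 = z.a2 * σ z.a2 := by
    and_intros <;> simp [h1, h8, CharTwo.add_self_eq_zero] <;> grind
  generalize z * z = e at t1 s4
  obtain ⟨a1, a2, a4, a6, a8, b8, b2⟩ := t1
  have t2 : ⁅e, y8 1 0⁆ ∈ (J3 : Subgroup (Co K)) ∧ ⁅e, y8 (1 : K) 0⁆.a3 = e.b2 := by
    simp only [mem_J3]
    and_intros <;> simp [commutatorElement_def, a1, a2, a4, a6, a8, b8] <;> grind
  generalize ⁅e, y8 (1 : K) 0⁆ = c at t2 s4
  obtain ⟨t2, t3⟩ := t2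
  simp only [mem_J3] at t2
  have t4 := congrArg Co.a5 s4
  simp [t2] at t4
  exact N_eq_zero (by rw [← b2, ← t3, t4])

theorem au_cm (x y : Co K) : ⁅x, y⁆.a1 = 0 ∧ ⁅x, y⁆.a8 = 0 ∧ ⁅x, y⁆.a2 = x.a1 * y.a8 + x.a8 * y.a1 := by
  and_intros <;> simp [commutatorElement_def] <;> grind

theorem au_l {x y : Co K} (x1 : x.a1 = 0) (x8 : x.a8 = 0) (y1 : y.a1 = 0) (y8 : y.a8 = 0) :
    (x⁻¹ * y).a1 = 0 ∧ (x⁻¹ * y).a8 = 0 ∧ (x⁻¹ * y).a2 = x.a2 + y.a2 ∧ (x⁻¹ * y).a4 = x.a4 + y.a4 ∧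
      (x⁻¹ * y).a6 = x.a6 + y.a6 := by
  and_intros <;> simp [x1, x8, y1, y8]

theorem aut_semi (h : Pr α) : ∃ τ ∈ TG K, ∀ x, (α x).a1 = (τ x).a1 ∧ (α x).a8 = (τ x).a8 := by
  let f1 : K → K := fun t => (α (x1 t)).a1
  let f8 : K → K := fun t => (α (y8 t 0)).a8
  have e1 : ∀ x, (α x).a1 = f1 x.a1 := fun x => by
    have := (au_a1 h ((x1 x.a1)⁻¹ * x)).2 (by simp [CharTwo.add_self_eq_zero])
    rw [map_mul, map_inv, mul_a1, inv_a1] at this
    exact (CharTwo.add_eq_zero.1 this).symm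
  have e8 : ∀ x, (α x).a8 = f8 x.a8 := fun x => by
    have := (au_a8 h ((y8 x.a8 0)⁻¹ * x)).2 (by simp [CharTwo.add_self_eq_zero])
    rw [map_mul, map_inv, mul_a8, Co.inv_a8] at this
    exact (CharTwo.add_eq_zero.1 this).symm
  have add1 : ∀ s t, f1 (s + t) = f1 s + f1 t := fun s t => by
    have := e1 (x1 s * x1 t)
    rw [map_mul, mul_a1, mul_a1] at this
    exact this.symm
  have z1 : f1 0 = 0 := (au_a1 h _).2 rfl
  have l0 : f1 1 ≠ 0 := fun e => one_ne_zero ((au_a1 h (x1 1)).1 e)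
  have m0 : f8 1 ≠ 0 := fun e => one_ne_zero ((au_a8 h (y8 1 0)).1 e)
  have cm : ∀ t s, (α ⁅x1 t, y8 s 0⁆).a2 = f1 t * f8 s := fun t s => by
    rw [map_commutatorElement, (au_cm _ _).2.2, (au_a8 h (x1 t)).2 rfl, zero_mul, add_zero]
  have key : ∀ t s t' s', t * s = t' * s' → f1 t * f8 s = f1 t' * f8 s' := by
    intro t s t' s' e
    obtain ⟨a1, a8, a2⟩ := au_cm (x1 t) (y8 s 0)
    obtain ⟨b1, b8, b2⟩ := au_cm (x1 t') (y8 s' 0)
    obtain ⟨c1, c8, c2, -⟩ := au_l a1 a8 b1 b8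
    have r := (au_presR1 h ⟨c1, by
      rw [c2, a2, b2]; simp [e, CharTwo.add_self_eq_zero], c8⟩).2.1
    rw [map_mul, map_inv, (au_l ((au_a1 h _).2 a1) ((au_a8 h _).2 a8) ((au_a1 h _).2 b1)
      ((au_a8 h _).2 b8)).2.2.1, cm, cm] at r
    exact CharTwo.add_eq_zero.1 r
  have k1 : ∀ t, f1 t * f8 1 = f1 1 * f8 t := fun t => key _ _ _ _ (by ring)
  let φ0 : K →+* K :=
    { toFun := fun t => f1 t / f1 1
      map_one' := div_self l0
      map_mul' := fun s t => by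
        have a := key (s * t) 1 s t (by ring)
        have b := k1 t
        field_simp
        apply mul_right_cancel₀ m0
        linear_combination f1 1 * a - f1 s * b
      map_zero' := by rw [z1, zero_div]
      map_add' := fun s t => by rw [add1, add_div] }
  let φ : RingAut K := RingEquiv.ofBijective φ0 (Finite.injective_iff_bijective.1 φ0.injective)
  have hφ : ∀ t, φ t = f1 t / f1 1 := fun _ => rfl
  have sm := σ_ne m0
  have k0 : f1 1 * (f8 1 * σ (f8 1)) ≠ 0 := mul_ne_zero l0 (mul_ne_zero m0 sm)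
  have sk := σ_ne k0
  refine ⟨tA (Units.mk0 (σ (f1 1 * (f8 1 * σ (f8 1))) / f8 1) (div_ne_zero sk m0), Units.mk0 _ k0) *
    fld ⟨φ, mem_gal φ⟩, ⟨_, _, rfl⟩, fun x => ?_⟩
  have sl := σ_ne l0
  rw [e1, e8]
  simp only [MulAut.mul_apply, tA_apply, fld_apply, tor_a1, tor_a8, fl_a1, fl_a8, hφ, Units.val_mk0,
    map_mul, map_div₀, map_pow, σσ]
  constructor
  · field_simp
  · have := k1 x.a8
    field_simp
    linear_combination -this

theorem au_two (hq : Nat.card K ≤ 2) (t : K) : t = 0 ∨ t = 1 := by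
  by_contra! n
  have h3 : ({0, 1, t} : Set K).ncard = 3 :=
    Set.ncard_eq_three.2 ⟨0, 1, t, zero_ne_one, n.1.symm, n.2.symm, rfl⟩
  have := Set.ncard_le_card ({0, 1, t} : Set K)
  omega

theorem au_phR : Ph (R : Subgroup (Co K)) ≤ frattini (Co K) :=
  Ph_le_of fun x _ => sq x ▸ H5.pow_mem_frattini isPGroup x

theorem au_R0 {d : Co K} (hd : d ∈ (R1 : Subgroup (Co K))) (a4 : d.a4 = 0) (a6 : d.a6 = 0) :
    d ∈ Ph (R : Subgroup (Co K)) := by
  have h3 : (J3 : Subgroup (Co K)) ≤ Ph R := fun d hd => by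
    refine co_step (co_D3 (X := R) (by simp) (by simp)) (mul_mem
      (comm_mem_Ph (show y4 d.a3 0 ∈ R by simp) (show y2 1 0 ∈ R by simp))
      (comm_mem_Ph (show y6 d.a7 0 ∈ R by simp) (show y8 1 0 ∈ R by simp))) ?_
    simp only [mem_J3] at hd
    simp only [mem_D3]
    and_intros <;> simp [commutatorElement_def, hd] <;> grind
  obtain ⟨s, hs⟩ := N_surj d.b2
  obtain ⟨t, ht⟩ := N_surj d.b8
  refine co_step h3 (mul_mem (sq_mem_Ph (show y2 s 0 ∈ R by simp))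
    (sq_mem_Ph (show y8 t 0 ∈ R by simp))) ?_
  simp only [mem_R1] at hd
  simp only [mem_J3]
  and_intros <;> simp [hd, a4, a6, CharTwo.add_self_eq_zero] <;> grind

theorem au_ker (hq : Nat.card K ≤ 2) {d : Co K} (h1 : d.a1 = 0) (h8 : d.a8 = 0)
    (hl : d.a2 + d.a4 + d.a6 = 0) : d ∈ frattini (Co K) := by
  have s0 : ∀ d : Co K, d.a1 = 0 → d.a8 = 0 → d.a2 = 0 → d.a4 + d.a6 = 0 → d ∈ frattini (Co K) := by
    intro d h1 h8 h2 hl
    rcases au_two hq d.a4 with e | e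
    · exact au_phR (au_R0 ⟨h1, h2, h8⟩ e (by rwa [e, zero_add] at hl))
    · have c : ⁅y2 (1 : K) 0, y8 (1 : K) 0⁆.a4 = 1 ∧ ⁅y2 (1 : K) 0, y8 (1 : K) 0⁆.a6 = 1 := by
        and_intros <;> simp [commutatorElement_def] <;> grind
      obtain ⟨a1, a8, a2⟩ := au_cm (y2 (1 : K) 0) (y8 1 0)
      obtain ⟨c1, c8, c2, c4, c6⟩ := au_l a1 a8 h1 h8
      refine co_step le_rfl (H5.commutatorElement_mem_frattini isPGroup (y2 1 0) (y8 1 0))
        (au_phR (au_R0 ⟨c1, by rw [c2, a2, h2]; simp, c8⟩ ?_ ?_))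
      · rw [c4, c.1, e, CharTwo.add_self_eq_zero]
      · rw [c6, c.2, ← e, hl]
  rcases au_two hq d.a2 with e | e
  · exact s0 d h1 h8 e (by rwa [e, zero_add] at hl)
  · have c : ⁅x1 (1 : K), y8 (1 : K) 0⁆.a4 + ⁅x1 (1 : K), y8 (1 : K) 0⁆.a6 = 1 := by
      simp [commutatorElement_def] <;> grind
    obtain ⟨a1, a8, a2⟩ := au_cm (x1 (1 : K)) (y8 1 0)
    obtain ⟨c1, c8, c2, c4, c6⟩ := au_l a1 a8 h1 h8
    refine co_step le_rfl (H5.commutatorElement_mem_frattini isPGroup (x1 1) (y8 1 0))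
      (s0 _ c1 c8 ?_ ?_)
    · rw [c2, a2, e]; simp [CharTwo.add_self_eq_zero]
    · rw [c4, c6]; linear_combination c + hl - e

theorem aut_odd (h : Pr α) (o : Odd (orderOf α)) (e : ∀ x, (α x).a1 = x.a1 ∧ (α x).a8 = x.a8) : α = 1 := by
  have hinv : ∀ (c : MulAut (Co K)), ∀ x ∈ frattini (Co K), c x ∈ frattini (Co K) := fun c x hx =>
    (characteristic_iff_le_comap.mp frattini_characteristic c) hx
  have hM : ∀ m : Co K, m.a1 = 0 → m.a8 = 0 → m⁻¹ * α m ∈ frattini (Co K) := by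
    intro m m1 m8
    by_cases hm : m ∈ frattini (Co K)
    · exact mul_mem (inv_mem hm) (hinv α m hm)
    rcases le_or_gt (Nat.card K) 2 with hq | hq
    · have n1 := (e m).1.trans m1
      have n8 := (e m).2.trans m8
      have hm' : α m ∉ frattini (Co K) := fun c => hm (by simpa using hinv α⁻¹ _ c)
      have l1 := (au_two hq _).resolve_left fun c => hm (au_ker hq m1 m8 c)
      have l2 := (au_two hq _).resolve_left fun c => hm' (au_ker hq n1 n8 c)
      obtain ⟨c1, c8, c2, c4, c6⟩ := au_l m1 m8 n1 n8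
      refine au_ker hq c1 c8 ?_
      rw [c2, c4, c6]
      linear_combination l1 + l2 + CharTwo.add_self_eq_zero (1 : K)
    · obtain ⟨a1, a8, a2⟩ := au_cm (x1 m.a2) (y8 1 0)
      obtain ⟨c1, c8, c2, -⟩ := au_l a1 a8 m1 m8
      exact absurd (co_step le_rfl (H5.commutatorElement_mem_frattini isPGroup (x1 m.a2) (y8 1 0))
        (au_phR (R1_le_Ph_R hq ⟨c1, by rw [c2, a2]; simp [CharTwo.add_self_eq_zero], c8⟩))) hm
  refine H5.aut_eq_one_of_frattini isPGroup α (Nat.coprime_two_right.2 o) fun x => ?_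
  set m := x⁻¹ * α x with hm
  have m1 : m.a1 = 0 := by rw [hm, mul_a1, inv_a1, (e x).1, CharTwo.add_self_eq_zero]
  have m8 : m.a8 = 0 := by rw [hm, mul_a8, Co.inv_a8, (e x).2, CharTwo.add_self_eq_zero]
  let π := QuotientGroup.mk' (frattini (Co K))
  have s1 : ∀ j : ℕ, π ((α ^ j) m) = π m := fun j => by
    induction j with
    | zero => rfl
    | succ j ih =>
      rw [← ih, pow_succ, MulAut.mul_apply]
      refine (QuotientGroup.eq.2 ?_).symm
      rw [← map_inv, ← map_mul]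
      exact hinv _ _ (hM m m1 m8)
  have s2 : ∀ j : ℕ, π ((α ^ j) x) = π x * π m ^ j := fun j => by
    induction j with
    | zero => simp
    | succ j ih =>
      rw [pow_succ, MulAut.mul_apply, show α x = x * m by rw [hm, mul_inv_cancel_left], map_mul,
        map_mul, ih, s1, pow_succ, mul_assoc]
  have s3 := s2 (orderOf α)
  rw [pow_orderOf_eq_one, MulAut.one_apply, left_eq_mul] at s3
  have s4 : π m ^ 2 = 1 := by
    rw [← map_pow]
    exact (QuotientGroup.eq_one_iff _).2 (H5.pow_mem_frattini isPGroup m)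
  obtain ⟨k, hk⟩ := o
  rw [hk, pow_succ, pow_mul, s4, one_pow, one_mul] at s3
  exact (QuotientGroup.eq_one_iff _).1 s3

theorem semi_scalar (S : Set (K × RingAut K)) (tr : ∀ μ, μ ≠ 0 → ∃ p ∈ S, p.1 = μ) (ne : ∀ p ∈ S, p.1 ≠ 0)
    (com : ∀ p ∈ S, ∀ p' ∈ S, ∀ x, p.1 * p.2 (p'.1 * p'.2 x) = p'.1 * p'.2 (p.1 * p.2 x)) :
    ∀ p ∈ S, p.2 = 1 := by
  intro p hp
  have c1 : ∀ p ∈ S, ∀ p' ∈ S, p.1 * p.2 p'.1 = p'.1 * p'.2 p.1 := fun p hp p' hp' => by
    simpa using com p hp p' hp' 1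
  refine RingEquiv.ext fun x => ?_
  change p.2 x = x
  by_cases h1 : p.1 = 1
  · by_cases hx : x = 0
    · simp [hx]
    obtain ⟨p', hp', rfl⟩ := tr x hx
    simpa [h1] using c1 p hp p' hp'
  obtain ⟨r, hr, er⟩ := tr (p.1 + 1) fun e => h1 (CharTwo.add_eq_zero.1 e)
  have h0 : ∀ x, p.1 * p.2 x + x + (p.1 + 1) * r.2 x = 0 := fun x => by
    by_cases hx : x = 0
    · simp [hx]
    obtain ⟨p', hp', rfl⟩ := tr x hx
    have a := c1 p hp p' hp'
    have b := c1 r hr p' hp'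
    rw [er, map_add, map_one] at b
    rw [a, b]
    grind
  have a := h0 x
  have b := h0 (x * x)
  rw [map_mul, map_mul] at b
  have n := ne p hp
  grind

end H78.Ofs
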