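import Mathlib
import Cfsg.Agent.Lib.Ofs.Def2
import Cfsg.Agent.Lib.Oct.BE

/-!
# Automorphisms commuting with the torus (OFS BQ)
-/

set_option autoImplicit false
set_option linter.unusedSectionVars false

namespace H78.Ofs

open H78.Oct H78.Oct.Co Subgroup
open H93.SX (Cj nr)
open H78.Oct.BE (fix0 N_ne σ_ne_one add_van ex_unit)
open scoped commutatorElement

variable {K : Type*} [Field K] [Tits K] [Finite K] {β : Co K → Co K}

/-- An automorphism of `M` commuting with the torus. -/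
structure BqH (M : Subgroup (Co K)) (β : Co K → Co K) : Prop where
  au : Au M β
  ht : ∀ c k, ∀ a ∈ M, β (tor c k a) = tor c k (β a)

theorem bq_f4 {c : Kˣ} (hc : c ≠ 1) {b : Co K} (e : b = tor 1 c b) : b = y4 b.a4 b.b4 := by
  have c1 : (c : K) ≠ 1 := fun e => hc (Units.ext e)
  ext
  · exact fix0 (inv_ne_one.2 (N_ne c1)) (by simpa [-mul_inv_rev] using congrArg Co.a1 e)
  · exact fix0 (inv_ne_one.2 c1) (by simpa using congrArg Co.a2 e)
  · exact fix0 (inv_ne_one.2 (N_ne c1)) (by simpa [-mul_inv_rev] using congrArg Co.b2 e)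
  · exact fix0 (inv_ne_one.2 c1) (by simpa using congrArg Co.a3 e)
  · rfl
  · rfl
  · exact fix0 c1 (by simpa using congrArg Co.a5 e)
  · exact fix0 c1 (congrArg Co.a6 e)
  · exact fix0 (N_ne c1) (congrArg Co.b6 e)
  · exact fix0 (N_ne c1) (by simpa using congrArg Co.a7 e)
  · exact fix0 (σ_ne_one c1) (by simpa using congrArg Co.a8 e)
  · exact fix0 (N_ne (σ_ne_one c1)) (by simpa [mul_comm] using congrArg Co.b8 e)

theorem bq_f6 {c : Kˣ} (hc : c ≠ 1) {b : Co K} (e : b = tor c 1 b) : b = y6 b.a6 b.b6 := by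
  have c1 : (c : K) ≠ 1 := fun e => hc (Units.ext e)
  ext
  · exact fix0 (N_ne c1) (by simpa using congrArg Co.a1 e)
  · exact fix0 (σ_ne_one c1) (by simpa using congrArg Co.a2 e)
  · exact fix0 (N_ne (σ_ne_one c1)) (by simpa [mul_comm] using congrArg Co.b2 e)
  · exact fix0 (N_ne c1) (by simpa using congrArg Co.a3 e)
  · exact fix0 c1 (congrArg Co.a4 e)
  · exact fix0 (N_ne c1) (congrArg Co.b4 e)
  · exact fix0 c1 (by simpa using congrArg Co.a5 e)
  · rfl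
  · rfl
  · exact fix0 (inv_ne_one.2 c1) (by simpa using congrArg Co.a7 e)
  · exact fix0 (inv_ne_one.2 c1) (by simpa using congrArg Co.a8 e)
  · exact fix0 (inv_ne_one.2 (N_ne c1)) (by simpa [-mul_inv_rev] using congrArg Co.b8 e)

theorem bq_f2 {c : Kˣ} (hc : c ≠ 1) {b : Co K} (r : b ∈ (Q : Subgroup (Co K))) (e : b = tor c (σu c) b) :
    b = y2 b.a2 b.b2 := by
  have c1 : (c : K) ≠ 1 := fun e => hc (Units.ext e)
  have c0 := c.ne_zero
  have s0 := σ_ne c0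
  ext
  · exact fix0 (inv_ne_one.2 c1) ((congrArg Co.a1 e).trans (by rw [tor_a1, σu_val, σσ]; field_simp))
  · rfl
  · rfl
  · exact fix0 c1 ((congrArg Co.a3 e).trans (by simp [s0]))
  · exact fix0 c1 (congrArg Co.a4 e)
  · exact fix0 (N_ne c1) (congrArg Co.b4 e)
  · exact fix0 (N_ne c1) (congrArg Co.a5 e)
  · exact fix0 (σ_ne_one c1) (congrArg Co.a6 e)
  · exact fix0 (N_ne (σ_ne_one c1)) (congrArg Co.b6 e)
  · exact fix0 (N_ne c1) ((congrArg Co.a7 e).trans (by rw [tor_a7, σu_val, σσ]; field_simp))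
  · exact r.1
  · exact r.2

theorem bq_f1 {c : Kˣ} (hc : c ≠ 1) {b : Co K} (r : b ∈ (Q : Subgroup (Co K))) (e : b = tor c c b) :
    b = x1 b.a1 := by
  have c1 : (c : K) ≠ 1 := fun e => hc (Units.ext e)
  have c0 := c.ne_zero
  have s0 := σ_ne c0
  ext
  · rfl
  · refine fix0 (fun e => c1 (mul_left_cancel₀ c0 ?_)) (congrArg Co.a2 e)
    rw [mul_inv_eq_one₀ c0] at e
    rw [← sq, ← σσ, e, e, mul_one]
  · exact fix0 c1 ((congrArg Co.b2 e).trans (by rw [tor_b2]; field_simp))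
  · exact fix0 (σ_ne_one c1) ((congrArg Co.a3 e).trans (by rw [tor_a3]; field_simp))
  · exact fix0 c1 (congrArg Co.a4 e)
  · exact fix0 (N_ne c1) (congrArg Co.b4 e)
  · exact fix0 (by rw [← sq, ← σσ]; exact σ_ne_one (σ_ne_one c1)) (congrArg Co.a5 e)
  · exact fix0 c1 (congrArg Co.a6 e)
  · exact fix0 (N_ne c1) (congrArg Co.b6 e)
  · exact fix0 (σ_ne_one c1) ((congrArg Co.a7 e).trans (by rw [tor_a7]; field_simp))
  · exact r.1
  · exact r.2

theorem bq_tR (c k : Kˣ) : ∀ a ∈ (R : Subgroup (Co K)), tor c k a ∈ (R : Subgroup (Co K)) := fun a ha => by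
  simp [mem_R.1 ha]

theorem bq_tQ (c k : Kˣ) : ∀ a ∈ (Q : Subgroup (Co K)), tor c k a ∈ (Q : Subgroup (Co K)) := fun a ha => by
  simp [mem_Q.1 ha]

theorem bq_back {c k : Kˣ} {a b : Co K} (e : tor c⁻¹ k⁻¹ b = a) : b = tor c k a := by
  rw [← e, tor_tor, mul_inv_cancel, mul_inv_cancel, tor_one]

namespace BqH

variable {M : Subgroup (Co K)} (h : BqH M β) {c : Kˣ}
include h

theorem comp (hM : ∀ c k, ∀ a ∈ M, tor c k a ∈ M) (c k : Kˣ) : BqH M fun a => tor c k (β a) :=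
  ⟨⟨fun a ha => hM _ _ _ (h.au.mem a ha), fun a ha b hb => by rw [h.au.mul a ha b hb, map_mul],
    fun a ha e => h.au.inj a ha ((tA (c, k)).injective (e.trans (map_one _).symm))⟩,
    fun c' k' a ha => by rw [h.ht _ _ a ha, tor_tor, tor_tor, mul_comm c, mul_comm k]⟩

theorem conj {w : Co K → Co K} (hw : Au M w) (ht : ∀ c k, ∃ c' k', (∀ a, w (tor c k a) = tor c' k' (w a)) ∧
    ∀ a, w (tor c' k' a) = tor c k (w a)) : BqH M fun a => w (β (w a)) :=
  ⟨⟨fun a ha => hw.mem _ (h.au.mem _ (hw.mem a ha)), fun a ha b hb => by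
      rw [hw.mul a ha b hb, h.au.mul _ (hw.mem a ha) _ (hw.mem b hb),
        hw.mul _ (h.au.mem _ (hw.mem a ha)) _ (h.au.mem _ (hw.mem b hb))],
    fun a ha e => hw.inj a ha (h.au.inj _ (hw.mem a ha) (hw.inj _ (h.au.mem _ (hw.mem a ha)) e))⟩,
    fun c k a ha => by
      obtain ⟨c', k', e, e'⟩ := ht c k
      rw [e, h.ht _ _ _ (hw.mem a ha), e']⟩

theorem fix {a : Co K} (ha : a ∈ M) {c k : Kˣ} (e : tor c k a = a) : β a = tor c k (β a) := by
  rw [← h.ht c k a ha, e]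

theorem rel {a b d e : Co K} (ha : a ∈ M) (hb : b ∈ M) (hd : d ∈ M) (he : e ∈ M) (r : a * b = b * d * e) :
    β a * β b = β b * β d * β e := by
  rw [← h.au.mul _ hb _ hd, ← h.au.mul _ (mul_mem hb hd) _ he, ← r, h.au.mul _ ha _ hb]

theorem com {a b d : Co K} (ha : a ∈ M ∧ β a = a) (hb : b ∈ M ∧ β b = b) (hd : d ∈ M) (r : a * b = b * d * a) :
    d ∈ M ∧ β d = d := by
  have e := h.rel ha.1 hb.1 hd ha.1 r
  rw [ha.2, hb.2, r] at e
  exact ⟨hd, (mul_left_cancel (mul_right_cancel e)).symm⟩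

theorem z4 (hc : c ≠ 1) (m : ∀ t, y4 0 t ∈ M) : ∃ d : Kˣ, ∀ t, β (y4 0 t) = tor d 1 (y4 0 t) := by
  have h1 : ∀ t, β (y4 0 t) = y4 0 (β (y4 0 t)).b4 := fun t => by
    have e := bq_f4 hc (h.fix (m t) (by ext <;> simp))
    rwa [(inv_R1 (x := β (y4 0 t)) (by
      rw [← h.au.mul _ (m t) _ (m t), ← h.au.one]; congr 1; ext <;> simp [CharTwo.add_self_eq_zero])
      (by rw [e]; simp)).2.1 |> fun k => N_eq_zero (x := (β (y4 0 t)).a4) (by rw [e] at k; simpa using k)] at e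
  obtain ⟨d, hd⟩ := N_surj (β (y4 0 1)).b4
  have d0 : d ≠ 0 := by
    rintro rfl
    simpa using congrArg Co.b4 (h.au.inj _ (m 1) (by rw [h1, ← hd]; ext <;> simp))
  refine ⟨Units.mk0 d d0, fun t => ?_⟩
  obtain ⟨l, rfl⟩ := N_surj t
  by_cases l0 : l = 0
  · rw [l0, zero_mul, show (y4 0 0 : Co K) = 1 from rfl, h.au.one, map_one]
  · have e := h.ht (Units.mk0 l l0) 1 _ (m 1)
    rw [show tor (Units.mk0 l l0) 1 (y4 0 1) = y4 0 (l * σ l) by ext <;> simp, h1 1, ← hd] at e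
    rw [e]
    ext <;> simp [mul_comm]

theorem suz (hc : c ≠ 1) (y : K → K → Co K) (b : Co K → K) (hb : ∀ s u, b (y s u) = u) (m : ∀ s u, y s u ∈ M)
    (hy : ∀ s u t v, y s u * y t v = y (s + t) (s * σ t + u + v)) (h1 : ∀ s, β (y s 0) = y s (b (β (y s 0))))
    (h2 : ∀ l : Kˣ, ∃ c k, tor c k (y 1 0) = y l 0 ∧ ∀ a, b (tor c k a) = l * σ (l : K) * b a) (s u : K) :
    y s u ∈ M ∧ β (y s u) = y s u := by
  have h0 : ∀ u, β (y 0 u) = y 0 u := fun u => by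
    obtain ⟨s, rfl⟩ := N_surj u
    have e := h.au.mul _ (m s 0) _ (m s 0)
    rw [h1 s, hy, hy, add_assoc, add_assoc, CharTwo.add_self_eq_zero, CharTwo.add_self_eq_zero,
      CharTwo.add_self_eq_zero, add_zero] at e
    exact e
  have h3 : ∀ s u, β (y s u) = y s (b (β (y s 0)) + u) := fun s u => by
    have e := h.au.mul _ (m s 0) _ (m 0 u)
    rw [h0, h1 s, hy, hy] at e
    simpa using e
  refine ⟨m s u, ?_⟩
  rw [h3, add_van hc (fun s => b (β (y s 0))) (fun s t => ?_) (fun l => ?_), zero_add]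
  · have e := h.au.mul _ (m s 0) _ (m t 0)
    rw [hy, h3, h1 s, h1 t, hy] at e
    have := congrArg b e
    rw [hb, hb] at this
    linear_combination this
  · obtain ⟨c, k, e, e'⟩ := h2 l
    rw [← e, h.ht _ _ _ (m 1 0), e']

end BqH

theorem beta_R (hq : 2 < Nat.card K) (h : Au R β)
    (ht : ∀ c k, ∀ a ∈ (R : Subgroup (Co K)), β (tor c k a) = tor c k (β a)) :
    ∃ c k, ∀ a ∈ (R : Subgroup (Co K)), β a = tor c k a := by
  obtain ⟨c, hc⟩ := ex_unit hq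
  have H : BqH R β := ⟨h, ht⟩
  obtain ⟨d, h4⟩ := H.z4 hc (by simp)
  obtain ⟨k, h6⟩ := (H.conj au_w1 fun c k => ⟨k, c, w1_tor c k, w1_tor k c⟩).z4 hc (by simp)
  have H' := H.comp bq_tR d⁻¹ k⁻¹
  refine ⟨d, k, fun a ha => bq_back (beta hq _ H'.au.mem H'.au.mul (fun t => ?_) (fun t => ?_) H'.ht a ha)⟩
  · rw [h4, tor_tor]
    ext <;> simp
  · have e := congrArg w1 (h6 t)
    rw [w1_w1 (h.mem _ (w1_mem _)), w1_tor, BE.w4] at e
    rw [e, tor_tor]
    ext <;> simp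

theorem bq_x1 {c : Kˣ} (hc : c ≠ 1) (h : BqH Q β) (h4 : ∀ t, β (y4 0 t) = y4 0 t) (h6 : β (y6 0 1) = y6 0 1)
    (s : K) : β (x1 s) = x1 s := by
  have e := bq_f1 hc (h.au.mem _ (by simp)) (h.fix (a := x1 s) (by simp) (by
    ext <;> simp [-mul_inv_rev, σ_ne c.ne_zero]))
  have e1 := h.rel (a := y6 0 1) (b := x1 s) (d := y4 0 s) (e := y6 0 1) (by simp) (by simp) (by simp) (by simp)
    (by ext <;> simp)
  rw [h4, h6, e] at e1
  rw [e, show (β (x1 s)).a1 = s by simpa using congrArg Co.b4 e1]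

theorem bq_main {c : Kˣ} (hc : c ≠ 1) (h : BqH Q β) (h4 : ∀ t, β (y4 0 t) = y4 0 t)
    (h2 : ∀ s, (β (y2 s 0)).a2 = s) : ∀ a ∈ (Q : Subgroup (Co K)), β a = a := by
  have u4 := h.suz hc y4 Co.b4 (fun _ _ => rfl) (by simp) (fun _ _ _ _ => by ext <;> simp) (fun s => by
    have e := bq_f4 hc (h.fix (a := y4 s 0) (by simp) (by ext <;> simp))
    have e1 := h.au.mul (y4 s 0) (by simp) (y4 s 0) (by simp)
    rw [show y4 s 0 * y4 s 0 = y4 0 (s * σ s) by ext <;> simp [CharTwo.add_self_eq_zero], h4, e] at e1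
    rwa [show (β (y4 s 0)).a4 = s from N_inj (by
      simpa [add_assoc, CharTwo.add_self_eq_zero] using (congrArg Co.b4 e1).symm)] at e)
    fun l => ⟨l, 1, by ext <;> simp, fun _ => rfl⟩
  have u2 := h.suz hc y2 Co.b2 (fun _ _ => rfl) (by simp) (fun _ _ _ _ => by ext <;> simp) (fun s => by
    have e := bq_f2 hc (h.au.mem _ (by simp)) (h.fix (a := y2 s 0) (by simp) (by ext <;> simp [σ_ne c.ne_zero]))
    rwa [h2] at e) fun l => ⟨1, l⁻¹, by ext <;> simp, fun _ => by simp [mul_comm]⟩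
  have u3 := fun s => h.com (u4 1 0) (u2 s 0) (d := x3 s) (by simp) (by ext <;> simp)
  have u6 := h.suz hc y6 Co.b6 (fun _ _ => rfl) (by simp) (fun _ _ _ _ => by ext <;> simp) (fun s => by
    have e := bq_f6 hc (h.fix (a := y6 s 0) (by simp) (by ext <;> simp))
    have e1 := h.rel (a := y6 s 0) (b := x3 1) (d := y4 0 s) (e := y6 s 0) (by simp) (by simp) (by simp) (by simp)
      (by ext <;> simp)
    rw [h4, (u3 1).2, e] at e1
    rwa [show (β (y6 s 0)).a6 = s by simpa using congrArg Co.b4 e1] at e)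
    fun l => ⟨1, l, by ext <;> simp, fun _ => rfl⟩
  have u5 := fun s => h.com (u6 s 0) (u4 1 0) (d := x5 s) (by simp) (by ext <;> simp)
  have u7 : ∀ s, β (x7 s) = x7 s := fun s => by
    have e := congrArg w2 (bq_x1 hc (h.conj au_w2 fun c k => ⟨c, σu c * k⁻¹, w2_tor c k, fun a => by
        rw [w2_tor, mul_inv_rev, inv_inv, mul_comm k, mul_inv_cancel_left]⟩)
      (fun t => by rw [show w2 (y4 0 t) = y4 0 t by ext <;> simp, h4]; ext <;> simp)
      (by rw [show w2 (y6 0 (1 : K)) = y2 0 1 by ext <;> simp, (u2 0 1).2]; ext <;> simp) s)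
    rwa [w2_w2 (h.au.mem _ (w2_mem _)), show w2 (x1 s) = x7 s by ext <;> simp] at e
  have cl : ∀ {a b : Co K}, a ∈ Q ∧ β a = a → b ∈ Q ∧ β b = b → a * b ∈ Q ∧ β (a * b) = a * b :=
    fun p q => ⟨mul_mem p.1 q.1, by rw [h.au.mul _ p.1 _ q.1, p.2, q.2]⟩
  intro a ha
  have e := eq_prod a
  rw [ha.1, ha.2, show y8 (0 : K) 0 = 1 from rfl, mul_one] at e
  rw [e]
  exact (cl (cl (cl (cl (cl (cl ⟨by simp, bq_x1 hc h h4 (u6 0 1).2 _⟩ (u2 _ _)) (u3 _)) (u4 _ _)) (u5 _)) (u6 _ _))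
    ⟨by simp, u7 _⟩).2

theorem beta_Q (hq : 2 < Nat.card K) (h : Au Q β)
    (ht : ∀ c k, ∀ a ∈ (Q : Subgroup (Co K)), β (tor c k a) = tor c k (β a)) :
    ∃ c k, ∀ a ∈ (Q : Subgroup (Co K)), β a = tor c k a := by
  obtain ⟨c, hc⟩ := ex_unit hq
  have H : BqH Q β := ⟨h, ht⟩
  obtain ⟨d, h4⟩ := H.z4 hc (by simp)
  have l0 : (β (y2 1 0)).a2 ≠ 0 := fun e0 => by
    have e := bq_f2 hc (h.mem _ (by simp)) (H.fix (a := y2 1 0) (by simp) (by ext <;> simp [σ_ne c.ne_zero]))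
    have := congrArg Co.b2 (h.inj (y2 1 0 * y2 1 0) (by simp) (by
      rw [h.mul _ (by simp) _ (by simp), e, e0]; ext <;> simp [CharTwo.add_self_eq_zero]))
    simp at this
  refine ⟨d, σu d * (Units.mk0 _ l0)⁻¹, fun a ha => bq_back (bq_main hc (H.comp bq_tQ _ _) (fun t => ?_)
    (fun s => ?_) a ha)⟩
  · rw [h4, tor_tor]
    ext <;> simp
  by_cases s0 : s = 0
  · rw [s0, show (y2 0 0 : Co K) = 1 from rfl, h.one, map_one]
    rfl
  · have e := ht 1 (Units.mk0 s s0)⁻¹ (y2 1 0) (by simp)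
    rw [show tor 1 (Units.mk0 s s0)⁻¹ (y2 1 0) = y2 s 0 by ext <;> simp] at e
    have := σ_ne d.ne_zero
    rw [e]
    simp
    field_simp

end H78.Ofs
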