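import Mathlib
import Cfsg.Agent.Lib.Ofs.Defs

/-!
# General tools for `Gd` (OFS TL2)
-/

set_option autoImplicit false
set_option linter.unusedSectionVars false

namespace H78.Ofs

open H78.Oct H78.Oct.Co Subgroup
open scoped commutatorElement

variable {W : Type*} [Group W] [Finite W] {M M' E A B N : Subgroup W} {𝒜 : Set (W → W)} {t : W}

theorem Au.tl2_inv {f : W → W} (a : Au E f) :
    ∃ g, Au E g ∧ (∀ x ∈ E, g (f x) = x) ∧ ∀ x ∈ E, f (g x) = x := by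
  classical
  choose g hg e using fun y : E => a.surj y.2
  let g' : W → W := fun y => if h : y ∈ E then g ⟨y, h⟩ else y
  have m : ∀ y ∈ E, g' y ∈ E := fun y h => by simp only [g', dif_pos h]; exact hg _
  have r : ∀ y ∈ E, f (g' y) = y := fun y h => by simp only [g', dif_pos h]; exact e _
  exact ⟨g', ⟨m, fun x hx y hy => a.eq (m _ (mul_mem hx hy)) (mul_mem (m x hx) (m y hy)) (by
      rw [a.mul _ (m x hx) _ (m y hy), r _ (mul_mem hx hy), r x hx, r y hy]),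
    fun x hx h => by rw [← r x hx, h, a.one]⟩, fun x hx => a.eq (m _ (a.mem x hx)) hx (r _ (a.mem x hx)), r⟩

theorem Au.tl2_card {θ : W → W} (a : Au M θ) (h : A ≤ M) : Nat.card (a.pre A) = Nat.card A :=
  Nat.card_eq_of_bijective (fun x : a.pre A => (⟨θ x, x.2.2⟩ : A))
    ⟨fun x y e => Subtype.ext (a.eq x.2.1 y.2.1 (congrArg Subtype.val e)), fun y => by
      obtain ⟨x, hx, e⟩ := a.surj (h y.2)
      exact ⟨⟨x, hx, e ▸ y.2⟩, Subtype.ext e⟩⟩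

theorem tl2_rel (h : E ≤ N) : E.relIndex N * Nat.card E = Nat.card N := by
  rw [← Nat.card_congr (subgroupOfEquivOfLe h).toEquiv]
  exact (E.subgroupOf N).index_mul_card

theorem tl2_norm (h : ∀ x ∈ E, ⁅t, x⁆ ∈ E) : t ∈ normalizer (E : Set W) :=
  mem_normalizer_fintype fun x hx => by simpa [commutatorElement_def] using mul_mem (h x hx) hx

theorem Gd.top (h : Gd M E 𝒜) : Gc M E :=
  ⟨h.le, fun _ hf => hf, fun _ hf => (Au.tl2_inv hf).imp fun _ e => ⟨e.1, e.2.1⟩,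
    fun t ht A B a b => h.chain t ht A B ⟨a.1, fun f hf => a.2 f (h.au f hf)⟩ ⟨b.1, fun f hf => b.2 f (h.au f hf)⟩,
    h.f1⟩

theorem Gd.mono (h : Gd M E 𝒜) (h1 : E ≤ M') (h2 : M' ≤ M) : Gd M' E 𝒜 :=
  ⟨h1, h.au, h.inv, fun t ht => h.chain t (h2 ht), le_trans (Nat.mul_le_mul_right _ (Nat.pow_le_pow_left
    (relIndex_le_of_le_right (inf_le_inf_right _ h2) index_ne_zero_of_finite) 2)) h.f1⟩

theorem Au.pre_Ph {θ : W → W} (a : Au M θ) (h : E ≤ M) : Ph (a.pre E) = a.pre (Ph E) := by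
  obtain ⟨g, b, l, r⟩ := a.tl2_inv
  refine le_antisymm (Ph_le_of fun x hx => ⟨mul_mem hx.1 hx.1, a.mul x hx.1 x hx.1 ▸ sq_mem_Ph hx.2⟩)
    fun x hx => l x hx.1 ▸ (Ph_le_of (A := b.pre (Ph (a.pre E))) (fun y hy => ⟨mul_mem (h hy) (h hy), ?_⟩) hx.2).2
  rw [b.mul y (h hy) y (h hy)]
  exact sq_mem_Ph ⟨b.mem y (h hy), (r y (h hy)).symm ▸ hy⟩

theorem Gc.pre {θ : W → W} (h : Gc M E) (a : Au M θ) : Gc M (a.pre E) := by
  obtain ⟨g, b, l, r⟩ := a.tl2_inv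
  have gm : ∀ y ∈ E, g y ∈ a.pre E := fun y hy => ⟨b.mem y (h.le hy), (r y (h.le hy)).symm ▸ hy⟩
  have iv : ∀ {A}, Iv {f | Au (a.pre E) f} (a.pre E) A → Iv {f | Au E f} E (b.pre A) := fun {A} i => by
    have le : b.pre A ≤ E := fun y hy => r y hy.1 ▸ (i.1 hy.2).2
    refine ⟨le, fun f hf y hy => ⟨h.le (hf.mem y (le hy)), ?_⟩⟩
    have := i.2 (fun x => g (f (θ x))) ⟨fun x hx => gm _ (hf.mem _ hx.2), fun x hx y hy => by
      rw [a.mul x hx.1 y hy.1, hf.mul _ hx.2 _ hy.2, b.mul _ (h.le (hf.mem _ hx.2)) _ (h.le (hf.mem _ hy.2))],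
      fun x hx e => a.inj x hx.1 (hf.inj _ hx.2 (b.inj _ (h.le (hf.mem _ hx.2)) e))⟩ _ hy.2
    rwa [r y hy.1] at this
  have sp : ∀ {A}, A ≤ a.pre E → A ⊔ Ph (a.pre E) ≤ a.pre (b.pre A ⊔ Ph E) := fun hA =>
    sup_le (fun x hx => ⟨(hA hx).1, mem_sup_left ⟨a.mem x (hA hx).1, (l x (hA hx).1).symm ▸ hx⟩⟩)
      (a.pre_Ph h.le ▸ fun x hx => ⟨hx.1, mem_sup_right hx.2⟩)
  refine ⟨fun x hx => hx.1, fun _ hf => hf, fun _ hf => (Au.tl2_inv hf).imp fun _ e => ⟨e.1, e.2.1⟩,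
    fun t ht A B iA iB e1 e2 e3 => ⟨ht, h.chain _ (a.mem t ht) _ _ (iv iA) (iv iB) (fun x hx => ?_)
      (fun x hx => ?_) fun x hx => ?_⟩, ?_⟩
  · rw [← r x (h.le hx), ← a.comm ht (gm x hx).1]
    exact (sp iA.1 (e1 _ (gm x hx))).2
  · rw [← r x hx.1, ← a.comm ht (b.mem x hx.1)]
    exact (sp iB.1 (e2 _ hx.2)).2
  · rw [← r x hx.1, ← a.comm ht (b.mem x hx.1)]
    exact (a.pre_Ph h.le ▸ e3 _ hx.2 :).2
  · have e : M ⊓ normalizer (a.pre E : Set W) = a.pre (M ⊓ normalizer (E : Set W)) := by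
      refine le_antisymm (fun x hx => ⟨hx.1, a.mem x hx.1, tl2_norm fun y hy => ?a⟩)
        fun x hx => ⟨hx.1, tl2_norm fun y hy => ?b⟩
      rotate_left
      · rw [← r y (h.le hy), ← a.comm hx.1 (gm y hy).1]
        exact (mul_mem ((mem_normalizer_iff.1 hx.2 _).1 (gm y hy)) (inv_mem (gm y hy))).2
      · refine ⟨mul_mem (mul_mem (mul_mem hx.1 hy.1) (inv_mem hx.1)) (inv_mem hy.1), ?_⟩
        rw [a.comm hx.1 hy.1]
        exact mul_mem ((mem_normalizer_iff.1 hx.2.2 _).1 hy.2) (inv_mem hy.2)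
    have e1 := tl2_rel (le_inf (fun x hx => hx.1 : a.pre E ≤ M) le_normalizer)
    have e2 := tl2_rel (le_inf h.le le_normalizer)
    nth_rewrite 2 [e] at e1
    rw [a.tl2_card h.le, a.tl2_card inf_le_left, ← e2] at e1
    rw [Nat.eq_of_mul_eq_mul_right Nat.card_pos e1, a.pre_Ph h.le, a.tl2_card h.le,
      a.tl2_card ((Ph_le E).trans h.le)]
    exact h.f1

theorem Gd.iv_bot (h : Gd M E 𝒜) : Iv 𝒜 E ⊥ :=
  ⟨bot_le, fun f hf x hx => by rw [mem_bot.1 hx, (h.au f hf).one]; exact one_mem _⟩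

theorem Gd.iv_self (h : Gd M E 𝒜) : Iv 𝒜 E E := ⟨le_rfl, fun f hf => (h.au f hf).mem⟩

theorem Gd.iv_Ph (h : Gd M E 𝒜) : Iv 𝒜 E (Ph E) :=
  ⟨Ph_le E, fun f hf _ hx => (Ph_le_of (A := (h.au f hf).pre (Ph E)) (fun y hy => ⟨mul_mem hy hy,
    (h.au f hf).mul y hy y hy ▸ sq_mem_Ph ((h.au f hf).mem y hy)⟩) hx).2⟩

theorem Gd.iv_Om (h : Gd M E 𝒜) : Iv 𝒜 E (Om E) :=
  ⟨Om_le_of fun _ hx _ => hx, fun f hf _ hx => (Om_le_of (A := (h.au f hf).pre (Om E)) (fun y hy e =>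
    ⟨hy, mem_Om ((h.au f hf).mem y hy) (by rw [← (h.au f hf).mul y hy y hy, e, (h.au f hf).one])⟩) hx).2⟩

theorem Gd.iv_Wz (h : Gd M E 𝒜) : Iv 𝒜 E (Wz E) :=
  ⟨fun _ hx => hx.1, fun f hf x hx => ⟨(h.au f hf).mem x hx.1,
    by rw [← (h.au f hf).mul x hx.1 x hx.1, hx.2.1, (h.au f hf).one], fun y hy => by
      obtain ⟨z, hz, rfl⟩ := (h.au f hf).surj hy
      rw [← (h.au f hf).mul x hx.1 z hz, hx.2.2 z hz, (h.au f hf).mul z hz x hx.1]⟩⟩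

theorem Gd.iv_Bz (h : Gd M E 𝒜) : Iv 𝒜 E (Bz E) :=
  ⟨Bz_le_of fun _ hx _ _ => hx, fun f hf _ hx => (Bz_le_of (A := (h.au f hf).pre (Bz E)) (fun y hy e c =>
    ⟨hy, mem_Bz ((h.au f hf).mem y hy) (by rw [← (h.au f hf).mul y hy y hy, e, (h.au f hf).one]) fun z hz => by
      obtain ⟨u, hu, rfl⟩ := (h.au f hf).surj hz
      rw [← (h.au f hf).comm hy hu]
      exact h.iv_Wz.2 f hf _ (c u hu)⟩) hx).2⟩

theorem Gd.iv_sup (h : Gd M E 𝒜) (a : Iv 𝒜 E A) (b : Iv 𝒜 E B) : Iv 𝒜 E (A ⊔ B) :=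
  ⟨sup_le a.1 b.1, fun f hf _ hx => ((sup_le (fun y hy => ⟨a.1 hy, mem_sup_left (a.2 f hf y hy)⟩)
    (fun y hy => ⟨b.1 hy, mem_sup_right (b.2 f hf y hy)⟩) : A ⊔ B ≤ (h.au f hf).pre (A ⊔ B)) hx).2⟩

/-- An invariant subgroup is mapped onto itself. -/
theorem Gd.iv_back (h : Gd M E 𝒜) (a : Iv 𝒜 E A) {f : W → W} (hf : f ∈ 𝒜) {x : W} (hx : x ∈ E)
    (e : f x ∈ A) : x ∈ A := by
  obtain ⟨g, hg, l⟩ := h.inv f hf
  exact l x hx ▸ a.2 g hg _ e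

theorem Gd.iv_cent (h : Gd M E 𝒜) (a : Iv 𝒜 E A) : Iv 𝒜 E (E ⊓ centralizer (A : Set W)) :=
  ⟨inf_le_left, fun f hf x hx => ⟨(h.au f hf).mem x hx.1, fun y hy => by
    obtain ⟨z, hz, rfl⟩ := (h.au f hf).surj (a.1 hy)
    rw [← (h.au f hf).mul x hx.1 z hz, ← hx.2 z (h.iv_back a hf hz hy), (h.au f hf).mul z hz x hx.1]⟩⟩

theorem Gd.chain0 (h : Gd M E 𝒜) (ht : t ∈ M) (e : ∀ x ∈ E, ⁅t, x⁆ ∈ Ph E) : t ∈ E :=
  h.chain t ht _ _ h.iv_self h.iv_self (fun x hx => mem_sup_right (e x hx)) (fun x hx => mem_sup_right (e x hx)) e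

theorem Gd.cent (h : Gd M E 𝒜) (ht : t ∈ M) (e : ∀ x ∈ E, t * x = x * t) : t ∈ E :=
  h.chain0 ht fun x hx => by rw [commutatorElement_eq_one_iff_mul_comm.2 (e x hx)]; exact one_mem _

theorem Gd.chain1 (h : Gd M E 𝒜) (ht : t ∈ M) (a : Iv 𝒜 E A) (e1 : ∀ x ∈ E, ⁅t, x⁆ ∈ A ⊔ Ph E)
    (e2 : ∀ x ∈ A, ⁅t, x⁆ ∈ Ph E) : t ∈ E :=
  h.chain t ht _ _ a a e1 (fun x hx => mem_sup_right (e2 x hx)) e2

theorem Gd.f1a (h : Gd M E 𝒜) {α : Type*} (f : α → W) (h1 : ∀ a, f a ∈ M)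
    (h2 : ∀ a, ∀ x ∈ E, ⁅f a, x⁆ ∈ E) (h3 : ∀ a b, (f a)⁻¹ * f b ∈ E → a = b) :
    Nat.card α ^ 2 * Nat.card (Ph E) ≤ Nat.card E :=
  le_trans (Nat.mul_le_mul_right _ (Nat.pow_le_pow_left (Nat.card_le_card_of_injective
    (fun a => ((⟨f a, h1 a, tl2_norm (h2 a)⟩ : ↥(M ⊓ normalizer (E : Set W))) :
      ↥(M ⊓ normalizer (E : Set W)) ⧸ E.subgroupOf _)) fun a b e => h3 a b (mem_subgroupOf.1 (QuotientGroup.eq.1 e))) 2)) h.f1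

theorem Gd.f1b (h : Gd M E 𝒜) (h0 : E ≤ N) (h1 : N ≤ M) (h2 : ∀ t ∈ N, ∀ x ∈ E, ⁅t, x⁆ ∈ E) :
    Nat.card N ^ 2 * Nat.card (Ph E) ≤ Nat.card E ^ 3 := by
  have e := (h.mono h0 h1).f1
  rw [inf_eq_left.2 fun t ht => tl2_norm (h2 t ht)] at e
  calc _ = E.relIndex N ^ 2 * Nat.card (Ph E) * Nat.card E ^ 2 := by rw [← tl2_rel h0]; ring
    _ ≤ Nat.card E * Nat.card E ^ 2 := Nat.mul_le_mul_right _ e
    _ = _ := by ring

/-- Normalizers grow. -/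
theorem exists_grow (hW : IsPGroup 2 W) [N.Normal] (h : ¬ N ≤ E) :
    ∃ t ∈ N, t ∉ E ∧ ∀ x ∈ E, ⁅t, x⁆ ∈ E := by
  haveI := (hW.to_subgroup (N ⊔ E)).isNilpotent
  obtain ⟨g, hg, g1⟩ := SetLike.exists_of_lt (normalizerCondition_of_isNilpotent (G := ↥(N ⊔ E))
    (E.subgroupOf _) (lt_top_iff_ne_top.2 fun e => h (le_sup_left.trans (subgroupOf_eq_top.1 e))))
  have m : (g : W) ∈ ((N ⊔ E : Subgroup W) : Set W) := g.2
  rw [normal_mul] at m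
  obtain ⟨n, hn, y, hy, e⟩ := m
  have e' : n = g * y⁻¹ := eq_mul_inv_of_mul_eq e
  refine ⟨n, hn, fun k => g1 (mem_subgroupOf.2 (e ▸ mul_mem k hy)), fun x hx => mul_mem ?_ (inv_mem hx)⟩
  have k := mul_mem (mul_mem (inv_mem hy) hx) hy
  have := (mem_normalizer_iff.1 hg ⟨_, mem_sup_right k⟩).1 k
  rw [e', show g * y⁻¹ * x * (g * y⁻¹)⁻¹ = g * (y⁻¹ * x * y) * (g : W)⁻¹ by group]
  exact this

/-- The commutators of `t` with a generated subgroup. -/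
theorem comm_closure {s : Set W} [N.Normal] (h : ∀ x ∈ s, ⁅t, x⁆ ∈ N) : ∀ x ∈ closure s, ⁅t, x⁆ ∈ N := by
  intro x hx
  induction hx using closure_induction with
  | mem x hx => exact h x hx
  | one => simp
  | mul x y _ _ a b =>
    rw [show ⁅t, x * y⁆ = ⁅t, x⁆ * (x * ⁅t, y⁆ * x⁻¹) by simp only [commutatorElement_def]; group]
    exact mul_mem a (‹N.Normal›.conj_mem _ b x)
  | inv x _ a =>
    rw [show ⁅t, x⁻¹⁆ = x⁻¹ * ⁅t, x⁆⁻¹ * x⁻¹⁻¹ by simp only [commutatorElement_def]; group]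
    exact ‹N.Normal›.conj_mem _ (inv_mem a) _

end H78.Ofs
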