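import Mathlib
import Cfsg.Agent.Lib.Ofs.TL2
import Cfsg.Agent.Lib.Ofs.CO

/-!
# Essential subgroups outside `Q` and `R`, first part (OFS M1)
-/

set_option autoImplicit false
set_option linter.unusedSectionVars false
set_option linter.unnecessarySeqFocus false

namespace H78.Ofs

open H78.Oct H78.Oct.Co Subgroup
open scoped commutatorElement

variable {K : Type*} [Field K] [Tits K] [Finite K] {A X : Subgroup (Co K)} {𝒜 : Set (Co K → Co K)}

theorem m1_sqE {t : Co K} (ht : t ∈ (E : Subgroup (Co K))) : t * t = 1 := by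
  rw [mem_E] at ht
  ext <;> simp [ht] <;> grind

theorem m1_D3_S {t : Co K} (ht : t ∈ (D3 : Subgroup (Co K))) (x : Co K) : ⁅t, x⁆ ∈ (V : Subgroup (Co K)) := by
  simp only [mem_D3, mem_V] at *
  and_intros <;> simp [commutatorElement_def, ht] <;> grind

theorem m1_D3_T8 {t x : Co K} (ht : t ∈ (D3 : Subgroup (Co K))) (hx : x ∈ (T8 : Subgroup (Co K))) :
    ⁅t, x⁆ ∈ (Z : Subgroup (Co K)) := by
  simp only [mem_D3, mem_Z, mem_T8] at *
  and_intros <;> simp [commutatorElement_def, ht, hx] <;> grind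

theorem m1_V_S {t : Co K} (ht : t ∈ (V : Subgroup (Co K))) (x : Co K) : ⁅t, x⁆ ∈ (Z : Subgroup (Co K)) := by
  simp only [mem_Z, mem_V] at *
  and_intros <;> simp [commutatorElement_def, ht] <;> grind

theorem m1_EJ_S {t : Co K} (ht : t ∈ (E : Subgroup (Co K))) (h2 : t.b2 = 0) (x : Co K) :
    ⁅t, x⁆ ∈ (D3 : Subgroup (Co K)) := by
  simp only [mem_D3, mem_E] at *
  and_intros <;> simp [commutatorElement_def, ht, h2] <;> grind

theorem m1_EJ_T8 {t x : Co K} (ht : t ∈ (E : Subgroup (Co K))) (h2 : t.b2 = 0) (hx : x ∈ (T8 : Subgroup (Co K))) :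
    ⁅t, x⁆ ∈ (V : Subgroup (Co K)) := by
  simp only [mem_V, mem_E, mem_T8] at *
  and_intros <;> simp [commutatorElement_def, ht, h2, hx] <;> grind

theorem m1_E_Q {t x : Co K} (ht : t ∈ (E : Subgroup (Co K))) (hx : x ∈ (Q : Subgroup (Co K))) :
    ⁅t, x⁆ ∈ (Z : Subgroup (Co K)) := by
  simp only [mem_Z, mem_E, mem_Q] at *
  and_intros <;> simp [commutatorElement_def, ht, hx] <;> grind

theorem m1_E_T8 {t x : Co K} (ht : t ∈ (E : Subgroup (Co K))) (hx : x ∈ (T8 : Subgroup (Co K))) :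
    ⁅t, x⁆ ∈ (D3 : Subgroup (Co K)) := by
  simp only [mem_D3, mem_E, mem_T8] at *
  and_intros <;> simp [commutatorElement_def, ht, hx] <;> grind

theorem m1_E_S {t : Co K} (ht : t ∈ (E : Subgroup (Co K))) (x : Co K) :
    ⁅t, x⁆ ∈ (E : Subgroup (Co K)) ∧ ⁅t, x⁆.b2 = 0 := by
  simp only [mem_E] at *
  and_intros <;> simp [commutatorElement_def, ht] <;> grind

theorem m1_R1_S {y : Co K} (hy : y ∈ (R1 : Subgroup (Co K))) (x : Co K) :
    ⁅y, x⁆ ∈ (M2 : Subgroup (Co K)) ∧ ⁅y, x⁆.a4 = σ x.a1 * y.b8 := by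
  simp only [mem_R1, mem_M2] at *
  and_intros <;> simp [commutatorElement_def, hy] <;> grind

theorem m1_Q_S {y : Co K} (hy : y ∈ (Q : Subgroup (Co K))) (x : Co K) :
    ⁅y, x⁆.a1 = 0 ∧ ⁅y, x⁆.a2 = y.a1 * x.a8 ∧ ⁅y, x⁆.a8 = 0 ∧ ⁅y, x⁆.b8 = 0 ∧
      (x.a8 = 0 → ⁅y, x⁆.a4 = σ y.a1 * x.b8) := by
  simp only [mem_Q] at *
  refine ⟨?_, ?_, ?_, ?_, fun h8 => ?_⟩
  · simp [commutatorElement_def, hy] <;> grind
  · simp [commutatorElement_def, hy] <;> grind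
  · simp [commutatorElement_def, hy] <;> grind
  · simp [commutatorElement_def, hy] <;> grind
  · simp [commutatorElement_def, hy, h8] <;> grind

theorem m1_ZV : (Z : Subgroup (Co K)) ≤ V := fun x hx => by simp_all

theorem m1_VD : (V : Subgroup (Co K)) ≤ D3 := fun x hx => by simp_all

theorem m1_DE : (D3 : Subgroup (Co K)) ≤ E := fun x hx => by simp_all

theorem m1_a4 {c : Co K} (h : c * c = 1) (hc : c ∈ (M2 : Subgroup (Co K))) : c.a4 = 0 := by
  rcases inv_M2 h hc with k | k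
  · exact k.2.2.1
  · exact k.2.2.2.1

theorem m1_ZW (hV : V ≤ X) : Z ≤ Wz X := fun z hz =>
  ⟨hV (m1_ZV hz), m1_sqE (m1_DE (m1_VD (m1_ZV hz))), fun y _ => by
    rw [mem_Z] at hz
    ext <;> simp [hz] <;> grind⟩

theorem m1_Bz (hV : V ≤ X) (h1 : ¬ X ≤ R) : Bz X ≤ Q := by
  obtain ⟨e, he, k⟩ := SetLike.not_le_iff_exists.1 h1
  rw [mem_R] at k
  refine Bz_le_of fun x _ x2 c => ?_
  by_cases a1 : x.a1 = 0
  · have r := inv_R x2 a1
    have e4 := (m1_R1_S r e).2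
    rw [(Wz_le_E hV h1 (c e he)).2.2.1] at e4
    exact ⟨r.2.2, (mul_eq_zero.1 e4.symm).resolve_left (σ_ne k)⟩
  · exact inv_Q x2 a1

theorem E_le_mixed (h : Gd ⊤ X 𝒜) (hV : V ≤ X) (h1 : ¬ X ≤ R) : E ≤ X := by
  have hZ := Z_le_Ph hV h1
  have hO : Om X ≤ T8 := Om_le_of fun _ _ e => inv_a8 e
  have hB := m1_Bz hV h1
  have hZW := m1_ZW hV
  have hD : D3 ≤ X := fun t ht => h.chain1 (mem_top t) h.iv_Om
    (fun x _ => have := m1_D3_S ht x; mem_sup_left (mem_Om (hV this) (m1_sqE (m1_DE (m1_VD this)))))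
    fun _ hx => hZ (m1_D3_T8 ht (hO hx))
  have hVB : V ≤ Bz X := fun v hv => mem_Bz (hV hv) (m1_sqE (m1_DE (m1_VD hv))) fun y _ => hZW (m1_V_S hv y)
  have h3 : ∀ t ∈ (E : Subgroup (Co K)), t.b2 = 0 → t ∈ X := fun t ht b2 =>
    h.chain t (mem_top t) _ _ h.iv_Om h.iv_Bz
      (fun x _ => have := m1_EJ_S ht b2 x; mem_sup_left (mem_Om (hD this) (m1_sqE (m1_DE this))))
      (fun _ hx => mem_sup_left (hVB (m1_EJ_T8 ht b2 (hO hx)))) fun _ hx => hZ (m1_E_Q ht (hB hx))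
  intro t ht
  by_cases h8 : X ≤ T8
  · exact h.chain1 (mem_top t) h.iv_Bz
      (fun x hx => have := m1_E_T8 ht (h8 hx)
        mem_sup_left (mem_Bz (hD this) (m1_sqE (m1_DE this)) fun y hy => hZW (m1_D3_T8 this (h8 hy))))
      fun _ hx => hZ (m1_E_Q ht (hB hx))
  · obtain ⟨e, he, k⟩ := SetLike.not_le_iff_exists.1 h8
    rw [mem_T8] at k
    have k' := σ_ne k
    have pV : V ≤ Ph X := fun v hv => by
      refine co_step hZ (comm_mem_Ph (hD (x := x5 (v.b6 / e.a8)) (by simp)) he) ?_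
      simp only [mem_V] at hv
      simp only [mem_Z]
      and_intros <;> simp [commutatorElement_def, hv] <;> grind
    have pD : D3 ≤ Ph X := fun d hd => by
      refine co_step pV (comm_mem_Ph (h3 (x3 (d.a5 / σ e.a8)) (by simp) rfl) he) ?_
      simp only [mem_D3] at hd
      simp only [mem_V]
      and_intros <;> simp [commutatorElement_def, hd] <;> grind
    exact h.chain1 (mem_top t) h.iv_Om
      (fun x _ => have := m1_E_S ht x; mem_sup_left (mem_Om (h3 _ this.1 this.2) (m1_sqE this.1)))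
      fun _ hx => pD (m1_E_T8 ht (hO hx))

theorem m1_EJ {y : Co K} (y2 : y * y = 1) (c : ∀ x ∈ X, ⁅y, x⁆ * ⁅y, x⁆ = 1) (h1 : ¬ X ≤ R) (h2 : ¬ X ≤ Q) :
    y ∈ (E : Subgroup (Co K)) ∨ y ∈ (J3 : Subgroup (Co K)) := by
  obtain ⟨e0, he0, k0⟩ := SetLike.not_le_iff_exists.1 h1
  obtain ⟨e1, he1, k1⟩ := SetLike.not_le_iff_exists.1 h2
  rw [mem_R] at k0
  rw [mem_Q] at k1
  have a1 : y.a1 = 0 := by
    by_contra a1
    obtain ⟨c1, c2, c8, d8, c4⟩ := m1_Q_S (inv_Q y2 a1) e1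
    have r := inv_R (c e1 he1) c1
    have a8 : e1.a8 = 0 := (mul_eq_zero.1 (c2.symm.trans r.2.1)).resolve_left a1
    have := (c4 a8).symm.trans (m1_a4 (c e1 he1) ⟨c1, r.2.1, c8, d8⟩)
    exact k1 ⟨a8, (mul_eq_zero.1 this).resolve_left (σ_ne a1)⟩
  have r := inv_R y2 a1
  obtain ⟨m, c4⟩ := m1_R1_S r e0
  have := c4.symm.trans (m1_a4 (c e0 he0) m)
  exact inv_M2 y2 ⟨r.1, r.2.1, r.2.2, (mul_eq_zero.1 this).resolve_left (σ_ne k0)⟩

theorem iv_E (h : Gd ⊤ X 𝒜) (o : Orb X 𝒜) (hE : E ≤ X) (h1 : ¬ X ≤ R) (h2 : ¬ X ≤ Q) : Iv 𝒜 X E := by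
  refine o E J3 normal_E hE (by rw [card_J3, card_EE]) fun f hf => ?_
  have a := h.au f hf
  have sq : ∀ e ∈ (E : Subgroup (Co K)), f e * f e = 1 := fun e he => by
    rw [← a.mul e (hE he) e (hE he), m1_sqE he, a.one]
  have key : ∀ e ∈ (E : Subgroup (Co K)), f e ∈ (E : Subgroup (Co K)) ∨ f e ∈ (J3 : Subgroup (Co K)) :=
    fun e he => m1_EJ (X := X) (sq e he) (fun x hx => by
      obtain ⟨x', hx', rfl⟩ := a.surj hx
      rw [← a.comm (hE he) hx']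
      exact sq _ (m1_E_S he x').1) h1 h2
  by_contra n
  simp only [not_or, not_forall] at n
  obtain ⟨⟨u, hu, nu⟩, v, hv, nv⟩ := n
  have e := a.mul u (hE hu) v (hE hv)
  rcases key _ (mul_mem hu hv) with k | k <;> rw [e] at k
  · exact nu ((mul_mem_cancel_right ((key v hv).resolve_right nv)).1 k)
  · exact nv ((mul_mem_cancel_left ((key u hu).resolve_left nu)).1 k)

end H78.Ofs
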