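import Mathlib
import Cfsg.Agent.Lib.Ofs.TL2
import Cfsg.Agent.Lib.Ofs.CO

/-!
# Essential subgroups outside `Q` and `R`, second part (OFS M2)
-/

set_option autoImplicit false
set_option linter.unusedSectionVars false

namespace H78.Ofs

open H78.Oct H78.Oct.Co Subgroup
open scoped commutatorElement

variable {K : Type*} [Field K] [Tits K] [Finite K] {A X : Subgroup (Co K)} {𝒜 : Set (Co K → Co K)}


theorem M2_nrm {N : Subgroup (Co K)} [hN : N.Normal] {t : Co K} (ht : t ∈ N) (x : Co K) : ⁅t, x⁆ ∈ N := by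
  rw [commutatorElement_def, mul_assoc, mul_assoc, ← mul_assoc x]
  exact mul_mem ht (hN.conj_mem _ (inv_mem ht) x)

theorem M2_EQ {e x : Co K} (he : e ∈ (E : Subgroup (Co K))) (hx : x ∈ (Q : Subgroup (Co K))) :
    ⁅e, x⁆ ∈ (Z : Subgroup (Co K)) := by
  simp only [mem_E, mem_Q, mem_Z] at *
  and_intros <;> simp [commutatorElement_def, he, hx] <;> grind

theorem M2_QQ {e x : Co K} (he : e ∈ (Q : Subgroup (Co K))) (hx : x ∈ (Q : Subgroup (Co K))) :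
    ⁅e, x⁆ ∈ (E : Subgroup (Co K)) := by
  simp only [mem_E, mem_Q] at *
  and_intros <;> simp [commutatorElement_def, he, hx] <;> grind

theorem M2_SF (t : Co K) {x : Co K} (hx : x ∈ (F : Subgroup (Co K))) : ⁅t, x⁆ ∈ (E : Subgroup (Co K)) := by
  simp only [mem_E, mem_F] at *
  and_intros <;> simp [commutatorElement_def, hx] <;> grind

theorem M2_FE {x e : Co K} (hx : x ∈ (F : Subgroup (Co K))) (he : e ∈ (E : Subgroup (Co K))) :
    e * x = x * e := by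
  simp only [mem_E, mem_F] at *
  ext <;> simp [hx, he] <;> grind

theorem M2_z8 (t : K) (x : Co K) : ⁅y8 0 t, x⁆ ∈ (M2 : Subgroup (Co K)) := by
  simp only [mem_M2]
  and_intros <;> simp [commutatorElement_def] <;> grind

theorem M2_y8 (t : K) (x : Co K) : ⁅y8 t 0, x⁆ * y8 0 (⁅y8 t 0, x⁆).b8 ∈ (Q ⊓ R : Subgroup (Co K)) := by
  simp only [mem_inf, mem_Q, mem_R]
  and_intros <;> simp [commutatorElement_def] <;> grind

theorem M2_yT (t : K) {x : Co K} (hx : x ∈ (T8 : Subgroup (Co K))) :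
    ⁅y8 t 0, x⁆ ∈ (Q ⊓ R : Subgroup (Co K)) := by
  simp only [mem_inf, mem_Q, mem_R, mem_T8] at *
  and_intros <;> simp [commutatorElement_def, hx] <;> grind

theorem M2_yR (t : K) {x : Co K} (hx : x ∈ (Q ⊓ R : Subgroup (Co K))) :
    ⁅y8 t 0, x⁆ ∈ (M2 : Subgroup (Co K)) := by
  simp only [mem_inf, mem_Q, mem_R, mem_M2] at *
  and_intros <;> simp [commutatorElement_def, hx] <;> grind

theorem M2_a1 {e g : Co K} (e8 : e.a8 ≠ 0) (hg : g ∈ (M2 : Subgroup (Co K))) (g6 : g.a6 = 0) :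
    ⁅y6 (g.a7 / e.a8) 0, e⁆ * g ∈ (F : Subgroup (Co K)) := by
  simp only [mem_F, mem_M2] at *
  and_intros <;> simp [commutatorElement_def, hg, g6] <;> grind

theorem M2_a2 {e g : Co K} (e8 : e.a8 ≠ 0) (hg : g ∈ (M2 : Subgroup (Co K))) :
    ⁅y2 (g.a6 / σ e.a8) 0, e⁆ * g ∈ (M2 : Subgroup (Co K)) ∧ (⁅y2 (g.a6 / σ e.a8) 0, e⁆ * g).a6 = 0 := by
  have := σ_ne e8
  simp only [mem_M2] at *
  and_intros <;> simp [commutatorElement_def, hg] <;> grind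

theorem M2_a3 {e g : Co K} (e8 : e.a8 ≠ 0) (hg : g ∈ (Q ⊓ R : Subgroup (Co K))) :
    ⁅x1 (g.a2 / e.a8), e⁆ * g ∈ (M2 : Subgroup (Co K)) := by
  simp only [mem_inf, mem_Q, mem_R, mem_M2] at *
  and_intros <;> simp [commutatorElement_def, hg] <;> grind

theorem M2_b1 {e g : Co K} (e0 : e.a8 = 0) (e8 : e.b8 ≠ 0) (hg : g ∈ (M2 : Subgroup (Co K))) (g6 : g.a6 = 0) :
    ⁅y2 (g.a7 / e.b8) 0, e⁆ * g ∈ (F : Subgroup (Co K)) := by
  simp only [mem_F, mem_M2] at *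
  and_intros <;> simp [commutatorElement_def, hg, g6, e0] <;> grind

theorem M2_b2 {e g : Co K} (e0 : e.a8 = 0) (e8 : e.b8 ≠ 0) (hg : g ∈ (M2 : Subgroup (Co K))) :
    ⁅x1 (g.a6 / e.b8), e⁆ * g ∈ (M2 : Subgroup (Co K)) ∧ (⁅x1 (g.a6 / e.b8), e⁆ * g).a6 = 0 := by
  simp only [mem_M2] at *
  and_intros <;> simp [commutatorElement_def, hg, e0] <;> grind

theorem M2_inv {y : Co K} (hy : y ∈ (Q : Subgroup (Co K))) (h1 : y ∉ (R : Subgroup (Co K))) :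
    ∃ m ∈ (M2 : Subgroup (Co K)), y * m * (y * m) = 1 := by
  refine ⟨y⁻¹ * (y8 (y.a2 / y.a1) 0 * x1 y.a1 * (y8 (y.a2 / y.a1) 0)⁻¹), ?_, ?_⟩
  · simp only [mem_Q, mem_R, mem_M2] at *
    and_intros <;> simp [hy] <;> grind
  · have : x1 y.a1 * x1 y.a1 = 1 := by ext <;> simp [CharTwo.add_self_eq_zero]
    rw [mul_inv_cancel_left, conj_mul, this, mul_one, mul_inv_cancel]

theorem M2_inj {y : Co K} (hy : y ∉ (Q : Subgroup (Co K))) {p p' : K × K}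
    (h : ⁅y2 0 p.1 * x3 p.2, y⁆ = ⁅y2 0 p'.1 * x3 p'.2, y⁆) : p = p' := by
  obtain ⟨u, v⟩ := p
  obtain ⟨u', v'⟩ := p'
  have e3 := congrArg Co.a3 h
  have e5 := congrArg Co.a5 h
  by_cases h8 : y.a8 = 0
  · have b8 : y.b8 ≠ 0 := fun k => hy ⟨h8, k⟩
    have e6 := congrArg Co.b6 h
    simp [commutatorElement_def, h8] at e5 e6
    obtain rfl : u = u' := mul_left_cancel₀ b8 (by grind)
    obtain rfl : v = v' := mul_left_cancel₀ b8 (by grind)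
    rfl
  · simp [commutatorElement_def] at e3 e5
    obtain rfl : u = u' := mul_left_cancel₀ h8 (by grind)
    obtain rfl : v = v' := mul_left_cancel₀ (σ_ne h8) (by grind)
    rfl

theorem iv_Q (h : Gd ⊤ X 𝒜) (i : Iv 𝒜 X E) : Iv 𝒜 X (X ⊓ Q) := by
  refine ⟨inf_le_left, fun f hf x hx => ⟨(h.au f hf).mem x hx.1, by_contra fun n => ?_⟩⟩
  have a := h.au f hf
  have ex : ∀ p : K × K, ∃ e ∈ (E : Subgroup (Co K)), f e = y2 0 p.1 * x3 p.2 := fun p => by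
    have m : y2 0 p.1 * x3 p.2 ∈ (E : Subgroup (Co K)) := by simp
    obtain ⟨e, he, k⟩ := a.surj (i.1 m)
    exact ⟨e, h.iv_back i hf he (k ▸ m), k⟩
  choose e he k using ex
  have inj : Function.Injective fun p : K × K => (⁅e p, x⁆).b4 := fun p p' q => by
    have z := M2_EQ (he p) hx.2
    have z' := M2_EQ (he p') hx.2
    have q1 : ⁅e p, x⁆ = ⁅e p', x⁆ := by
      rw [mem_Z] at z z'
      ext <;> first | exact q | simp only [z, z']
    refine M2_inj n ?_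
    rw [← k, ← k, ← a.comm (i.1 (he p)) hx.1, ← a.comm (i.1 (he p')) hx.1, q1]
  have := Nat.card_le_card_of_injective _ inj
  rw [Nat.card_prod] at this
  have := two_le_card (K := K)
  nlinarith

theorem Q_le (h : Gd ⊤ X 𝒜) (hZ : Z ≤ Ph X) (i : Iv 𝒜 X E) : Q ≤ X := by
  by_contra n
  obtain ⟨t, ht, tn, hc⟩ := exists_grow isPGroup n
  exact tn (h.chain t (mem_top t) _ _ (iv_Q h i) i
    (fun x hx => mem_sup_left ⟨hc x hx, M2_nrm ht x⟩) (fun x hx => mem_sup_left (M2_QQ ht hx.2))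
    fun x hx => hZ (by rw [← commutatorElement_inv]; exact inv_mem (M2_EQ hx ht)))

theorem eq_top_of (h : Gd ⊤ X 𝒜) (i : Iv 𝒜 X E) (h1 : Q ≤ X) (h2 : ¬ X ≤ Q) : X = ⊤ := by
  have hE : E ≤ Ph X := E_le_Ph_Q.trans (Ph_le_of fun x hx => sq_mem_Ph (h1 hx))
  have FQ : (F : Subgroup (Co K)) ≤ Q := fun x hx => ⟨hx.2.2.2.2.1, hx.2.2.2.2.2⟩
  have iF : Iv 𝒜 X F := by
    have := h.iv_cent i
    rwa [show X ⊓ centralizer ((E : Subgroup (Co K)) : Set (Co K)) = F from le_antisymm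
      (fun x hx => cent_E' fun e he => (hx.2 e he).symm)
      fun x hx => ⟨h1 (FQ hx), fun e he => M2_FE hx he⟩] at this
  have SF : ∀ t : Co K, ∀ x ∈ (F : Subgroup (Co K)), ⁅t, x⁆ ∈ Ph X := fun t x hx => hE (M2_SF t hx)
  have cm : ∀ {q e g : Co K}, q ∈ (Q : Subgroup (Co K)) → e ∈ X → ⁅q, e⁆ * g ∈ F ⊔ Ph X → g ∈ F ⊔ Ph X :=
    fun hq he hg => (mul_mem_cancel_left (mem_sup_right (comm_mem_Ph (h1 hq) he))).1 hg
  have z8 : M2 ≤ F ⊔ Ph X → ∀ t, y8 0 t ∈ X := fun hM t =>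
    h.chain1 (mem_top _) iF (fun x _ => hM (M2_z8 t x)) (SF _)
  by_cases c : ∃ e ∈ X, e.a8 ≠ 0
  · obtain ⟨e, he, e8⟩ := c
    have s1 : ∀ g ∈ (M2 : Subgroup (Co K)), g.a6 = 0 → g ∈ F ⊔ Ph X := fun g hg g6 =>
      cm (q := y6 (g.a7 / e.a8) 0) (by simp) he (mem_sup_left (M2_a1 e8 hg g6))
    have s2 : M2 ≤ F ⊔ Ph X := fun g hg =>
      cm (q := y2 (g.a6 / σ e.a8) 0) (by simp) he (s1 _ (M2_a2 e8 hg).1 (M2_a2 e8 hg).2)
    have s3 : Q ⊓ R ≤ F ⊔ Ph X := fun g hg =>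
      cm (q := x1 (g.a2 / e.a8)) (by simp) he (s2 (M2_a3 e8 hg))
    have oT : Om X ⊔ F ≤ T8 := sup_le (Om_le_of fun x _ => inv_a8) fun x hx => hx.2.2.2.2.1
    have y8X : ∀ t, y8 t 0 ∈ X := fun t =>
      h.chain _ (mem_top _) _ _ (h.iv_sup h.iv_Om iF) iF (fun x _ => by
          have z : y8 0 (⁅y8 t 0, x⁆).b8 ∈ Om X ⊔ F ⊔ Ph X :=
            mem_sup_left (mem_sup_left (mem_Om (z8 s2 _) (by ext <;> simp [CharTwo.add_self_eq_zero])))
          have l : F ⊔ Ph X ≤ Om X ⊔ F ⊔ Ph X := sup_le_sup_right le_sup_right _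
          exact (mul_mem_cancel_right z).1 (l (s3 (M2_y8 t x))))
        (fun x hx => s3 (M2_yT t (oT hx))) (SF _)
    refine eq_top_iff.2 fun g _ => ?_
    refine (mul_mem_cancel_right (y8X g.a8)).1 ((mul_mem_cancel_right (z8 s2 (g * y8 g.a8 0).b8)).1 (h1 ?_))
    simp [CharTwo.add_self_eq_zero]
  · exfalso
    push Not at c
    obtain ⟨e, he, eQ⟩ := SetLike.not_le_iff_exists.1 h2
    have e8 : e.b8 ≠ 0 := fun k => eQ ⟨c e he, k⟩
    have s1 : ∀ g ∈ (M2 : Subgroup (Co K)), g.a6 = 0 → g ∈ F ⊔ Ph X := fun g hg g6 =>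
      cm (q := y2 (g.a7 / e.b8) 0) (by simp) he (mem_sup_left (M2_b1 (c e he) e8 hg g6))
    have s2 : M2 ≤ F ⊔ Ph X := fun g hg =>
      cm (q := x1 (g.a6 / e.b8)) (by simp) he (s1 _ (M2_b2 (c e he) e8 hg).1 (M2_b2 (c e he) e8 hg).2)
    have iM : Iv 𝒜 X M2 := by
      have := h.iv_sup iF h.iv_Ph
      rwa [show F ⊔ Ph X = M2 from le_antisymm (sup_le (fun x hx => ⟨hx.1, hx.2.1, hx.2.2.2.2⟩)
        (Ph_le_of fun x hx => by simp [c x hx, CharTwo.add_self_eq_zero])) s2] at this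
    have iR : Iv 𝒜 X (Q ⊓ R) := ⟨inf_le_left.trans h1, fun f hf x hx => by
      have a := h.au f hf
      have xX := h1 hx.1
      have yQ := ((iv_Q h i).2 f hf x ⟨xX, hx.1⟩).2
      refine ⟨yQ, by_contra fun n => ?_⟩
      obtain ⟨m, hm, m2⟩ := M2_inv yQ n
      obtain ⟨m', hm', rfl⟩ := a.surj (iM.1 hm)
      have k := h.iv_back iM hf hm' hm
      have xm := mul_mem xX hm'
      rw [← a.mul _ xX _ hm', ← a.mul _ xm _ xm] at m2
      have x1 : x.a1 = 0 := hx.2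
      have r := (inv_R (a.inj _ (mul_mem xm xm) m2) (by simp [x1, k.1])).2.1
      simp only [mul_a2, k.1, k.2.1, mul_zero, add_zero] at r
      exact n (iM.2 f hf x ⟨x1, r, hx.1⟩).1⟩
    exact one_ne_zero (c _ (h.chain (y8 1 0) (mem_top _) _ _ iR iF
      (fun x hx => mem_sup_left (M2_yT 1 (c x hx))) (fun x hx => s2 (M2_yR 1 hx)) (SF _)))

end H78.Ofs
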