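import Mathlib
import Cfsg.Agent.Lib.Ofs.TL2
import Cfsg.Agent.Lib.Ofs.CO

/-!
# An essential subgroup contains `V` (OFS PA)
-/

set_option autoImplicit false
set_option linter.unusedSectionVars false
set_option linter.unnecessarySeqFocus false

namespace H78.Ofs

open H78.Oct H78.Oct.Co Subgroup
open scoped commutatorElement

variable {K : Type*} [Field K] [Tits K] [Finite K] {A X : Subgroup (Co K)} {𝒜 : Set (Co K → Co K)}


theorem pa_core (h : Gc ⊤ X) {a : K} (ha : a ≠ 0) (hc : ∀ x ∈ X, x1 a * x = x * x1 a) : False := by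
  have n := σ_ne ha
  have c1 : ∀ x ∈ X, x.a4 = 0 ∧ x.a6 = 0 ∧ x.b6 = 0 ∧ x.a7 = 0 ∧ x.a8 = 0 ∧ x.b8 = 0 := fun x hx => by
    have e2 := congrArg Co.a2 (hc x hx)
    have e4 := congrArg Co.a4 (hc x hx)
    simp at e2 e4
    have a8 : x.a8 = 0 := by grind
    have b8 : x.b8 = 0 := by grind
    have e5 := congrArg Co.a5 (hc x hx)
    simp [a8, b8] at e5
    have a7 : x.a7 = 0 := by
      have : σ x.a7 = 0 := by grind
      simpa using this
    have e3 := congrArg Co.a3 (hc x hx)
    simp [a8, b8, a7] at e3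
    have a6 : x.a6 = 0 := by
      have : σ x.a6 = 0 := by grind
      simpa using this
    have e6 := congrArg Co.b2 (hc x hx)
    have e7 := congrArg Co.b4 (hc x hx)
    simp [a8, b8, a7, a6] at e6 e7
    grind
  have hY : ∀ y : Co K, y.a2 = 0 → y.a4 = 0 → y.a5 = 0 → y.a6 = 0 → y.b6 = 0 → y.a7 = 0 → y.a8 = 0 →
      y.b8 = 0 → y ∈ X := fun y e1 e2 e3 e4 e5 e6 e7 e8 => h.cent trivial fun x hx => by
    have := c1 x hx
    ext <;> simp [this, e1, e2, e3, e4, e5, e6, e7, e8] <;> grind
  have f := h.f1a (fun v : Fin 3 → K => y4 (v 0) 0 * y6 (v 1) (v 2)) (fun _ => trivial)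
    (fun v x hx => by
      have := c1 x hx
      apply hY <;> simp [commutatorElement_def, this] <;> grind)
    fun v w e => by
      obtain ⟨e1, e2, e3, -⟩ := c1 _ e
      simp at e1 e2 e3
      funext i
      fin_cases i <;> simp <;> grind
  rw [Nat.card_fun, Nat.card_eq_fintype_card (α := Fin 3), Fintype.card_fin, ← pow_mul] at f
  have q2 := two_le_card (K := K)
  change Nat.card K ^ 6 * _ ≤ _ at f
  by_cases k : ∀ x ∈ X, x.a2 = 0
  · have := card_le X 5 (fun x => ![x.a1, x.b2, x.a3, x.b4, x.a5]) fun x hx y hy e => by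
      simp [funext_iff, Fin.forall_fin_succ] at e
      ext <;> simp [c1 x hx, c1 y hy, k x hx, k y hy, e]
    have p : 0 < Nat.card (Ph X) := Nat.card_pos
    have : Nat.card K ^ 6 ≤ Nat.card K ^ 5 := ((Nat.le_mul_of_pos_right _ p).trans f).trans this
    exact absurd ((Nat.pow_le_pow_iff_right (by omega)).1 this) (by omega)
  · push Not at k
    obtain ⟨x, hx, k⟩ := k
    have := card_le X 6 (fun x => ![x.a1, x.a2, x.b2, x.a3, x.b4, x.a5]) fun x hx y hy e => by
      simp [funext_iff, Fin.forall_fin_succ] at e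
      ext <;> simp [c1 x hx, c1 y hy, e]
    have p : 1 < Nat.card (Ph X) := (one_lt_card_iff_ne_bot _).2 fun e => k (by
      have := congrArg Co.b2 (mem_bot.1 (e ▸ sq_mem_Ph hx))
      simp [c1 x hx] at this
      exact N_eq_zero (by grind))
    have := (Nat.mul_le_mul_left _ p).trans (f.trans this)
    have : 0 < Nat.card K ^ 6 := by positivity
    omega

theorem V_le (h : Gc ⊤ X) : V ≤ X := by
  have hz : ∀ z ∈ (Z : Subgroup (Co K)), z ∈ Wz X := fun z hz => by
    simp only [mem_Z] at hz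
    have c : ∀ x, z * x = x * z := fun x => by ext <;> simp [hz] <;> grind
    exact ⟨h.cent trivial fun x _ => c x, by ext <;> simp [hz] <;> grind, fun x _ => c x⟩
  intro v hv
  simp only [mem_V] at hv
  refine h.chain1 trivial h.iv_Wz (fun x _ => mem_sup_left (hz _ ?_)) fun w hw => ?_
  · simp only [mem_Z]
    and_intros <;> simp [commutatorElement_def, hv] <;> grind
  by_cases h1 : w.a1 = 0
  · rw [show ⁅v, w⁆ = 1 by ext <;> simp [commutatorElement_def, hv, h1] <;> grind]
    exact one_mem _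
  obtain ⟨s, hs⟩ := conj_x1' hw.2.1 h1
  refine (pa_core (h.pre (au_conj ⊤ s)) h1 fun x hx => ?_).elim
  have := hw.2.2 _ hx.2
  rw [← hs, conj_mul, conj_mul] at this
  simpa using this

end H78.Ofs
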