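import Mathlib
import Cfsg.Agent.Lib.Ofs.TL2
import Cfsg.Agent.Lib.Ofs.CO

/-!
# The only essential subgroup in `Q` is `Q` (OFS PQ)
-/

set_option autoImplicit false
set_option linter.unusedSectionVars false
set_option linter.unnecessarySeqFocus false

namespace H78.Ofs

open H78.Oct H78.Oct.Co Subgroup
open scoped commutatorElement

variable {K : Type*} [Field K] [Tits K] [Finite K] {A X : Subgroup (Co K)} {𝒜 : Set (Co K → Co K)}

theorem PQ_QQ {x y : Co K} (hx : x ∈ (Q : Subgroup (Co K))) (hy : y ∈ (Q : Subgroup (Co K))) :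
    ⁅x, y⁆ ∈ (E : Subgroup (Co K)) := by
  rw [mem_Q] at hx hy
  simp only [mem_E]
  and_intros <;> simp [commutatorElement_def, hx, hy] <;> grind

theorem PQ_EQ {x y : Co K} (hx : x ∈ (E : Subgroup (Co K))) (hy : y ∈ (Q : Subgroup (Co K))) :
    ⁅x, y⁆ ∈ (Z : Subgroup (Co K)) := by
  rw [mem_Q] at hy
  rw [mem_E] at hx
  simp only [mem_Z]
  and_intros <;> simp [commutatorElement_def, hx, hy] <;> grind

theorem PQ_QE {x y : Co K} (hx : x ∈ (Q : Subgroup (Co K))) (hy : y ∈ (E : Subgroup (Co K))) :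
    ⁅x, y⁆ ∈ (Z : Subgroup (Co K)) := by
  rw [← commutatorElement_inv]
  exact inv_mem (PQ_EQ hy hx)

theorem PQ_E_sq {x : Co K} (hx : x ∈ (E : Subgroup (Co K))) : x * x = 1 := by
  rw [mem_E] at hx
  ext <;> simp [hx] <;> grind

theorem PQ_E_le_Q : (E : Subgroup (Co K)) ≤ Q := fun _ hx => ⟨hx.2.2.2.2.2.1, hx.2.2.2.2.2.2⟩

theorem PQ_Z_le_E : (Z : Subgroup (Co K)) ≤ E := fun x hx => by
  rw [mem_Z] at hx
  simp [hx]

theorem PQ_x1 {s : K} (hs : s ≠ 0) {x : Co K} (hx : x ∈ (Q : Subgroup (Co K)))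
    (hc : ⁅x1 s, x⁆ ∈ (Z : Subgroup (Co K))) : x.a4 = 0 ∧ x.a6 = 0 ∧ x.a7 = 0 := by
  rw [mem_Q] at hx
  rw [mem_Z] at hc
  obtain ⟨-, -, e1, e2, -, e3, -⟩ := hc
  simp [commutatorElement_def, hx] at e1 e2 e3
  have h7 : x.a7 = 0 := by
    have : s * σ x.a7 = 0 := by grind
    simpa [hs] using this
  have h6 : x.a6 = 0 := by
    have : s * σ x.a6 = 0 := by
      simp [h7] at e2
      grind
    simpa [hs] using this
  have h4 : x.a4 = 0 := by
    have : s * x.a4 = 0 := by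
      simp [h6] at e1
      grind
    simpa [hs] using this
  exact ⟨h4, h6, h7⟩

theorem PQ_core (h : Gc Q X) (hZ : Z ≤ Ph X) (hE : E ≤ X) {s : K} (hs : s ≠ 0)
    (hc : ∀ x ∈ X, ⁅x1 s, x⁆ ∈ (Z : Subgroup (Co K))) : False := by
  have hX : ∀ x ∈ X, x.a8 = 0 ∧ x.b8 = 0 ∧ x.a4 = 0 ∧ x.a6 = 0 ∧ x.a7 = 0 := fun x hx =>
    ⟨(h.le hx).1, (h.le hx).2, PQ_x1 hs (h.le hx) (hc x hx)⟩
  have hf := h.f1b h.le le_rfl fun t ht x hx => hE (PQ_QQ ht (h.le hx))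
  rw [card_Q] at hf
  have hq := two_le_card (K := K)
  by_cases ha : ∃ x ∈ X, x.a2 ≠ 0
  · obtain ⟨x, hx, ha⟩ := ha
    have h7 : Nat.card X ≤ Nat.card K ^ 7 :=
      card_le X 7 (fun x => ![x.a1, x.a2, x.b2, x.a3, x.b4, x.a5, x.b6]) fun x hx y hy e => by
        obtain ⟨p1, p2, p3, p4, p5⟩ := hX x hx
        obtain ⟨q1, q2, q3, q4, q5⟩ := hX y hy
        have e0 := congrFun e 0
        have e1 := congrFun e 1
        have e2 := congrFun e 2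
        have e3 := congrFun e 3
        have e4 := congrFun e 4
        have e5 := congrFun e 5
        have e6 := congrFun e 6
        simp at e0 e1 e2 e3 e4 e5 e6
        ext <;> simp [*]
    have hlt : (Z : Subgroup (Co K)) < Ph X := by
      refine lt_of_le_of_ne hZ fun e => ha ?_
      have h1 : x * x ∈ (Z : Subgroup (Co K)) := e ▸ sq_mem_Ph hx
      obtain ⟨p1, p2, p3, p4, p5⟩ := hX x hx
      have h2 := h1.2.2.1
      simp [p1, p2, p3, p4, p5] at h2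
      exact N_eq_zero (by grind)
    have hP : Nat.card K < Nat.card (Ph X) := by
      rw [← card_Z]
      exact lt_of_le_of_ne (card_le_of_le hlt.le) fun e => hlt.ne (eq_of_le_of_card_ge hlt.le e.ge)
    have h3 : Nat.card X ^ 3 ≤ (Nat.card K ^ 7) ^ 3 := Nat.pow_le_pow_left h7 3
    have h4 : (Nat.card K ^ 10) ^ 2 * Nat.card K < (Nat.card K ^ 10) ^ 2 * Nat.card (Ph X) :=
      Nat.mul_lt_mul_of_pos_left hP (by positivity)
    have h5 : (Nat.card K ^ 10) ^ 2 * Nat.card K = (Nat.card K ^ 7) ^ 3 := by ring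
    omega
  · push Not at ha
    have h6 : Nat.card X ≤ Nat.card K ^ 6 :=
      card_le X 6 (fun x => ![x.a1, x.b2, x.a3, x.b4, x.a5, x.b6]) fun x hx y hy e => by
        obtain ⟨p1, p2, p3, p4, p5⟩ := hX x hx
        obtain ⟨q1, q2, q3, q4, q5⟩ := hX y hy
        have p6 := ha x hx
        have q6 := ha y hy
        have e0 := congrFun e 0
        have e1 := congrFun e 1
        have e2 := congrFun e 2
        have e3 := congrFun e 3
        have e4 := congrFun e 4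
        have e5 := congrFun e 5
        simp at e0 e1 e2 e3 e4 e5
        ext <;> simp [*]
    have h3 : Nat.card X ^ 3 ≤ (Nat.card K ^ 6) ^ 3 := Nat.pow_le_pow_left h6 3
    have hP : 1 ≤ Nat.card (Ph X) := Nat.card_pos
    have h4 : (Nat.card K ^ 10) ^ 2 * 1 ≤ (Nat.card K ^ 10) ^ 2 * Nat.card (Ph X) :=
      Nat.mul_le_mul_left _ hP
    have h5 : (Nat.card K ^ 6) ^ 3 < (Nat.card K ^ 10) ^ 2 * 1 := by
      rw [mul_one, ← pow_mul, ← pow_mul]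
      exact Nat.pow_lt_pow_right (by omega) (by norm_num)
    omega

/-- Transport of the hypotheses along an automorphism of `Q`. -/
theorem PQ_pre {θ : Co K → Co K} (a : Au Q θ) (hθZ : ∀ z ∈ (Z : Subgroup (Co K)), θ z ∈ (Z : Subgroup (Co K)))
    (hθZ' : ∀ z ∈ (Q : Subgroup (Co K)), θ z ∈ (Z : Subgroup (Co K)) → z ∈ (Z : Subgroup (Co K)))
    (hθE : ∀ z ∈ (E : Subgroup (Co K)), θ z ∈ (E : Subgroup (Co K)))
    (h : Gc Q X) (hZ : Z ≤ Ph X) (hE : E ≤ X) {y : Co K} (hy : y ∈ (Q : Subgroup (Co K)))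
    (hc : ∀ x ∈ X, ⁅θ y, x⁆ ∈ (Z : Subgroup (Co K))) :
    Gc Q (a.pre X) ∧ Z ≤ Ph (a.pre X) ∧ E ≤ a.pre X ∧ ∀ x ∈ a.pre X, ⁅y, x⁆ ∈ (Z : Subgroup (Co K)) := by
  refine ⟨h.pre a, fun z hz => ?_, fun e he => ⟨PQ_E_le_Q he, hE (hθE e he)⟩, fun x hx => ?_⟩
  · rw [a.pre_Ph h.le]
    exact ⟨PQ_E_le_Q (PQ_Z_le_E hz), hZ (hθZ z hz)⟩
  · refine hθZ' _ (PQ_E_le_Q (PQ_QQ hy hx.1)) ?_
    rw [a.comm hy hx.1]
    exact hc _ hx.2

theorem PQ_a1 (h : Gc Q X) (hZ : Z ≤ Ph X) (hE : E ≤ X) {y : Co K} (h2 : y * y = 1) (h1 : y.a1 ≠ 0)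
    (hc : ∀ x ∈ X, ⁅y, x⁆ ∈ (Z : Subgroup (Co K))) : False := by
  obtain ⟨s, hs⟩ := conj_x1' h2 h1
  obtain ⟨g1, g2, g3, g4⟩ := PQ_pre (au_conj Q s) (fun z hz => normal_Z.conj_mem z hz s)
    (fun z _ hz => by simpa [mul_assoc] using normal_Z.conj_mem _ hz s⁻¹)
    (fun z hz => normal_E.conj_mem z hz s) h hZ hE (y := x1 y.a1) (by simp) (by simpa only [hs] using hc)
  exact PQ_core g1 g2 g3 h1 g4

theorem PQ_w2Z {z : Co K} (hz : z ∈ (Z : Subgroup (Co K))) : w2 z ∈ (Z : Subgroup (Co K)) := by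
  rw [mem_Z] at hz
  simp [hz]

theorem not_inv_Q (h : Gc Q X) (hZ : Z ≤ Ph X) (hE : E ≤ X) {y : Co K} (hy : y ∈ X) (h2 : y * y = 1)
    (hn : y ∉ (E : Subgroup (Co K))) (hc : ∀ x ∈ X, ⁅y, x⁆ ∈ (Z : Subgroup (Co K))) : False := by
  by_cases h1 : y.a1 = 0
  · have hQ := h.le hy
    have hR := inv_R h2 h1
    have hJ := (inv_M2 h2 ⟨h1, hR.2.1, hQ.1, hQ.2⟩).resolve_left hn
    have h7 : y.a7 ≠ 0 := fun h7 => hn (by
      rw [mem_J3] at hJ
      simp [hJ, h7])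
    obtain ⟨g1, g2, g3, g4⟩ := PQ_pre au_w2 (fun z hz => PQ_w2Z hz)
      (fun z hz hz' => by rw [← w2_w2 hz]; exact PQ_w2Z hz')
      (fun z hz => by rw [mem_E] at hz; simp [hz]) h hZ hE (y := w2 y) (w2_mem y)
      (by simpa only [w2_w2 hQ] using hc)
    refine PQ_a1 g1 g2 g3 ?_ (by simpa using h7) g4
    rw [← w2_mul hQ hQ, h2]
    exact au_w2.one
  · exact PQ_a1 h hZ hE h2 h1 hc

theorem PQ_z4a {y : Co K} (hy : y ∈ (Q : Subgroup (Co K))) (u : K) : ⁅y, y6 0 u⁆ = y4 0 (y.a1 * u) := by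
  rw [mem_Q] at hy
  ext <;> simp [commutatorElement_def, hy] <;> grind

theorem PQ_z4b {y : Co K} (hy : y ∈ (Q : Subgroup (Co K))) (u : K) : ⁅y, x5 u⁆ = y4 0 (y.a2 * u) := by
  rw [mem_Q] at hy
  ext <;> simp [commutatorElement_def, hy] <;> grind

theorem PQ_z4c {y : Co K} (hy : y ∈ (Q : Subgroup (Co K))) (u : K) : ⁅y, x3 u⁆ = y4 0 (y.a6 * u) := by
  rw [mem_Q] at hy
  ext <;> simp [commutatorElement_def, hy] <;> grind

theorem PQ_z4d {y : Co K} (hy : y ∈ (Q : Subgroup (Co K))) (u : K) : ⁅y, y2 0 u⁆ = y4 0 (y.a7 * u) := by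
  rw [mem_Q] at hy
  ext <;> simp [commutatorElement_def, hy] <;> grind

theorem PQ_z4 {y : Co K} (hy : y ∈ (Q : Subgroup (Co K))) (hF : y ∉ (F : Subgroup (Co K))) {z : Co K}
    (hz : z ∈ (Z : Subgroup (Co K))) : ∃ e ∈ (E : Subgroup (Co K)), ⁅y, e⁆ = z := by
  have e : y4 0 z.b4 = z := by
    rw [mem_Z] at hz
    ext <;> simp [hz]
  by_cases h1 : y.a1 = 0
  · by_cases h2 : y.a2 = 0
    · by_cases h6 : y.a6 = 0
      · have h7 : y.a7 ≠ 0 := fun h7 => hF ⟨h1, h2, h6, h7, hy.1, hy.2⟩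
        exact ⟨y2 0 (z.b4 / y.a7), by simp, by rw [PQ_z4d hy, mul_div_cancel₀ _ h7, e]⟩
      · exact ⟨x3 (z.b4 / y.a6), by simp, by rw [PQ_z4c hy, mul_div_cancel₀ _ h6, e]⟩
    · exact ⟨x5 (z.b4 / y.a2), by simp, by rw [PQ_z4b hy, mul_div_cancel₀ _ h2, e]⟩
  · exact ⟨y6 0 (z.b4 / y.a1), by simp, by rw [PQ_z4a hy, mul_div_cancel₀ _ h1, e]⟩

theorem PQ_fin {W : Type*} [Group W] [Finite W] {Y : Subgroup W} {f : W → W}
    (h : ∀ z ∈ Y, ∃ z' ∈ Y, f z' = z) : ∀ z ∈ Y, f z ∈ Y := by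
  choose φ h1 h2 using h
  intro z hz
  have hinj : Function.Injective fun x : Y => (⟨φ x x.2, h1 x x.2⟩ : Y) := fun a b e => by
    have e' : φ a a.2 = φ b b.2 := congrArg Subtype.val e
    exact Subtype.ext (by rw [← h2 a a.2, e', h2 b b.2])
  obtain ⟨x, e⟩ := Finite.injective_iff_surjective.1 hinj ⟨z, hz⟩
  have e' : φ x x.2 = z := congrArg Subtype.val e
  rw [← e', h2]
  exact x.2

theorem eq_Q (h : Gc Q X) (hZ : Z ≤ Ph X) : X = Q := by
  have hE : E ≤ X := fun e he => h.chain0 (PQ_E_le_Q he) fun x hx => hZ (PQ_EQ he (h.le hx))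
  have hiv : Iv {f | Au X f} X E := by
    refine ⟨hE, fun f a e he => ?_⟩
    replace a : Au X f := a
    by_contra hn
    have hy := a.mem e (hE he)
    have h2 : f e * f e = 1 := by rw [← a.mul _ (hE he) _ (hE he), PQ_E_sq he, a.one]
    have hF : f e ∉ (F : Subgroup (Co K)) := fun hF => hn (by
      have h4 := congrArg Co.b4 h2
      rw [mem_F] at hF
      simp [hF] at h4
      have h5 : (f e).a4 = 0 := N_eq_zero (by grind)
      simp [hF, h5])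
    have hfZ : ∀ z ∈ (Z : Subgroup (Co K)), f z ∈ (Z : Subgroup (Co K)) := PQ_fin fun z hz => by
      obtain ⟨e', he', rfl⟩ := PQ_z4 (h.le hy) hF hz
      obtain ⟨x, hx, rfl⟩ := a.surj (hE he')
      exact ⟨⁅e, x⁆, PQ_EQ he (h.le hx), a.comm (hE he) hx⟩
    refine not_inv_Q h hZ hE hy h2 hn fun x hx => ?_
    obtain ⟨x', hx', rfl⟩ := a.surj hx
    rw [← a.comm (hE he) hx']
    exact hfZ _ (PQ_EQ he (h.le hx'))
  refine le_antisymm h.le fun t ht => h.chain1 ht hiv (fun x hx => ?_) fun x hx => hZ (PQ_QE ht hx)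
  exact mem_sup_left (PQ_QQ ht (h.le hx))

end H78.Ofs
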