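import Mathlib
import Cfsg.Agent.Lib.Ofs.TL2
import Cfsg.Agent.Lib.Ofs.CO

/-!
# No essential subgroup lies in `R1` (OFS R0)
-/

set_option autoImplicit false
set_option linter.unusedSectionVars false
set_option linter.unnecessarySeqFocus false

namespace H78.Ofs

open H78.Oct H78.Oct.Co Subgroup
open scoped commutatorElement

variable {K : Type*} [Field K] [Tits K] [Finite K] {A X : Subgroup (Co K)} {𝒜 : Set (Co K → Co K)}

theorem r0_VR {v x : Co K} (hv : v ∈ (V : Subgroup (Co K))) (hx : x ∈ (R : Subgroup (Co K))) : v * x = x * v := by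
  rw [mem_V] at hv; rw [mem_R] at hx
  ext <;> simp [hv, hx] <;> grind

theorem r0_D3sq {d : Co K} (hd : d ∈ (D3 : Subgroup (Co K))) : d * d = 1 := by
  rw [mem_D3] at hd
  ext <;> simp [hd] <;> grind

theorem r0_D3R {d x : Co K} (hd : d ∈ (D3 : Subgroup (Co K))) (hx : x ∈ (R : Subgroup (Co K))) :
    ⁅d, x⁆ ∈ (V : Subgroup (Co K)) := by
  rw [mem_D3] at hd; rw [mem_R] at hx
  simp only [mem_V]; and_intros <;> simp [commutatorElement_def, hd, hx] <;> grind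

theorem r0_D3R1 {d x : Co K} (hd : d ∈ (D3 : Subgroup (Co K))) (hx : x ∈ (R1 : Subgroup (Co K))) :
    d * x = x * d := by
  rw [mem_D3] at hd; rw [mem_R1] at hx
  ext <;> simp [hd, hx] <;> grind

theorem r0_RR1 {t x : Co K} (ht : t ∈ (R : Subgroup (Co K))) (hx : x ∈ (R1 : Subgroup (Co K))) :
    ⁅t, x⁆ ∈ (J3 : Subgroup (Co K)) := by
  rw [mem_R] at ht; rw [mem_R1] at hx
  simp only [mem_J3]; and_intros <;> simp [commutatorElement_def, ht, hx] <;> grind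

theorem r0_RJ3 {t x : Co K} (ht : t ∈ (R : Subgroup (Co K))) (hx : x ∈ (J3 : Subgroup (Co K))) :
    ⁅t, x⁆ ∈ (D3 : Subgroup (Co K)) := by
  rw [mem_R] at ht; rw [mem_J3] at hx
  simp only [mem_D3]; and_intros <;> simp [commutatorElement_def, ht, hx] <;> grind

theorem r0_R1R1 {t x : Co K} (ht : t ∈ (R1 : Subgroup (Co K))) (hx : x ∈ (R1 : Subgroup (Co K))) :
    ⁅t, x⁆ ∈ (D3 : Subgroup (Co K)) := by
  rw [mem_R1] at ht hx
  simp only [mem_D3]; and_intros <;> simp [commutatorElement_def, ht, hx] <;> grind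

theorem r0_J3R1 {t x : Co K} (ht : t ∈ (J3 : Subgroup (Co K))) (hx : x ∈ (R1 : Subgroup (Co K))) :
    ⁅t, x⁆ ∈ (V : Subgroup (Co K)) := by
  rw [mem_J3] at ht; rw [mem_R1] at hx
  simp only [mem_V]; and_intros <;> simp [commutatorElement_def, ht, hx] <;> grind

theorem r0_J3J3 {t x : Co K} (ht : t ∈ (J3 : Subgroup (Co K))) (hx : x ∈ (J3 : Subgroup (Co K))) :
    t * x = x * t := by
  rw [mem_J3] at ht hx
  ext <;> simp [ht, hx] <;> grind

theorem r0_TC {t x : Co K} (h1 : t.a1 = 0) (h8 : t.a8 = 0) (hx : x ∈ (R1 : Subgroup (Co K))) (h7 : x.a7 = 0)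
    (hb : x.b8 = 0) : ⁅t, x⁆ ∈ (E : Subgroup (Co K)) := by
  rw [mem_R1] at hx
  simp only [mem_E]; and_intros <;> simp [commutatorElement_def, h1, h8, hx, h7, hb] <;> grind

theorem r0_pre_Wz {M : Subgroup (Co K)} {θ : Co K → Co K} (a : Au M θ) {x : Co K} (hx : x ∈ M)
    (h : θ x ∈ Wz X) : x ∈ Wz (a.pre X) :=
  ⟨⟨hx, h.1⟩, a.inj _ (mul_mem hx hx) (by rw [a.mul x hx x hx, h.2.1]), fun y hy =>
    a.eq (mul_mem hx hy.1) (mul_mem hy.1 hx) (by rw [a.mul x hx y hy.1, a.mul y hy.1 x hx, h.2.2 _ hy.2])⟩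

/-- the contrapositive of `chain1` for the central involutions -/
theorem r0_ex (h : Gc R X) {t : Co K} (ht : t ∈ (R : Subgroup (Co K))) (hX : t ∉ X)
    (e : ∀ x ∈ X, ⁅t, x⁆ ∈ Wz X) : ∃ w ∈ Wz X, t * w ≠ w * t := by
  by_contra k
  refine hX (h.chain1 ht h.iv_Wz (fun x hx => mem_sup_left (e x hx)) fun w hw => ?_)
  rw [commutatorElement_eq_one_iff_mul_comm.2 (by_contra fun c => k ⟨w, hw, c⟩)]
  exact one_mem _

theorem r0_V (h : Gc R X) : V ≤ Wz X := fun v hv =>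
  ⟨h.cent hv.1 fun _ hx => r0_VR hv (h.le hx), r0_D3sq (by rw [mem_V] at hv; simp [hv]),
    fun _ hx => r0_VR hv (h.le hx)⟩

theorem r0_conj (h1 : X ≤ R1) (s : Co K) : (au_conj R s).pre X ≤ R1 := fun x hx => by
  simpa only [mul_assoc, inv_inv, inv_mul_cancel_left, inv_mul_cancel, mul_one] using
    normal_R1.conj_mem _ (h1 hx.2) s⁻¹

theorem D3_le (h : Gc R X) : D3 ≤ X := fun d hd => by
  by_contra k
  obtain ⟨w, hw, e⟩ := r0_ex h hd.1 k fun x hx => r0_V h (r0_D3R hd (h.le hx))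
  exact e (r0_D3R1 hd (inv_R hw.2.1 (h.le hw.1)))

theorem r0_D3 (h : Gc R X) (h1 : X ≤ R1) : D3 ≤ Wz X := fun _ hd =>
  ⟨D3_le h hd, r0_D3sq hd, fun _ hx => r0_D3R1 hd (h1 hx)⟩

theorem not_R1_of_J3 (h : Gc R X) (h1 : X ≤ R1) (h2 : J3 ≤ X) : False := by
  by_cases e : R1 ≤ X
  · obtain rfl := le_antisymm h1 e
    have := h.chain1 (t := y2 1 0) rfl ⟨h2, fun f hf => au_J3 hf⟩
      (fun x hx => mem_sup_left (r0_RR1 rfl hx)) fun x hx => D3_le_Ph_R1 (r0_RJ3 rfl hx)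
    simp at this
  obtain ⟨t, ht, k⟩ := SetLike.not_le_iff_exists.1 e
  obtain ⟨w, hw, c⟩ := r0_ex h ht.1 k fun x hx => r0_D3 h h1 (r0_R1R1 ht (h1 hx))
  have wJ := cent_J3 fun e he => hw.2.2 e (h2 he)
  have rel : ∀ g ∈ X, w.a7 * g.b2 = w.a3 * g.a6 ∧ w.a7 * g.a4 = w.a3 * g.b8 := fun g hg => by
    have e1 := congrArg Co.b4 (hw.2.2 g hg)
    have e2 := congrArg Co.b6 (hw.2.2 g hg)
    have m := h1 hg
    rw [mem_J3] at wJ; rw [mem_R1] at m
    simp [wJ, m] at e1 e2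
    grind
  have cd : Nat.card X ≤ Nat.card K ^ 7 := by
    by_cases w7 : w.a7 = 0
    · have w3 : w.a3 ≠ 0 := fun w3 => c (r0_D3R1 (by rw [mem_J3] at wJ; simp [wJ, w3, w7]) ht).symm
      refine card_le X 7 (fun g => ![g.b2, g.a3, g.a4, g.b4, g.a5, g.b6, g.a7]) fun x hx y hy e => ?_
      have := rel x hx; have := rel y hy; have := mem_R1.1 (h1 hx); have := mem_R1.1 (h1 hy)
      simp only [Matrix.vecCons_inj] at e
      ext <;> grind
    · refine card_le X 7 (fun g => ![g.a6, g.a3, g.b8, g.b4, g.a5, g.b6, g.a7]) fun x hx y hy e => ?_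
      have := rel x hx; have := rel y hy; have := mem_R1.1 (h1 hx); have := mem_R1.1 (h1 hy)
      simp only [Matrix.vecCons_inj] at e
      ext <;> grind
  have f := h.f1b h.le le_rfl fun t ht x hx => h2 (r0_RR1 ht (h1 hx))
  rw [card_R, ← pow_mul] at f
  have := (Nat.le_mul_of_pos_right _ Nat.card_pos).trans (f.trans (Nat.pow_le_pow_left cd 3))
  rw [← pow_mul, Nat.pow_le_pow_iff_right two_le_card] at this
  omega

theorem r0_z2 (h : Gc R X) (h1 : X ≤ R1) {w : Co K} (hw : w ∈ Wz X) (he : w ∈ (E : Subgroup (Co K)))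
    (h2 : w.b2 ≠ 0) (h3 : w.a3 = 0) : False := by
  have rel : ∀ g ∈ X, g.a7 = 0 ∧ g.b8 = 0 := fun g hg => by
    have e1 := congrArg Co.a5 (hw.2.2 g hg)
    have e2 := congrArg Co.b4 (hw.2.2 g hg)
    have m := h1 hg
    rw [mem_E] at he; rw [mem_R1] at m
    simp [he, m, h3] at e1 e2
    have : g.b8 = 0 := by grind
    grind
  have z2 : ∀ u, y2 0 u ∈ X := fun u => h.cent rfl fun g hg => by
    have m := mem_R1.1 (h1 hg)
    ext <;> simp [m, rel g hg] <;> grind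
  have m3 : ∀ v, x3 v ∈ X := fun v => by
    by_contra k
    obtain ⟨u, hu, c⟩ := r0_ex h (t := x3 v) rfl k fun x hx => r0_D3 h h1 (r0_R1R1 ⟨rfl, rfl, rfl⟩ (h1 hx))
    have m := mem_R1.1 (h1 hu.1)
    have u6 : u.a6 = 0 := (inv_M2 hu.2.1 ⟨m.1, m.2.1, m.2.2, (rel u hu.1).2⟩).elim (fun e => e.2.2.2.1)
      fun e => e.2.2.2.2.1
    exact c (by ext <;> simp [m, rel u hu.1, u6] <;> grind)
  have EX : E ≤ X := fun e he => by
    refine (mul_mem_cancel_left (inv_mem (mul_mem (z2 e.b2) (m3 e.a3)))).1 (D3_le h ?_)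
    rw [mem_E] at he
    simp only [mem_D3]; and_intros <;> simp [he] <;> grind
  have f := h.f1b (N := T8 ⊓ R) (fun x hx => ⟨(h1 hx).2.2, h.le hx⟩) inf_le_right fun t ht x hx =>
    EX (r0_TC ht.2 ht.1 (h1 hx) (rel x hx).1 (rel x hx).2)
  rw [card_TR, ← pow_mul] at f
  have q2 := two_le_card (K := K)
  by_cases a6 : ∀ g ∈ X, g.a6 = 0
  · have cd : Nat.card X ≤ Nat.card K ^ 6 := by
      refine card_le X 6 (fun g => ![g.b2, g.a3, g.a4, g.b4, g.a5, g.b6]) fun x hx y hy e => ?_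
      have := rel x hx; have := rel y hy; have := mem_R1.1 (h1 hx); have := mem_R1.1 (h1 hy)
      have := a6 x hx; have := a6 y hy
      simp only [Matrix.vecCons_inj] at e
      ext <;> grind
    have := (Nat.le_mul_of_pos_right _ Nat.card_pos).trans (f.trans (Nat.pow_le_pow_left cd 3))
    rw [← pow_mul, Nat.pow_le_pow_iff_right q2] at this
    omega
  · obtain ⟨g, hg, g6⟩ : ∃ g ∈ X, g.a6 ≠ 0 := by
      by_contra k
      exact a6 fun g hg => by_contra fun c => k ⟨g, hg, c⟩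
    have m := mem_R1.1 (h1 hg)
    have cd : Nat.card X ≤ Nat.card K ^ 7 := by
      refine card_le X 7 (fun g => ![g.b2, g.a3, g.a4, g.b4, g.a5, g.a6, g.b6]) fun x hx y hy e => ?_
      have := rel x hx; have := rel y hy; have := mem_R1.1 (h1 hx); have := mem_R1.1 (h1 hy)
      simp only [Matrix.vecCons_inj] at e
      ext <;> grind
    have ZP : Z ≤ Ph X := fun z hz => by
      rw [mem_Z] at hz
      convert comm_mem_Ph (m3 (z.b4 / g.a6)) hg using 1
      ext <;> simp [commutatorElement_def, hz, m, rel g hg] <;> grind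
    have le := f.trans (Nat.pow_le_pow_left cd 3)
    rw [← pow_mul, show 7 * 3 = 10 * 2 + 1 from rfl, pow_succ _ (10 * 2),
      Nat.mul_le_mul_left_iff (Nat.pow_pos (by omega))] at le
    replace le := le.trans_eq card_Z.symm
    have := (eq_of_le_of_card_ge ZP le ▸ sq_mem_Ph hg : g * g ∈ (Z : Subgroup (Co K))).2.2.2.2.2.2.2.1
    simp [m, rel g hg] at this
    exact g6 (N_eq_zero (by grind))

theorem not_R1_z2 (h : Gc R X) (h1 : X ≤ R1) {w : Co K} (hw : w ∈ Wz X) (he : w ∈ (E : Subgroup (Co K)))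
    (h2 : w.b2 ≠ 0) : False := by
  have m := normal_E.conj_mem _ he (y8 (w.a3 / w.b2) 0)
  refine r0_z2 (h.pre (au_conj R (y8 (w.a3 / w.b2) 0)⁻¹)) (r0_conj h1 _)
    (r0_pre_Wz _ m.1 (by simpa only [mul_assoc, inv_inv, inv_mul_cancel_left, inv_mul_cancel, mul_one] using hw))
    m ?_ ?_ <;> rw [mem_E] at he <;> simp [he] <;> grind

theorem not_R1 (h : Gc R X) : ¬ X ≤ R1 := fun h1 => by
  by_cases e : J3 ≤ X
  · exact not_R1_of_J3 h h1 e
  obtain ⟨t, ht, k⟩ := SetLike.not_le_iff_exists.1 e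
  obtain ⟨w, hw, c⟩ := r0_ex h ht.1 k fun x hx => r0_V h (r0_J3R1 ht (h1 hx))
  have nJ : w ∉ (J3 : Subgroup (Co K)) := fun m => c (r0_J3J3 ht m)
  have m := h1 hw.1
  by_cases b8 : w.b8 = 0
  · have he := (inv_M2 hw.2.1 ⟨m.1, m.2.1, m.2.2, b8⟩).resolve_right nJ
    exact not_R1_z2 h h1 hw he fun b2 => nJ (by rw [mem_E] at he; simp [he, b2])
  · obtain ⟨s, y, hy, y2, rfl⟩ := red_R1 hw.2.1 m b8
    refine not_R1_z2 ((h.pre (au_conj R (x1 s))).pre au_w1) (fun x hx => ?_)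
      (r0_pre_Wz _ hy.1 (r0_pre_Wz _ (w1_mem y) hw)) hy y2
    have := r0_conj h1 (x1 s) hx.2
    exact ⟨hx.1, this.2.2, this.2.1⟩

end H78.Ofs
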