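import Mathlib
import Cfsg.Agent.Lib.Ofs.R0

/-!
# An essential subgroup of `R` contains `R1` (OFS R1)
-/

set_option autoImplicit false
set_option linter.unusedSectionVars false
set_option linter.unnecessarySeqFocus false

namespace H78.Ofs

open H78.Oct H78.Oct.Co Subgroup
open scoped commutatorElement

variable {K : Type*} [Field K] [Tits K] [Finite K] {A X : Subgroup (Co K)} {𝒜 : Set (Co K → Co K)}

namespace R1x

variable {t x e : Co K}

theorem c_R1_R (ht : t ∈ (R1 : Subgroup (Co K))) (hx : x ∈ (R : Subgroup (Co K))) :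
    ⁅t, x⁆ ∈ (J3 : Subgroup (Co K)) := by
  simp only [mem_R1, mem_R, mem_J3] at *
  and_intros <;> simp [commutatorElement_def, ht, hx] <;> grind

theorem c_R_R1 (ht : t ∈ (R : Subgroup (Co K))) (hx : x ∈ (R1 : Subgroup (Co K))) :
    ⁅t, x⁆ ∈ (J3 : Subgroup (Co K)) := by
  rw [← commutatorElement_inv]
  exact inv_mem (c_R1_R hx ht)

theorem c_J3_R (ht : t ∈ (J3 : Subgroup (Co K))) (hx : x ∈ (R : Subgroup (Co K))) :
    ⁅t, x⁆ ∈ (D3 : Subgroup (Co K)) := by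
  simp only [mem_J3, mem_R, mem_D3] at *
  and_intros <;> simp [commutatorElement_def, ht, hx] <;> grind

theorem c_R1_R1 (ht : t ∈ (R1 : Subgroup (Co K))) (hx : x ∈ (R1 : Subgroup (Co K))) :
    ⁅t, x⁆ ∈ (D3 : Subgroup (Co K)) := by
  simp only [mem_R1, mem_D3] at *
  and_intros <;> simp [commutatorElement_def, ht, hx] <;> grind

theorem c_J3_R1 (ht : t ∈ (J3 : Subgroup (Co K))) (hx : x ∈ (R1 : Subgroup (Co K))) :
    ⁅t, x⁆ ∈ (V : Subgroup (Co K)) := by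
  simp only [mem_J3, mem_R1, mem_V] at *
  and_intros <;> simp [commutatorElement_def, ht, hx] <;> grind

theorem sq_J3 (ht : t ∈ (J3 : Subgroup (Co K))) : t * t = 1 := by
  rw [mem_J3] at ht
  ext <;> simp [ht] <;> grind

theorem D3_J3 : (D3 : Subgroup (Co K)) ≤ J3 := fun x hx => by simp_all

theorem V_D3 : (V : Subgroup (Co K)) ≤ D3 := fun x hx => by simp_all

theorem Om_le (h : X ≤ R) : Om X ≤ R1 := Om_le_of fun _ hx e => inv_R e (h hx)

theorem V_Wz (h : X ≤ R) (hD : D3 ≤ X) : V ≤ Wz X := fun v hv =>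
  ⟨hD (V_D3 hv), sq_J3 (D3_J3 (V_D3 hv)), fun y hy => by
    have := mem_R.1 (h hy)
    rw [mem_V] at hv
    ext <;> simp [hv, this] <;> grind⟩

theorem D3_le_of (h : X ≤ R) (hJ : J3 ≤ X) (he : e ∈ X) (h0 : e.a8 ≠ 0 ∨ e.a2 ≠ 0) (hV : V ≤ A)
    (hP : Ph X ≤ A) : D3 ≤ A := fun d hd => by
  have h1 := mem_R.1 (h he)
  obtain ⟨c, hc, e⟩ : ∃ c ∈ Ph X, c⁻¹ * d ∈ (V : Subgroup (Co K)) := by
    rw [mem_D3] at hd
    rcases h0 with h0 | h0 <;> have := σ_ne h0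
    · refine ⟨_, comm_mem_Ph (hJ (x := x3 (d.a5 / σ e.a8)) (by simp)) he, ?_⟩
      simp only [mem_V]
      and_intros <;> simp [commutatorElement_def, hd, h1] <;> grind
    · refine ⟨_, comm_mem_Ph (hJ (x := x7 (d.a5 / σ e.a2)) (by simp)) he, ?_⟩
      simp only [mem_V]
      and_intros <;> simp [commutatorElement_def, hd, h1] <;> grind
  simpa using mul_mem (hP hc) (hV e)

theorem fin (h : Gc R X) (hJ : J3 ≤ X) (hD : D3 ≤ Ph X) : R1 ≤ X := fun _ ht =>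
  h.chain1 ht.1 h.iv_Om (fun _ hx => have := c_R1_R ht (h.le hx); mem_sup_left (mem_Om (hJ this) (sq_J3 this)))
    fun _ hx => hD (c_R1_R1 ht (Om_le h.le hx))

end R1x

open R1x

theorem R1_le_span (h : Gc R X) {e e' : Co K} (he : e ∈ X) (he' : e' ∈ X)
    (hd : e.a2 * e'.a8 ≠ e.a8 * e'.a2) : R1 ≤ X := by
  have hD := D3_le h
  have h1 := mem_R.1 (h.le he)
  have h1' := mem_R.1 (h.le he')
  have hV : V ≤ Ph X := fun v hv => by
    have d0 : e.a2 * e'.a8 + e.a8 * e'.a2 ≠ 0 := fun k => hd (by grind)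
    obtain ⟨u, u', e1, e2⟩ : ∃ u u', e.a2 * u + e'.a2 * u' = v.b4 ∧ e.a8 * u + e'.a8 * u' = v.b6 :=
      ⟨(v.b4 * e'.a8 + v.b6 * e'.a2) / (e.a2 * e'.a8 + e.a8 * e'.a2),
        (v.b4 * e.a8 + v.b6 * e.a2) / (e.a2 * e'.a8 + e.a8 * e'.a2), by field_simp; grind, by field_simp; grind⟩
    have := mul_mem (comm_mem_Ph (hD (x := x5 u) (by simp)) he) (comm_mem_Ph (hD (x := x5 u') (by simp)) he')
    have k : ∀ (e : Co K) u, e.a1 = 0 → ⁅x5 u, e⁆ = ⟨0, 0, 0, 0, 0, e.a2 * u, 0, 0, e.a8 * u, 0, 0, 0⟩ :=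
      fun e u h => by ext <;> simp [commutatorElement_def, h] <;> grind
    rw [k _ _ h1, k _ _ h1'] at this
    convert this using 1
    rw [mem_V] at hv
    ext <;> simp [hv, e1, e2]
  have hJ : J3 ≤ X := fun t ht => h.chain1 ht.1 h.iv_Om
    (fun _ hx => have := c_J3_R ht (h.le hx); mem_sup_left (mem_Om (hD this) (sq_J3 (D3_J3 this))))
    fun _ hx => hV (c_J3_R1 ht (Om_le h.le hx))
  refine fin h hJ (D3_le_of h.le hJ he ?_ hV le_rfl)
  by_contra k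
  simp only [not_or, not_not] at k
  simp [k] at hd

theorem R1_le_line (h : Gc R X) (h2 : ∀ x ∈ X, x.a2 = 0) {e : Co K} (he : e ∈ X) (h8 : e.a8 ≠ 0) :
    R1 ≤ X := by
  have hD := D3_le h
  have h1 := mem_R.1 (h.le he)
  have e2 := h2 e he
  have hVW := V_Wz h.le hD
  have z6 : ∀ v ∈ (V : Subgroup (Co K)), v.b4 = 0 → v ∈ Ph X := fun v hv h4 => by
    convert comm_mem_Ph (hD (x := x5 (v.b6 / e.a8)) (by simp)) he using 1
    rw [mem_V] at hv
    ext <;> simp [commutatorElement_def, hv, h4, h1, e2] <;> grind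
  have hW : ∀ w ∈ Wz X, w ∈ (R1 : Subgroup (Co K)) ∧ w.b2 = 0 ∧ w.a6 = 0 ∧ w.a4 = 0 ∧ w.a3 = 0 := fun w hw => by
    have r := inv_R hw.2.1 (h.le hw.1)
    obtain ⟨-, i2, i3⟩ := inv_R1 hw.2.1 r
    have c := hw.2.2 e he
    have c3 := congrArg Co.a3 c
    have c7 := congrArg Co.a7 c
    have c5 := congrArg Co.a5 c
    have r' := mem_R1.1 r
    simp only [mul_a3, mul_a5, mul_a7, r', h1, e2, map_zero] at c3 c7 c5
    have b2 : w.b2 = 0 := (mul_eq_zero.1 (show e.a8 * w.b2 = 0 by grind)).resolve_left h8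
    have a6 : w.a6 = 0 := (mul_eq_zero.1 (show e.a8 * w.a6 = 0 by grind)).resolve_left h8
    simp only [b2, a6, map_zero] at i2 i3 c5
    have a4 : w.a4 = 0 := N_eq_zero (by grind)
    have := σ_ne h8
    exact ⟨r, b2, a6, a4, by grind⟩
  have cW : ∀ t ∈ (R1 : Subgroup (Co K)), t.b2 = 0 → ∀ w ∈ Wz X, ⁅t, w⁆ ∈ Ph X := fun t ht b2 w hw => by
    obtain ⟨r, k⟩ := hW w hw
    rw [mem_R1] at ht r
    refine z6 _ ?_ ?_
    · simp only [mem_V]
      and_intros <;> simp [commutatorElement_def, ht, r, k, b2] <;> grind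
    · simp [commutatorElement_def, ht, r, k, b2]
      grind
  have hJ : J3 ≤ X := fun t ht => h.chain t ht.1 _ _ h.iv_Om h.iv_Wz
    (fun _ hx => have := c_J3_R ht (h.le hx); mem_sup_left (mem_Om (hD this) (sq_J3 (D3_J3 this))))
    (fun _ hx => mem_sup_left (hVW (c_J3_R1 ht (Om_le h.le hx)))) (cW t (by simp_all) ht.2.2.1)
  have h4 : ∀ s, y4 s 0 ∈ X := fun s => h.chain _ (by simp) _ _ h.iv_Om h.iv_Wz
    (fun _ hx => have := c_R1_R (t := y4 s 0) (by simp) (h.le hx); mem_sup_left (mem_Om (hJ this) (sq_J3 this)))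
    (fun _ hx => D3_le_of h.le hJ he (Or.inl h8) (hVW.trans le_sup_left) le_sup_right
      (c_R1_R1 (by simp) (Om_le h.le hx))) (cW _ (by simp) rfl)
  refine fin h hJ (D3_le_of h.le hJ he (Or.inl h8) (fun v hv => ?_) le_rfl)
  obtain ⟨s, hs⟩ := N_surj v.b4
  have := mul_mem (sq_mem_Ph (h4 s)) (z6 (y6 0 v.b6) (by simp) rfl)
  convert this using 1
  rw [mem_V] at hv
  ext <;> simp [hv, hs] <;> grind

end H78.Ofs
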