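import Mathlib
import Cfsg.Agent.Lib.Ofs.R1

/-!
# The only essential subgroup in `R` is `R` (OFS R2)
-/

set_option autoImplicit false
set_option linter.unusedSectionVars false
set_option linter.unnecessarySeqFocus false

namespace H78.Ofs

open H78.Oct H78.Oct.Co Subgroup R1x
open scoped commutatorElement

variable {K : Type*} [Field K] [Tits K] [Finite K] {A X : Subgroup (Co K)} {𝒜 : Set (Co K → Co K)}

namespace R2x

theorem exists_ne (h : Gc R X) : ∃ e ∈ X, e.a8 ≠ 0 ∨ e.a2 ≠ 0 := by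
  by_contra k
  push Not at k
  exact not_R1 h fun x hx => ⟨h.le hx, (k x hx).2, (k x hx).1⟩

theorem J3_le (h : Gc R X) (h1 : R1 ≤ X) : J3 ≤ Ph X := fun j hj => by
  obtain ⟨e, he, h0⟩ := exists_ne h
  have e1 := mem_R.1 (h.le he)
  obtain ⟨c, hc, k⟩ : ∃ c ∈ Ph X, c⁻¹ * j ∈ (D3 : Subgroup (Co K)) := by
    rw [mem_J3] at hj
    rcases h0 with h0 | h0
    · refine ⟨_, mul_mem (comm_mem_Ph (h1 (x := y2 0 (j.a3 / e.a8)) (by simp)) he)
        (comm_mem_Ph (h1 (x := y6 (j.a7 / e.a8) 0) (by simp)) he), ?_⟩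
      simp only [mem_D3]
      and_intros <;> simp [commutatorElement_def, hj, e1] <;> grind
    · refine ⟨_, mul_mem (comm_mem_Ph (h1 (x := y4 (j.a3 / e.a2) 0) (by simp)) he)
        (comm_mem_Ph (h1 (x := y8 0 (j.a7 / e.a2)) (by simp)) he), ?_⟩
      simp only [mem_D3]
      and_intros <;> simp [commutatorElement_def, hj, e1] <;> grind
  simpa using mul_mem hc (Ph_le_of (fun x hx => sq_mem_Ph (h1 hx)) (D3_le_Ph_R1 k))

theorem exists_inv (g h : K) : ∃ i ∈ (R1 : Subgroup (Co K)), i * i = 1 ∧ i.a4 = g * σ h ∧ i.a6 = σ g * h := by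
  by_cases k : g = 0
  · exact ⟨1, one_mem _, one_mul _, by simp [k], by simp [k]⟩
  · have := σ_ne k
    refine ⟨x1 (h / g) * y8 0 (g * σ g) * (x1 (h / g))⁻¹, normal_R1.conj_mem _ (by simp) _, ?_, ?_, ?_⟩
    · rw [conj_mul, show y8 0 (g * σ g) * y8 0 (g * σ g) = 1 by ext <;> simp [CharTwo.add_self_eq_zero],
        mul_one, mul_inv_cancel]
    · simp
      field_simp
    · simp
      field_simp

end R2x

open R2x

theorem eq_R_of (h : Gc R X) (h1 : R1 ≤ X) : X = R := by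
  have hJ := J3_le h h1
  refine le_antisymm h.le fun t ht => h.chain1 ht h.iv_Om (fun x hx => ?_)
    fun _ hx => hJ (c_R_R1 ht (Om_le h.le hx))
  have x1 := mem_R.1 (h.le hx)
  rw [mem_R] at ht
  obtain ⟨i, hi, i2, i4, i6⟩ := exists_inv t.a8 x.a2
  obtain ⟨j, hj, j2, j4, j6⟩ := exists_inv x.a8 t.a2
  have hc : ⁅t, x⁆ ∈ (R1 : Subgroup (Co K)) ∧ ⁅t, x⁆.a4 = i.a4 + j.a4 ∧ ⁅t, x⁆.a6 = i.a6 + j.a6 := by
    simp only [mem_R1, i4, i6, j4, j6]
    and_intros <;> simp [commutatorElement_def, ht, x1] <;> grind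
  generalize ⁅t, x⁆ = c at hc
  obtain ⟨hc, c4, c6⟩ := hc
  have m : ∀ y ∈ (R1 : Subgroup (Co K)), y * y = 1 → y ∈ Om X ⊔ Ph X :=
    fun y hy e => mem_sup_left (mem_Om (h1 hy) e)
  have z2 : ∀ u, y2 0 u ∈ Om X ⊔ Ph X := fun u =>
    m _ (by simp) (by ext <;> simp [CharTwo.add_self_eq_zero])
  have z8 : ∀ u, y8 0 u ∈ Om X ⊔ Ph X := fun u =>
    m _ (by simp) (by ext <;> simp [CharTwo.add_self_eq_zero])
  have k : c * i * j * y2 0 (c.b2 + i.b2 + j.b2) * y8 0 (c.b8 + i.b8 + j.b8) ∈ (J3 : Subgroup (Co K)) := by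
    simp only [mem_J3, mem_R1] at hc hi hj ⊢
    and_intros <;> simp [hc, hi, hj, c4, c6] <;> grind
  exact (mul_mem_cancel_right (m i hi i2)).1 ((mul_mem_cancel_right (m j hj j2)).1
    ((mul_mem_cancel_right (z2 _)).1 ((mul_mem_cancel_right (z8 _)).1 (mem_sup_right (hJ k)))))

theorem eq_R (h : Gc R X) : X = R := by
  obtain ⟨e, he, h0⟩ := exists_ne h
  have e1 := mem_R.1 (h.le he)
  refine eq_R_of h ?_
  by_cases k : ∃ e' ∈ X, e.a2 * e'.a8 ≠ e.a8 * e'.a2
  · obtain ⟨e', he', k⟩ := k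
    exact R1_le_span h he he' k
  push Not at k
  by_cases h8 : e.a8 = 0
  · have h2 := h0.resolve_left (not_not.2 h8)
    have := R1_le_line (h.pre au_w1) (e := w1 e) (fun x hx => by
      simpa [h8, h2] using k _ hx.2) ⟨w1_mem e, by rwa [w1_w1 (h.le he)]⟩ (by simpa using h2)
    intro r hr
    have k := (this (x := w1 r) (by simp_all)).2
    rwa [w1_w1 hr.1] at k
  · have := R1_le_line (h.pre (au_conj R (x1 (e.a2 / e.a8)))) (e := (x1 (e.a2 / e.a8))⁻¹ * e * x1 (e.a2 / e.a8))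
      (fun x hx => by
        have k := k _ hx.2
        simp [mem_R.1 hx.1] at k
        grind) ⟨normal_R.conj_mem' _ (h.le he) _, by simpa only [mul_assoc, mul_inv_cancel_left,
          mul_inv_cancel, mul_one] using he⟩ (by simpa using h8)
    intro r hr
    simpa only [mul_assoc, mul_inv_cancel_left, mul_inv_cancel, mul_one]
      using (this (normal_R1.conj_mem' r hr (x1 (e.a2 / e.a8)))).2

end H78.Ofs
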