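import Mathlib
import Cfsg.Agent.Lib.Ofs.Defs
import Cfsg.Agent.Lib.SpX.Ch
import Cfsg.Agent.S3841

/-!
# Essential subgroups: chains, the index bound, odd orbits (OFS TL1)
-/

set_option autoImplicit false
set_option linter.unusedSectionVars false

namespace H78.Ofs

open H78.Oct H78.Oct.Co Subgroup
open scoped commutatorElement

variable {W Γ : Type*} [Group W] [Finite W] [Group Γ] [Finite Γ] {ι : W →* Γ} {E : Subgroup W}

section Tl1

open H93.SX H93.R3 H2 H90 H91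
open H68 (SylowIn)

local notation:max "𝐍(" A ")" => Subgroup.normalizer (SetLike.coe A)
local notation:max "𝐂(" A ")" => Subgroup.centralizer (SetLike.coe A)

theorem tl1_se {N G : Type*} [Group N] [Finite N] [Group G] [Finite G] (π : N →* G)
    (hπ : Function.Surjective π) {T M : Subgroup N} (hS : SylowIn 2 (T.map π) ⊤) (hT : T ≤ M)
    (hK : π.ker ≤ M) (hM : M ≠ ⊤) (h1 : ¬ T ≤ π.ker)
    (h3 : ∀ t ∈ T, π t ≠ 1 → ∀ a, a⁻¹ * t * a ∈ M → a ∈ M) : Cfsg.IsStronglyEmbedded (M.map π) := by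
  have k : ∀ a, π a ∈ M.map π → a ∈ M := fun a ha => by
    rwa [← mem_comap, comap_map_eq, sup_eq_left.2 hK] at ha
  refine ⟨fun e => hM (eq_top_iff.2 fun a _ => k a (e ▸ mem_top _)), ?_, fun g hg => ?_⟩
  · obtain ⟨n, hn⟩ := IsPGroup.iff_card.1 hS.isPGroup
    have h4 := card_dvd_of_le (map_mono (f := π) hT)
    rcases n with _ | n
    · exact (h1 ((Subgroup.map_eq_bot_iff _).1 (card_eq_one.1 hn))).elim
    · rw [hn, pow_succ] at h4
      exact even_iff_two_dvd.2 ((Dvd.intro_left _ rfl).trans h4)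
  · by_contra e
    obtain ⟨⟨u, hu, hu'⟩, ho⟩ := exists_prime_orderOf_dvd_card' 2
      (even_iff_two_dvd.1 (Nat.not_odd_iff_even.1 e))
    rw [← orderOf_coe] at ho
    change orderOf u = 2 at ho
    obtain ⟨m, hm, h5⟩ := (hS.mono (map_mono hT) le_top).exists_cj_le
      (H68.isPGroup_zpowers (k := 1) (x := u) (by rw [pow_one, ← ho, pow_orderOf_eq_one])) (zpowers_le.2 hu)
    obtain ⟨t, ht, e1⟩ := H68.cj_le_iff'.1 h5 _ (mem_zpowers _)
    obtain ⟨a, rfl⟩ := hπ g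
    obtain ⟨b, hb, rfl⟩ := hm
    have h6 := H68.mem_cj.1 hu'
    have h7 := h3 t ht (fun e2 => by
      rw [e2, eq_comm, mul_inv_eq_one, mul_eq_left] at e1
      simp [e1] at ho) (b * a) (k _ (by
        simpa [e1, mul_assoc] using h6))
    exact hg ⟨a, mem_of_mul' h7 hb, rfl⟩

theorem tl1_co.{u} {W : Type u} [Group W] [Finite W] (E : Subgroup W) :
    ∃ (M : Type u) (_ : AddCommGroup M) (_ : Module (ZMod 2) M) (_ : Finite M) (c : W → M),
      (∀ x ∈ E, ∀ y ∈ E, c (x * y) = c x + c y) ∧ (∀ m, ∃ x ∈ E, c x = m) ∧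
      (∀ x ∈ E, c x = 0 ↔ x ∈ Ph E) ∧ Nat.card M * Nat.card (Ph E) = Nat.card E := by
  classical
  haveI : ((Ph E).subgroupOf E).Normal := ⟨fun n hn g => by
    have := mul_mem (comm_mem_Ph g.2 n.2) (mem_subgroupOf.1 hn)
    simpa [mem_subgroupOf, commutatorElement_def] using this⟩
  letI : CommGroup (E ⧸ (Ph E).subgroupOf E) := { QuotientGroup.Quotient.group _ with
    mul_comm := fun a b => by
      obtain ⟨a, rfl⟩ := QuotientGroup.mk_surjective a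
      obtain ⟨b, rfl⟩ := QuotientGroup.mk_surjective b
      rw [← QuotientGroup.mk_mul, ← QuotientGroup.mk_mul, QuotientGroup.eq, mem_subgroupOf]
      simpa [commutatorElement_def, mul_assoc] using comm_mem_Ph (inv_mem b.2) (inv_mem a.2) }
  refine ⟨Additive (E ⧸ (Ph E).subgroupOf E), inferInstance, AddCommGroup.zmodModule fun a => ?_,
    inferInstance, fun x => if h : x ∈ E then Additive.ofMul (QuotientGroup.mk ⟨x, h⟩) else 0,
    fun x hx y hy => ?_, fun a => ?_, fun x hx => ?_, ?_⟩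
  · obtain ⟨a, rfl⟩ := Additive.ofMul.surjective a
    obtain ⟨a, rfl⟩ := QuotientGroup.mk_surjective a
    rw [two_nsmul, ← ofMul_mul, ← QuotientGroup.mk_mul, ofMul_eq_zero, QuotientGroup.eq_one_iff]
    exact sq_mem_Ph a.2
  · simp only [dif_pos hx, dif_pos hy, dif_pos (mul_mem hx hy)]
    rfl
  · obtain ⟨a, rfl⟩ := Additive.ofMul.surjective a
    obtain ⟨a, rfl⟩ := QuotientGroup.mk_surjective a
    exact ⟨a, a.2, by simp only [dif_pos a.2]⟩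
  · simp only [dif_pos hx]
    rw [ofMul_eq_zero, QuotientGroup.eq_one_iff, mem_subgroupOf]
  · rw [← Nat.card_congr (subgroupOfEquivOfLe (Ph_le E)).toEquiv]
    exact (card_eq_card_quotient_mul_card_subgroup _).symm

theorem tl1_ph (F : Cf 2 ι) : (Ph E).map ι = ph (E.map ι) := by
  refine le_antisymm (map_le_iff_le_comap.2 (Ph_le_of fun x hx => ?_)) ((ph_le (F.pm E)).2 ⟨?_, ?_⟩)
  · simpa [pow_two] using ((ph_le (F.pm E)).1 le_rfl).2 _ ⟨x, hx, rfl⟩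
  · rw [← map_commutator]
    exact map_mono (commutator_le.2 fun _ hx _ hy => comm_mem_Ph hx hy)
  · rintro _ ⟨x, hx, rfl⟩
    exact ⟨_, sq_mem_Ph hx, by simp [pow_two]⟩

theorem tl1_nph (F : Cf 2 ι) : nr ι E ≤ nr ι (Ph E) := by
  rw [nr, nr, tl1_ph F]; exact norm_ph le_rfl

/-- The automizer. -/
def tl1A (ι : W →* Γ) (E : Subgroup W) : Set (W → W) := {f | ∃ g ∈ nr ι E, ∀ x ∈ E, Cj ι g x (f x)}

theorem tl1_ex {g : Γ} (hg : g ∈ nr ι E) : ∃ f ∈ tl1A ι E, ∀ x ∈ E, Cj ι g x (f x) := by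
  classical
  choose f hf e using fun x : E => nr_cj hg x.2
  have : ∀ x ∈ E, Cj ι g x (if h : x ∈ E then f ⟨x, h⟩ else 1) := fun x hx => by
    rw [dif_pos hx]; exact e ⟨x, hx⟩
  exact ⟨_, ⟨g, hg, this⟩, this⟩

theorem tl1_iv {A : Subgroup W} (h : Iv (tl1A ι E) E A) : nr ι E ≤ nr ι A := fun g hg => by
  obtain ⟨f, hf, e⟩ := tl1_ex hg
  exact mem_nr fun x hx => ⟨_, h.2 f hf x hx, e x (h.1 hx)⟩

theorem tl1_nsup {A B : Subgroup W} (a : nr ι E ≤ nr ι A) (b : nr ι E ≤ nr ι B) :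
    nr ι E ≤ nr ι (A ⊔ B) := by
  rw [nr, nr, Subgroup.map_sup]; exact norm_sup a b

theorem tl1_chain (F : Cf 2 ι) (h : Es 2 ι E) {t : W} {A B : Subgroup W} (ha : A ≤ E) (hb : B ≤ A)
    (hc : Ph E ≤ B) (a : nr ι E ≤ nr ι A) (b : nr ι E ≤ nr ι B) (e1 : ∀ x ∈ E, ⁅t, x⁆ ∈ A)
    (e2 : ∀ x ∈ A, ⁅t, x⁆ ∈ B) (e3 : ∀ x ∈ B, ⁅t, x⁆ ∈ Ph E) (n : ι t ∈ nr ι (Ph E)) : t ∈ E := by
  obtain ⟨M, -, h2, -, h4⟩ := exists_emb F.pr F.sat h
  by_contra ht'
  have h5 : ι t ∉ E.map ι := mt (mem_map_iff_mem F.inj).1 ht'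
  have hn : ι t ∈ nr ι E := self_nr fun x hx => ha (e1 x hx)
  have ht : ι t ∈ nr ι E ⊓ relCentralizer (E.map ι) (A.map ι) ⊓ relCentralizer (A.map ι) (B.map ι) ⊓
      relCentralizer (B.map ι) ((Ph E).map ι) :=
    ⟨⟨⟨hn, mem_rc_map (self_nr fun x hx => hb (e2 x hx)) fun x hx => ⟨_, Cj.self t x, e1 x hx⟩⟩,
      mem_rc_map (self_nr fun x hx => hc (e3 x hx)) fun x hx => ⟨_, Cj.self t x, e2 x hx⟩⟩,
      mem_rc_map n fun x hx => ⟨_, Cj.self t x, e3 x hx⟩⟩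
  refine h2 fun g hg => h4 _ ⟨⟨t, rfl⟩, hn⟩ h5 _ ⟨⟨t, rfl⟩, hn⟩ h5 g hg _
    (inf_le_left.trans (inf_le_left.trans inf_le_left)) (fun x hx o => ?_) ht (conj_mem ?_ ht)
  · refine cent_of_ph (F.pm E) o hx.1.1.1 fun y hy => tl1_ph F ▸ ?_
    exact comm_mem_of_coprime (F.pm A) o hx.2.1 (hx.1.1.2.2 y hy) fun z hz =>
      comm_mem_of_coprime (F.pm B) o hx.2.1 (hx.1.2.2 z hz) hx.2.2
  · exact norm_inf (norm_inf (norm_inf (norm_norm le_rfl) (norm_rc le_rfl a)) (norm_rc a b))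
      (norm_rc b (tl1_nph F)) hg

theorem tl1_step (F : Cf 2 ι) {t : W} {B C : Subgroup W} (n : ι t ∈ nr ι (Ph E)) (hB : B ≤ E)
    (hC : Ph E ≤ C) (hn : E ≤ 𝐍(C)) (h : ∀ x ∈ B, ⁅t, x⁆ ∈ C) : ∀ x ∈ B ⊔ Ph E, ⁅t, x⁆ ∈ C := by
  intro x hx
  obtain ⟨a, ha, b, hb, rfl⟩ := (mem_sup_iff' (hB.trans (le_norm fun g hg y hy => by
    simpa [commutatorElement_def] using mul_mem (comm_mem_Ph hg (Ph_le E hy)) hy))).1 hx
  have h1 : ⁅t, b⁆ ∈ Ph E := mul_mem ((Cj.self t b).mem F.inj n hb) (inv_mem hb)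
  have := mul_mem (h a ha) (conj_mem (hn (hB ha)) (hC h1))
  convert this using 1
  simp only [commutatorElement_def]; group

theorem tl1_nE {C : Subgroup W} (h1 : Ph E ≤ C) (h2 : C ≤ E) : E ≤ 𝐍(C) :=
  le_norm fun g hg y hy => by
    simpa [commutatorElement_def] using mul_mem (h1 (comm_mem_Ph hg (h2 hy))) hy

theorem tl1_orb (F : Cf 2 ι) (h : Es 2 ι E) : Orb E (tl1A ι E) := by
  intro A B hA hE hc hf
  have h1 : ι.range ⊓ nr ι E ⊔ 𝐂(E.map ι) ≤ nr ι E ⊓ nr ι A := sup_le (by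
    rintro _ ⟨⟨t, rfl⟩, ht⟩
    exact ⟨ht, self_nr fun x hx => mul_mem (hA.conj_mem x hx t) (inv_mem hx)⟩)
    (le_inf (cent_le_norm _) (norm_of_cent le_rfl (map_mono hE)))
  have h2 : ∀ g ∈ nr ι E, g ∉ nr ι A → cn g (A.map ι) = B.map ι := fun g hg hg' => by
    obtain ⟨f, hf', e⟩ := tl1_ex hg
    refine eq_of_le_of_card_ge (cn_le_iff.2 ?_) ?_
    · rintro _ ⟨x, hx, rfl⟩
      exact ⟨_, (hf f hf').resolve_left (fun e' => hg' (mem_nr fun x hx => ⟨_, e' x hx, e x (hE hx)⟩)) x hx,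
        Eq.symm (e x (hE hx))⟩
    · rwa [H1.card_conj_smul, card_map_of_injective F.inj, card_map_of_injective F.inj]
  have h3 : nr ι E ≤ nr ι A := by
    refine (le_of_syl (p := 2) (M := nr ι E ⊓ nr ι A) inf_le_left
      ((lg_norm F.pr F.sat h.2.1).trans (lg_mono h1)) le_rfl fun x hx o => ⟨hx, ?_⟩).trans inf_le_right
    by_contra e
    have e' : x⁻¹ ∉ nr ι A := fun a => e (by simpa using inv_mem a)
    have h4 : x * x ∈ nr ι A := cn_eq_iff.1 (by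
      have := congrArg (cn x) ((h2 x hx e).trans (h2 _ (inv_mem hx) e').symm)
      rwa [cn_cn, cn_cn_inv] at this)
    exact e (mem_of_coprime (p := 2) (k := 1) (by simpa [pow_two] using h4) o)
  exact ⟨hE, fun f ⟨g, hg, e⟩ x hx => (e x (hE hx)).mem F.inj (h3 hg) hx⟩

theorem tl1_f1 (F : Cf 2 ι) (h : Es 2 ι E) :
    E.relIndex 𝐍(E) ^ 2 * Nat.card (Ph E) ≤ Nat.card E := by
  obtain ⟨V, _, _, _, c, c1, c2, c3, c4⟩ := tl1_co E
  have o : Co ι E c := ⟨c1, c2, fun g hg x hx y hy e e' =>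
    (c3 y hy).2 (e.mem F.inj (tl1_nph F hg) ((c3 x hx).1 e'))⟩
  choose f hf using fun g : nr ι E => o.exists_ac g.2
  let ρ : nr ι E →* V ≃ₗ[ℤ] V := MonoidHom.mk' f fun a b => o.uniq (hf _) ((hf a).mul (hf b))
  haveI : Finite ρ.range := Finite.of_surjective _ ρ.rangeRestrict_surjective
  obtain ⟨M, h1, h2, h3, h4⟩ := exists_emb F.pr F.sat h
  set K := nr ι E ⊓ relCentralizer (E.map ι) ((Ph E).map ι) with hK
  have k0 : ∀ g : nr ι E, g ∈ ρ.rangeRestrict.ker ↔ (g : Γ) ∈ K := fun g => by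
    rw [MonoidHom.ker_rangeRestrict, MonoidHom.mem_ker]
    refine ⟨fun e => ⟨g.2, mem_rc_map (tl1_nph F g.2) fun x hx => ?_⟩, fun e => o.uniq (hf g)
      ⟨g.2, fun x hx y hy e' => ?_⟩⟩
    · obtain ⟨y, hy, e'⟩ := nr_cj g.2 hx
      have := (hf g).2 x hx y hy e'
      rw [show f g = 1 from e, one_smul] at this
      exact ⟨y, e', (c3 _ (mul_mem hy (inv_mem hx))).1 (by rw [o.div hy hx, this, sub_self])⟩
    · obtain ⟨z, hz, e1⟩ := e.2.2 _ ⟨x, hx, rfl⟩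
      have : z = y * x⁻¹ := F.inj (by rw [e1, map_mul, map_inv, ← e']; rfl)
      rw [one_smul, eq_comm, ← sub_eq_zero, ← o.div hy hx, c3 _ (mul_mem hy (inv_mem hx))]
      exact this ▸ hz
  have k1 : ∀ x ∈ K, (orderOf x).Coprime 2 → x ∈ 𝐂(E.map ι) := fun x hx o =>
    cent_of_ph (F.pm E) o hx.1 fun y hy => tl1_ph F ▸ hx.2.2 y hy
  have nK : nr ι E ≤ 𝐍(K) := norm_inf (norm_norm le_rfl) (norm_rc le_rfl (tl1_nph F))
  have k2 : (ι.range ⊓ nr ι E) ⊓ K ≤ E.map ι := fun t ht => by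
    by_contra e
    exact h2 fun g hg => h4 _ ht.1 e _ ht.1 e g hg K inf_le_left k1 ht.2 (conj_mem (nK hg) ht.2)
  have hE : E.map ι ≤ ι.range ⊓ nr ι E := le_inf (map_le_range ι E) le_normalizer
  have kC : 𝐂(E.map ι) ≤ K := fun g hg => ⟨cent_le_norm _ hg, tl1_nph F (cent_le_norm _ hg),
    fun y hy => comm_eq_one hg hy ▸ one_mem _⟩
  have kE : E.map ι ≤ K := fun g hg => ⟨le_normalizer hg, tl1_nph F (le_normalizer hg),
    fun y hy => tl1_ph F ▸ comm_mem (eq_ph (F.pm E)).comm hg hy⟩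
  have k3 : K ≤ M := by
    refine le_of_syl (p := 2) (J := E.map ι ⊔ 𝐂(E.map ι)) (sup_le kE kC) ?_
      (le_trans (sup_le_sup_right (le_inf le_normalizer (norm_self hE)) _) h1)
      fun x hx o => h1 (mem_sup_right (k1 x hx o))
    have a1 := lg_sup (p := 2) ((inf_le_right (a := ι.range)).trans nK)
    have a2 := lg_sup (p := 2) ((inf_le_right (a := ι.range)).trans
      (norm_sup le_rfl (norm_cent (X := E.map ι) le_rfl)))
    have a3 := lg_mono (p := 2) (k2.trans (le_inf hE (le_sup_left (b := 𝐂(E.map ι)))))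
    have a4 := lg_mono (p := 2) (sup_le_sup_left (le_sup_right (a := E.map ι) (b := 𝐂(E.map ι)))
      (ι.range ⊓ nr ι E))
    have a5 := lg_norm F.pr F.sat h.2.1
    have a6 : lg 2 (ι.range ⊓ nr ι E ⊔ K) ≤ lg 2 (nr ι E) := lg_mono (sup_le inf_le_right inf_le_left)
    clear_value K
    unfold nr at *
    omega
  let j : 𝐍(E) →* nr ι E := (ι.comp 𝐍(E).subtype).codRestrict _ fun x =>
    self_nr fun y hy => comm_mem_r x.2 hy
  have hj : ∀ g : nr ι E, g ∈ j.range ↔ (g : Γ) ∈ ι.range := fun g =>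
    ⟨by rintro ⟨x, rfl⟩; exact ⟨x, rfl⟩, fun ⟨x, e⟩ => ⟨⟨x, mem_norm fun y hy =>
      (Cj.self x y).mem F.inj (e ▸ g.2) hy⟩, Subtype.ext e⟩⟩
  obtain ⟨P, p1, p2, p3⟩ := exists_syl (F.pr.to_le inf_le_left)
    (le_sup_left : ι.range ⊓ nr ι E ≤ _ ⊔ 𝐂(E.map ι))
  have hS : SylowIn 2 (j.range.map ρ.rangeRestrict) ⊤ := by
    have := (H68.sylowIn_top (p3 _ (sup_le inf_le_right (cent_le_norm _))
      (lg_norm F.pr F.sat h.2.1)).toSylow).map ρ.rangeRestrict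
    rw [← MonoidHom.range_eq_map, MonoidHom.range_eq_top.2 ρ.rangeRestrict_surjective] at this
    convert this using 1
    refine le_antisymm (map_mono fun g hg => p1 ⟨(hj g).1 hg, g.2⟩) ?_
    rintro _ ⟨g, hg, rfl⟩
    obtain ⟨a, ha, b, hb, e⟩ := (mem_sup_iff' (inf_le_right.trans (norm_cent le_rfl))).1 (p2 hg)
    refine ⟨⟨a, ha.2⟩, (hj _).2 ha.1, ?_⟩
    rw [show g = ⟨a, ha.2⟩ * ⟨b, cent_le_norm _ hb⟩ from Subtype.ext e, map_mul,
      MonoidHom.mem_ker.1 ((k0 ⟨b, cent_le_norm _ hb⟩).2 (kC hb)), mul_one]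
  have se := tl1_se ρ.rangeRestrict ρ.rangeRestrict_surjective (M := M.subgroupOf (nr ι E)) hS
    (fun g hg => h1 (mem_sup_left ⟨g.2, le_normalizer ⟨(hj g).1 hg, g.2⟩⟩))
    (fun g hg => k3 ((k0 g).1 hg)) (mt subgroupOf_eq_top.1 h2)
    (fun e => (ess_lt F.pr F.sat h).not_ge (lg_mono fun t ht =>
      k2 ⟨ht, (k0 ⟨t, ht.2⟩).1 (e ((hj _).2 ht.1))⟩))
    fun t ht e a ha => h3 t ⟨(hj t).1 ht, t.2⟩ (fun e' => e ((k0 t).2 (kE e'))) a a.2 ha
  let σ : Representation (ZMod 2) ρ.range V :=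
    { toFun := fun g => (g.1.toLinearMap.toAddMonoidHom).toZModLinearMap 2
      map_one' := rfl
      map_mul' := fun _ _ => rfl }
  obtain ⟨k, hk⟩ := IsPGroup.iff_card.1 hS.isPGroup
  have b1 := (Cfsg.Agent.S3841.result _ se hS.toSylowTop σ (fun a b e =>
    Subtype.ext (LinearEquiv.ext fun v => LinearMap.congr_fun e v))).1 k hk
  have b2 : E.relIndex 𝐍(E) = 2 ^ k := by
    rw [← hk, ← MonoidHom.range_comp, ← index_ker, relIndex]
    congr 1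
    ext x
    rw [MonoidHom.mem_ker, MonoidHom.comp_apply, ← MonoidHom.mem_ker, k0, mem_subgroupOf]
    exact ⟨fun e => kE ⟨_, e, rfl⟩, fun e => (mem_map_iff_mem F.inj).1 (k2 ⟨⟨⟨_, rfl⟩, e.1⟩, e⟩)⟩
  rw [b2, ← c4, Module.natCard_eq_pow_finrank (K := ZMod 2) (V := V), Nat.card_zmod, ← pow_mul, mul_comm k]
  exact Nat.mul_le_mul_right _ (Nat.pow_le_pow_right two_pos b1)

theorem tl1_main (F : Cf 2 ι) (h : Es 2 ι E) : Gd ⊤ E (tl1A ι E) := by
  refine ⟨le_top, ?_, ?_, fun t _ A B a b e1 e2 e3 => ?_, by rw [top_inf_eq]; exact tl1_f1 F h⟩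
  · rintro f ⟨g, hg, e⟩
    exact ⟨fun x hx => (e x hx).mem F.inj hg hx,
      fun x hx y hy => (e _ (mul_mem hx hy)).uniq F.inj ((e x hx).mul (e y hy)),
      fun x hx e' => (e' ▸ e x hx).symm.uniq F.inj (by simp [Cj]) ⟩
  · rintro f ⟨g, hg, e⟩
    obtain ⟨f', hf, e'⟩ := tl1_ex (inv_mem hg)
    exact ⟨f', hf, fun x hx => (e' _ ((e x hx).mem F.inj hg hx)).uniq F.inj (e x hx).symm⟩
  · have hB : B ⊔ Ph E ≤ E := sup_le b.1 (Ph_le E)
    have hA : A ⊔ Ph E ≤ E := sup_le a.1 (Ph_le E)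
    have hAB : (A ⊔ B) ⊔ Ph E ≤ E := sup_le (sup_le a.1 b.1) (Ph_le E)
    have n : ι t ∈ nr ι (Ph E) := tl1_nph F (self_nr fun x hx => hA (e1 x hx))
    have e4 := tl1_step F n b.1 le_rfl (tl1_nE le_rfl (Ph_le E)) e3
    refine tl1_chain F h hAB (sup_le_sup_right le_sup_right _) le_sup_right
      (tl1_nsup (tl1_nsup (tl1_iv a) (tl1_iv b)) (tl1_nph F)) (tl1_nsup (tl1_iv b) (tl1_nph F))
      (fun x hx => sup_le_sup_right (le_sup_left (b := B)) _ (e1 x hx)) ?_ e4 n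
    intro x hx
    rw [sup_assoc] at hx
    obtain ⟨u, hu, v, hv, rfl⟩ := (mem_sup_iff' (a.1.trans (tl1_nE le_sup_right hB))).1 hx
    have := mul_mem (e2 u hu) (conj_mem (tl1_nE le_sup_right hB (a.1 hu)) (mem_sup_right (e4 v hv)))
    convert this using 1
    simp only [commutatorElement_def]; group

theorem tl1_eqns : True := by
  have := @tl1A.eq_1.{0, 0}
  trivial

end Tl1

theorem es_gd (F : H93.SX.Cf 2 ι) (h : H93.SX.Es 2 ι E) : ∃ 𝒜, Gd ⊤ E 𝒜 ∧ Orb E 𝒜 :=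
  ⟨_, tl1_main F h, tl1_orb F h⟩

end H78.Ofs
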