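import Mathlib
import Cfsg.Agent.Lib.Ofs.TL1
import Cfsg.Agent.Lib.Ofs.R2
import Cfsg.Agent.Lib.Ofs.PQ
import Cfsg.Agent.Lib.Ofs.M1
import Cfsg.Agent.Lib.Ofs.M2
import Cfsg.Agent.Lib.Ofs.PA

/-!
# The essential subgroups are `Q` and `R` (OFS ES)
-/

set_option autoImplicit false
set_option linter.unusedSectionVars false

namespace H78.Ofs

open H78.Oct H78.Oct.Co Subgroup
open H93.SX (Cj nr Cf Es)

variable {K Γ : Type*} [Field K] [Tits K] [Finite K] [Group Γ] [Finite Γ] {ι : Co K →* Γ} {X : Subgroup (Co K)}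

theorem es_cases (F : Cf 2 ι) (h : Es 2 ι X) : X = Q ∨ X = R := by
  obtain ⟨𝒜, g, o⟩ := es_gd F h
  by_cases h1 : X ≤ R
  · exact Or.inr (eq_R (g.top.mono h1 le_top))
  have hV := V_le g.top
  have hZ := Z_le_Ph hV h1
  by_cases h2 : X ≤ Q
  · exact Or.inl (eq_Q (g.top.mono h2 le_top) hZ)
  have i := iv_E g o (E_le_mixed g hV h1) h1 h2
  exact (h.ne F (eq_top_of g i (Q_le g hZ i) h2)).elim

theorem es_top (F : Cf 2 ι) (h : Es 2 ι X) : nr ι ⊤ ≤ nr ι X := fun g hg => by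
  obtain ⟨Y, h1, h2⟩ := h.cn F hg
  have c : Nat.card Y = Nat.card X := by
    rw [← card_map_of_injective F.inj, h2, H1.card_conj_smul, card_map_of_injective F.inj]
  have n : Nat.card (Q : Subgroup (Co K)) ≠ Nat.card (R : Subgroup (Co K)) := by
    rw [card_Q, card_R]
    exact fun e => absurd (Nat.pow_right_injective two_le_card e) (by decide)
  refine H93.R3.cn_eq_iff.1 (h2 ▸ ?_)
  rcases es_cases F h with rfl | rfl <;> rcases es_cases F h1 with rfl | rfl
  exacts [rfl, (n c.symm).elim, (n c).elim, rfl]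

end H78.Ofs
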