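import Mathlib
import Cfsg.Agent.Lib.Ofs.Def2
import Cfsg.Agent.Lib.Oct.GR
import Cfsg.Agent.Lib.Oct.OP

/-!
# Field automorphisms of the large Ree groups (OFS FG)
-/

set_option autoImplicit false
set_option linter.unusedSectionVars false

namespace H78.Ofs

open H78.Oct H78.Oct.Co Subgroup
open H93.SX (Cj nr)
open scoped commutatorElement

variable {K Γ : Type*} [Field K] [Tits K] [Finite K] [Group Γ] [Finite Γ]

/-- `p` acts on the image of `S` -/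
def FGa {X : Type*} [Group X] (S : Subgroup (Co K)) (f : Co K →* X) (p : X) : Prop :=
  ∀ r ∈ S, ∃ r' ∈ S, p * f r * p⁻¹ = f r'

theorem FGa.mul {X : Type*} [Group X] {S : Subgroup (Co K)} {f : Co K →* X} {p q : X}
    (hp : FGa S f p) (hq : FGa S f q) : FGa S f (p * q) := fun r hr => by
  obtain ⟨a, ha, e⟩ := hq r hr
  obtain ⟨b, hb, e'⟩ := hp a ha
  exact ⟨b, hb, by rw [← e', ← e]; group⟩

theorem FGa.nf {X : Type*} [Group X] (S : Subgroup (Co K)) [hS : S.Normal] (f : Co K →* X) (a : Co K) :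
    FGa S f (f a) := fun r hr => ⟨a * r * a⁻¹, hS.conj_mem r hr a, by simp⟩

theorem fg_rel (O : Oct K Γ) (φ : Gal K) (S : Subgroup (Co K)) [S.Normal]
    (hS : ∀ ψ : Gal K, ∀ r ∈ S, fl ψ r ∈ S) (hT : ∀ c k, ∀ r ∈ S, tor c k r ∈ S) (hz : y4 0 1 ∈ S)
    (hc : ∀ (P : Par K (centralizer ({O.z} : Set Γ))) g, (∀ a ∈ S, Commute g (P.nf a)) →
      ∃ v, g = P.nf v ∧ ∀ c k, tor c k v = v → c ≠ 1 → k ≠ 1 → v = 1)
    {n : Γ} (nn : n * n = 1) {w : Co K → Co K} (hw : ∀ a ∈ S, n * O.nf a * n = O.nf (w a))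
    (wm : ∀ a, w a ∈ S) (fw : ∀ a, fl φ (w a) = w (fl φ a)) {s a b : Co K} {x : Kˣ × Kˣ}
    (e : n * O.nf s * n = O.nf a * O.h x * n * O.nf b) {c k : Kˣ} (c1 : c ≠ 1) (k1 : k ≠ 1)
    (hn : n * O.h (c, k) * n = O.h (c, k)) (ts : tor c k (fl φ s) = fl φ s)
    (ta : tor c k (fl φ a) = fl φ a) (tb : tor c k (fl φ b) = fl φ b) :
    n * O.nf (fl φ s) * n = O.nf (fl φ a) * O.h (gu φ x.1, gu φ x.2) * n * O.nf (fl φ b) := by
  let f := O.nf.prod (O.nf.comp (fld φ).toMonoidHom)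
  have ni : n⁻¹ = n := inv_eq_of_mul_eq_one_right nn
  have a1 : FGa S f (n, n) := fun r hr => ⟨w r, wm r, Prod.ext
    ((congrArg (n * O.nf r * ·) ni).trans (hw r hr))
    ((congrArg (n * O.nf (fl φ r) * ·) ni).trans ((hw _ (hS φ r hr)).trans (congrArg O.nf (fw r).symm)))⟩
  have a2 : FGa S f (O.h x, O.h (gu φ x.1, gu φ x.2)) := fun r hr => ⟨tor x.1 x.2 r, hT _ _ r hr,
    Prod.ext (O.h_nf _ _ r) ((O.h_nf _ _ _).trans (congrArg O.nf (fl_tor φ _ _ r).symm))⟩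
  have p := (a1.mul (FGa.nf S f s)).mul a1
  have q := (((FGa.nf S f a).mul a2).mul a1).mul (FGa.nf S f b)
  have key : ∀ r ∈ S, Commute ((O.nf (fl φ a) * O.h (gu φ x.1, gu φ x.2) * n * O.nf (fl φ b))⁻¹ *
      (n * O.nf (fl φ s) * n)) (O.nf r) := fun r hr => by
    obtain ⟨r1, -, e1⟩ := p _ (hS φ⁻¹ r hr)
    obtain ⟨r2, -, e2⟩ := q _ (hS φ⁻¹ r hr)
    have e3 : r1 = r2 := O.inj (((congrArg Prod.fst e1).symm.trans
      (congrArg (fun w => w * O.nf (fl φ⁻¹ r) * w⁻¹) e)).trans (congrArg Prod.fst e2))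
    have e4 : n * O.nf (fl φ s) * n * O.nf (fl φ (fl φ⁻¹ r)) * (n * O.nf (fl φ s) * n)⁻¹ =
        O.nf (fl φ a) * O.h (gu φ x.1, gu φ x.2) * n * O.nf (fl φ b) * O.nf (fl φ (fl φ⁻¹ r)) *
          (O.nf (fl φ a) * O.h (gu φ x.1, gu φ x.2) * n * O.nf (fl φ b))⁻¹ :=
      (congrArg Prod.snd e1).trans (e3 ▸ (congrArg Prod.snd e2).symm)
    rw [fl_fl, mul_inv_cancel, fl_one] at e4
    generalize n * O.nf (fl φ s) * n = A,
      O.nf (fl φ a) * O.h (gu φ x.1, gu φ x.2) * n * O.nf (fl φ b) = B at e4 ⊢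
    calc B⁻¹ * A * O.nf r = B⁻¹ * (A * O.nf r * A⁻¹) * A := by group
      _ = O.nf r * (B⁻¹ * A) := by rw [e4]; group
  obtain ⟨P, hP⟩ := O.exists_par
  obtain ⟨v, ev, hv⟩ := hc P ⟨_, mem_centralizer_singleton_iff.2 (key _ hz).eq⟩ fun r hr =>
    Subtype.ext (by simpa only [coe_mul, hP.nf] using (key r hr).eq)
  replace ev := (congrArg Subtype.val ev).trans (hP.nf v)
  have c0 : ∀ {u}, tor c k u = u → Commute (O.h (c, k)) (O.nf u) := fun h =>
    mul_inv_eq_iff_eq_mul.1 (by rw [O.h_nf, h])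
  have c2 : Commute (O.h (c, k)) n := by
    change _ * _ = _ * _
    conv_rhs => rw [← hn, ← mul_assoc, ← mul_assoc, nn, one_mul]
  have c3 : Commute (O.h (c, k)) (O.nf v) := ev ▸
    ((((c0 ta).mul_right ((Commute.all _ _).map O.h)).mul_right c2).mul_right (c0 tb)).inv_right.mul_right
      ((c2.mul_right (c0 ts)).mul_right c2)
  rw [hv c k (O.inj (by rw [← O.h_nf, c3.eq, mul_inv_cancel_right])) c1 k1, map_one] at ev
  exact (inv_mul_eq_one.1 ev).symm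

theorem fg_N {c : Kˣ} (hc : c ≠ 1) {t : K} (h : (c : K) * σ (c : K) * t = t) : t = 0 :=
  by_contra fun h0 => hc (Units.ext (N_inj (by
    simpa using mul_right_cancel₀ h0 (h.trans (one_mul _).symm))))

/-- the diagonal data -/
def fgD (O : Oct K Γ) (φ : Gal K) {c : Kˣ} (hc : c ≠ 1) : Pre K (Γ × Γ) where
  nf := O.nf.prod (O.nf.comp (fld φ).toMonoidHom)
  n1 := (O.n1, O.n1)
  n2 := (O.n2, O.n2)
  n11 := Prod.ext O.n11 O.n11
  n22 := Prod.ext O.n22 O.n22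
  rho := Prod.ext O.rho O.rho
  n1_nf a ha := Prod.ext (O.n1_nf a ha) ((O.n1_nf (fl φ a) (by rw [mem_R] at ha ⊢; simp [ha])).trans
    (congrArg O.nf (fl_w1 φ a).symm))
  n2_nf a ha := Prod.ext (O.n2_nf a ha) ((O.n2_nf (fl φ a) (by rw [mem_Q] at ha ⊢; simp [ha])).trans
    (congrArg O.nf (fl_w2 φ a).symm))
  h := O.h.prod (O.h.comp ((gu φ).prodMap (gu φ)))
  h_nf c k a := Prod.ext (O.h_nf c k a) ((O.h_nf _ _ _).trans (congrArg O.nf (fl_tor φ c k a).symm))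
  n1_h c k := Prod.ext (O.n1_h c k) (O.n1_h _ _)
  n2_h c k := Prod.ext (O.n2_h c k) ((O.n2_h _ _).trans (congrArg O.h (Prod.ext rfl (Units.ext (by
    simp [gal_σ])))))
  sl2 s hs := by
    obtain ⟨a, b, x, e⟩ := O.sl2 s hs
    have t : ∀ u, tor c c (fl φ (x1 u)) = fl φ (x1 u) := fun u => by
      have := σ_ne c.ne_zero
      ext <;> simp
      field_simp
    exact ⟨a, b, x, Prod.ext e (fg_rel O φ R (fun ψ r hr => by rw [mem_R] at hr ⊢; simp [hr])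
      (fun c k r hr => by rw [mem_R] at hr ⊢; simp [hr]) (by simp) (fun P g h => by
        obtain ⟨v, hv, e⟩ := P.cent_R h
        refine ⟨v, e, fun c k e c1 k1 => ?_⟩
        rw [mem_V] at hv
        have h4 := fg_N c1 (congrArg Co.b4 e)
        have h6 := fg_N k1 (congrArg Co.b6 e)
        ext <;> simp [hv, h4, h6])
      O.n11 O.n1_nf w1_mem (fl_w1 φ) e hc hc (O.n1_h c c) (t s) (t a) (t b))⟩
  sz s v h := by
    obtain ⟨a, b, a', b', x, e⟩ := O.sz s v h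
    have t : ∀ u u', tor (σu c) c (fl φ (y8 u u')) = fl φ (y8 u u') := fun u u' => by
      have := σ_ne c.ne_zero
      ext <;> simp <;> field_simp
    exact ⟨a, b, a', b', x, Prod.ext e (fg_rel O φ Q (fun ψ r hr => by rw [mem_Q] at hr ⊢; simp [hr])
      (fun c k r hr => by rw [mem_Q] at hr ⊢; simp [hr]) (by simp) (fun P g h => by
        obtain ⟨v, e⟩ := P.cent_Q h
        refine ⟨_, e, fun c k e c1 _ => ?_⟩
        obtain rfl : v = 0 := fg_N c1 (congrArg Co.b4 e)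
        ext <;> simp)
      O.n22 O.n2_nf w2_mem (fl_w2 φ) e
      (fun e => hc (Units.ext ((σ : K ≃+* K).injective (by simpa using congrArg Units.val e)))) hc
      ((O.n2_h _ _).trans (congrArg O.h (Prod.ext rfl (Units.ext (by simp [sq])))))
      (t _ _) (t _ _) (t _ _))⟩

theorem fg_ext (O : Oct K Γ) {X : Type*} [Group X] {f g : Γ →* X} (h : ∀ a, f (O.nf a) = g (O.nf a))
    (h1 : f O.n1 = g O.n1) (h2 : f O.n2 = g O.n2) (x : Γ) : f x = g x :=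
  (O.gen (f.eqLocus g) h h1 h2).ge (mem_top x)

theorem fg_hom (O : Oct K Γ) (φ : Gal K) :
    ∃ θ : Γ →* Γ, (∀ a, θ (O.nf a) = O.nf (fl φ a)) ∧ θ O.n1 = O.n1 ∧ θ O.n2 = O.n2 := by
  by_cases h : ∀ x, φ.1 x = x
  · exact ⟨MonoidHom.id Γ, fun a => congrArg O.nf (by ext <;> simp [h]), rfl, rfl⟩
  obtain ⟨c, hc⟩ : ∃ c : Kˣ, c ≠ 1 := by
    obtain ⟨c, hc⟩ := not_forall.1 h
    exact ⟨Units.mk0 c fun e => hc (by simp [e]),
      fun e => hc (by rw [show c = 1 from congrArg Units.val e, map_one])⟩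
  obtain ⟨Y, y1, y2, y3, y4, y5⟩ := (fgD O φ hc).bruhat
  have sj : Function.Surjective ((MonoidHom.fst Γ Γ).comp Y.subtype) := MonoidHom.range_eq_top.1
    (O.gen _ (fun a => ⟨⟨_, y1 a⟩, rfl⟩) ⟨⟨_, y3⟩, rfl⟩ ⟨⟨_, y4⟩, rfl⟩)
  have inj : Function.Injective ((MonoidHom.fst Γ Γ).comp Y.subtype) :=
    (injective_iff_map_eq_one _).2 fun g hg => by
      obtain ⟨a, x, j, b, hj, e | e⟩ := y5 g g.2
      · have e1 : 1 = O.nf a * O.h x * (O.n1 * O.n2) ^ j * O.nf b := hg.symm.trans (congrArg Prod.fst e)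
        obtain rfl := O.rot_norm hj (gr_norm O e1)
        obtain ⟨e2, rfl⟩ := O.nf_h (a := b * a) (x := x) (by
          rw [pow_zero, mul_one] at e1
          rw [map_mul, mul_assoc, mul_eq_one_comm, ← e1])
        refine Subtype.ext (e.trans ?_)
        rw [pow_zero, map_one, mul_one, mul_one, ← map_mul, mul_eq_one_comm.1 e2, map_one]
        rfl
      · exact (O.refl_norm j (gr_norm O (hg.symm.trans (congrArg Prod.fst e)))).elim
  let i := MulEquiv.ofBijective _ ⟨inj, sj⟩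
  have key : ∀ p ∈ Y, ((MonoidHom.snd Γ Γ).comp Y.subtype).comp i.symm.toMonoidHom p.1 = p.2 :=
    fun p hp => congrArg (fun y : Y => (y : Γ × Γ).2) (i.symm_apply_apply ⟨p, hp⟩)
  exact ⟨_, fun a => key _ (y1 a), key _ y3, key _ y4⟩

theorem exists_fld (O : Oct K Γ) : ∃ Θ : Gal K →* MulAut Γ, ∀ φ a, Θ φ (O.nf a) = O.nf (fl φ a) := by
  choose θ h h1 h2 using fg_hom O
  have m : ∀ φ ψ x, θ φ (θ ψ x) = θ (φ * ψ) x := fun φ ψ =>
    fg_ext O (f := (θ φ).comp (θ ψ)) (fun a => by simp [h, fl_fl]) (by simp [h1]) (by simp [h2])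
  have o : ∀ x, θ 1 x = x := fg_ext O (g := MonoidHom.id Γ) (h 1) (h1 1) (h2 1)
  exact ⟨⟨⟨fun φ => ⟨⟨θ φ, θ φ⁻¹, fun x => by rw [m, inv_mul_cancel, o],
    fun x => by rw [m, mul_inv_cancel, o]⟩, map_mul _⟩, MulEquiv.ext o⟩,
    fun φ ψ => MulEquiv.ext fun x => (m φ ψ x).symm⟩, h⟩

theorem auto_lemmas_ofsfg : True := by
  have := @FGa.eq_1.{0, 0}
  have := @fgD.eq_1.{0, 0}
  trivial

end H78.Ofs
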