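import Mathlib
import Cfsg.Agent.Lib.Ofs.Def2
import Cfsg.Agent.Lib.BSE14.Cor
import Cfsg.Agent.S0058

/-!
# General facts on models (OFS GM)
-/

set_option autoImplicit false
set_option linter.unusedSectionVars false

namespace H78.Ofs

open H78.Oct H78.Oct.Co Subgroup
open H93.SX (Cj nr)
open scoped commutatorElement

variable {W G : Type*} [Group W] [Finite W] [Group G] [Finite G] {ψ : W →* G} {E A B C : Subgroup W}
  [(E.map ψ).Normal] {g : G}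

theorem gm_tv : Tv ψ g A B ↔ ∀ x ∈ A, ⁅g, ψ x⁆ ∈ B.map ψ := by
  refine forall₂_congr fun x _ => ⟨?_, ?_⟩
  · rintro ⟨y, e, hy⟩
    exact ⟨_, hy, by rw [map_mul, map_inv, ← e]; rfl⟩
  · rintro ⟨b, hb, e⟩
    exact ⟨b * x, by rw [Cj, map_mul, e, commutatorElement_def, inv_mul_cancel_right], by simpa using hb⟩

theorem gm_nr (g : G) : g ∈ nr ψ E := by
  rw [nr, normalizer_eq_top]; trivial

theorem gm_odd {Y : Type*} [Group Y] {y : Y} {k : ℕ} (h : y ^ 2 ^ k = 1) (o : Odd (orderOf y)) : y = 1 :=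
  orderOf_eq_one_iff.1 (Nat.eq_one_of_dvd_coprimes
    (Nat.Coprime.pow_left k (Nat.coprime_two_left.2 o)) (orderOf_dvd_of_pow_eq_one h) dvd_rfl)

theorem gm_part (Y : Type*) [Group Y] [Finite Y] : ∃ k : ℕ, ∀ y : Y, Odd (orderOf (y ^ 2 ^ k)) := by
  obtain ⟨k, m, hm, e⟩ := Nat.exists_eq_two_pow_mul_odd (Nat.card_pos (α := Y)).ne'
  exact ⟨k, fun y => hm.of_dvd_nat (orderOf_dvd_of_pow_eq_one (by rw [← pow_mul, ← e, pow_card_eq_one']))⟩

/-- A group with a strongly embedded subgroup has no nontrivial normal 2-subgroup. -/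
theorem gm_se {Y : Type*} [Group Y] [Finite Y] {H N : Subgroup Y} (hH : Cfsg.IsStronglyEmbedded H) [N.Normal]
    (hN : IsPGroup 2 N) : N = ⊥ := by
  haveI : Fact (Nat.Prime 2) := ⟨Nat.prime_two⟩
  obtain ⟨⟨z, hz⟩, z2⟩ := exists_prime_orderOf_dvd_card' 2 hH.2.1.two_dvd
  rw [← orderOf_coe] at z2
  obtain ⟨S, hS⟩ := (IsPGroup.of_card (G := zpowers z) (p := 2) (n := 1) (by
    rw [Nat.card_zpowers]; exact z2)).exists_le_sylow
  have zS := hS (mem_zpowers z)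
  haveI : Nontrivial S := ⟨⟨z, zS⟩, 1, fun e => (H14.BSE.of_orderOf_two z2).1 (congrArg Subtype.val e)⟩
  haveI := S.2.center_nontrivial
  obtain ⟨w, w2⟩ := exists_prime_orderOf_dvd_card' (G := center S) 2
    (((S.2.to_subgroup _).card_eq_or_dvd).resolve_left Finite.one_lt_card.ne')
  rw [← orderOf_coe, ← orderOf_coe] at w2
  have c : ∀ s ∈ S, s * w.1.1 = w.1.1 * s := fun s hs => congrArg Subtype.val (mem_center_iff.1 w.2 ⟨s, hs⟩)
  have le : N ≤ H := fun n hn => H14.BSE.cent_le_of_se hH w2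
    (H14.BSE.cent_le_of_se hH z2 hz (mem_centralizer_singleton_iff.2 (c z zS).symm))
    (mem_centralizer_singleton_iff.2 (c n (hN.le_sylow_of_normal S hn)))
  obtain ⟨y, hy⟩ : ∃ y, y ∉ H := by
    by_contra! k
    exact hH.1 (eq_top_iff.2 fun y _ => k y)
  refine eq_bot_iff.2 fun n hn => ?_
  obtain ⟨k, hk⟩ := hN ⟨n, hn⟩
  exact gm_odd (congrArg Subtype.val hk) ((hH.2.2 y hy).of_dvd_nat (Subgroup.orderOf_dvd_natCard _
    (mem_inf.2 ⟨le hn, y⁻¹ * n * y, le (Normal.conj_mem' ‹_› n hn y), by simp [mul_assoc]⟩)))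

theorem Md.au (M : Md ψ E) (g : G) : ∃ f, Au E f ∧ ∀ x ∈ E, Cj ψ g x (f x) := by
  have k : ∀ x, ∃ y, x ∈ E → y ∈ E ∧ Cj ψ g x y := fun x => by
    by_cases h : x ∈ E
    · exact (H93.SX.nr_cj (gm_nr g) h).imp fun y hy _ => hy
    · exact ⟨x, fun h' => absurd h' h⟩
  choose f hf using k
  exact ⟨f, ⟨fun x hx => (hf x hx).1, fun x hx y hy =>
    (hf _ (mul_mem hx hy)).2.uniq M.inj ((hf x hx).2.mul (hf y hy).2), fun x hx e =>
    (e ▸ (hf x hx).2).symm.uniq M.inj (by simp [Cj])⟩, fun x hx => (hf x hx).2⟩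

theorem Md.normal_of (M : Md ψ E) (hA : A ≤ E) (h : ∀ f, Au E f → ∀ x ∈ A, f x ∈ A) : (A.map ψ).Normal := by
  refine ⟨?_⟩
  rintro _ ⟨x, hx, rfl⟩ g
  obtain ⟨f, a, e⟩ := M.au g
  exact ⟨f x, h f a x hx, Eq.symm (e x (hA hx))⟩

theorem Md.core (M : Md ψ E) (L : Subgroup G) [L.Normal] (h : ∀ g ∈ L, Odd (orderOf g) → g = 1) :
    L ≤ E.map ψ := by
  obtain ⟨H, hH⟩ := M.se
  obtain ⟨k, hk⟩ := gm_part G
  haveI := Normal.map ‹L.Normal› _ (QuotientGroup.mk'_surjective (E.map ψ))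
  have := gm_se hH (IsPGroup.map (H := L) (fun x => ⟨k, Subtype.ext (h _ (pow_mem x.2 _) (hk _))⟩)
    (QuotientGroup.mk' (E.map ψ)))
  rwa [Subgroup.map_eq_bot_iff, QuotientGroup.ker_mk'] at this

theorem Md.not_normal (M : Md ψ E) : ¬ ψ.range.Normal := by
  intro h
  obtain ⟨H, hH⟩ := M.se
  have le := M.core ψ.range (by
    rintro _ ⟨x, rfl⟩ o
    obtain ⟨k, hk⟩ := M.pg x
    exact gm_odd (by rw [← map_pow, hk, map_one]) o)
  exact Nat.not_even_iff_odd.2 (M.odd.of_dvd_nat ((card_subgroup_dvd_card H).trans (index_dvd_of_le le)))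
    hH.2.1

theorem Md.tv_trans (M : Md ψ E) (hg : Odd (orderOf g)) (hC : g ∈ nr ψ C) (a : Tv ψ g A B) (b : Tv ψ g B C) :
    Tv ψ g A C := by
  rw [gm_tv] at a b ⊢
  exact fun x hx => H93.R3.comm_mem_of_coprime ((M.pg.to_subgroup B).map ψ) (Nat.coprime_two_right.2 hg) hC
    (a x hx) (by rintro _ ⟨y, hy, rfl⟩; exact b y hy)

theorem Md.tv_one (M : Md ψ E) (hg : Odd (orderOf g)) (h : Tv ψ g E (Ph E)) : g = 1 := by
  haveI : Fact (Nat.Prime 2) := ⟨Nat.prime_two⟩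
  have hE := (M.pg.to_subgroup E).map ψ
  have le : (Ph E).map ψ ≤ H93.R3.ph (E.map ψ) := map_le_iff_le_comap.2 (Ph_le_of fun x hx => by
    rw [mem_comap, map_mul, ← pow_two]
    exact (H93.R3.eq_ph hE).pow _ (mem_map_of_mem ψ hx))
  have c := H93.R3.cent_of_ph hE (Nat.coprime_two_right.2 hg) (gm_nr g) (by
    rintro _ ⟨y, hy, rfl⟩; exact le (gm_tv.1 h y hy))
  obtain ⟨k, hk⟩ := hE ⟨g, M.cen g fun x hx => H93.SX.Cj.of_cent c hx⟩
  exact gm_odd (congrArg Subtype.val hk) hg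

/-- The elements acting trivially on `A / B`. -/
theorem exists_tv (A B : Subgroup W) [B.Normal] : ∃ L : Subgroup G,
    (∀ g, g ∈ L ↔ g ∈ nr ψ A ∧ g ∈ nr ψ B ∧ Tv ψ g A B) ∧ nr ψ A ⊓ nr ψ B ≤ normalizer (L : Set G) := by
  refine ⟨nr ψ A ⊓ H2.relCentralizer (A.map ψ) (B.map ψ), fun g => ?_,
    H93.R3.norm_inf (H93.R3.norm_self inf_le_left) (H93.R3.norm_rc inf_le_left inf_le_right)⟩
  rw [mem_inf, H93.R3.mem_rc, gm_tv]
  exact and_congr_right' (and_congr_right' ⟨fun h x hx => h _ (mem_map_of_mem ψ hx), by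
    rintro h _ ⟨x, hx, rfl⟩; exact h x hx⟩)

theorem Md.o_norm (M : Md ψ E) [A.Normal] {i j : W} (hi : i ∉ E) (hj : j ∉ E) (hij : i * j ∉ E) (ii : i * i ∈ E)
    (jj : j * j ∈ E) (ij : ⁅i, j⁆ ∈ E) (h : ∀ b, b = i ∨ b = j ∨ b = i * j → ∀ g, ⁅g, ψ b⁆ ∈ E.map ψ → g ∈ nr ψ A)
    {o : G} (ho : (o : G ⧸ E.map ψ) ∈ Cfsg.oddCore (G ⧸ E.map ψ)) : o ∈ nr ψ A := by
  let π := QuotientGroup.mk' (E.map ψ)
  have hπ : ∀ w, π (ψ w) = 1 ↔ w ∈ E := fun w =>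
    (QuotientGroup.eq_one_iff _).trans (mem_map_iff_mem M.inj)
  obtain ⟨u, hu⟩ : ∃ u, u = π (ψ i) := ⟨_, rfl⟩
  obtain ⟨v, hv⟩ : ∃ v, v = π (ψ j) := ⟨_, rfl⟩
  have uu : u * u = 1 := by rw [hu, ← map_mul, ← map_mul, hπ]; exact ii
  have vv : v * v = 1 := by rw [hv, ← map_mul, ← map_mul, hπ]; exact jj
  have uv : v * u = u * v := (commutatorElement_eq_one_iff_mul_comm.1 (by
    rw [hu, hv, ← map_commutatorElement, ← map_commutatorElement, hπ]; exact ij)).symm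
  have uu' : ∀ x, u * (u * x) = x := fun x => by rw [← mul_assoc, uu, one_mul]
  have uv' : ∀ x, v * (u * x) = u * (v * x) := fun x => by rw [← mul_assoc, uv, mul_assoc]
  have ml : ∀ {a b}, (a = 1 ∨ a = u ∨ a = v ∨ a = u * v) → (b = 1 ∨ b = u ∨ b = v ∨ b = u * v) →
      (a * b = 1 ∨ a * b = u ∨ a * b = v ∨ a * b = u * v) ∧ a * b = b * a ∧ a * a = 1 := by
    rintro a b (h | h | h | h) (k | k | k | k) <;> simp [h, k, mul_assoc, uu, vv, uv, uu', uv']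
  let T : Subgroup (G ⧸ E.map ψ) :=
    { carrier := {a | a = 1 ∨ a = u ∨ a = v ∨ a = u * v}
      one_mem' := .inl rfl
      mul_mem' := fun ha hb => (ml ha hb).1
      inv_mem' := fun {a} ha => by rwa [inv_eq_of_mul_eq_one_right (ml ha ha).2.2] }
  haveI : IsMulCommutative T := ⟨⟨fun a b => Subtype.ext (ml a.2 b.2).2.1⟩⟩
  haveI : Fact (Nat.Prime 2) := ⟨Nat.prime_two⟩
  have nc : ¬ IsCyclic T := fun ⟨c, hc⟩ => by
    have k : ∀ a : T, a = 1 ∨ a = c := fun a => by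
      obtain ⟨n, rfl⟩ := hc a
      have e : c ^ (2 : ℤ) = 1 := by rw [zpow_two]; exact Subtype.ext (ml c.2 c.2).2.2
      rcases Int.even_or_odd' n with ⟨n, rfl | rfl⟩ <;> simp [zpow_add_one, zpow_mul, e]
    have a := (k ⟨u, .inr (.inl rfl)⟩).resolve_left fun e => hi ((hπ i).1 (hu ▸ congrArg Subtype.val e))
    have b := (k ⟨v, .inr (.inr (.inl rfl))⟩).resolve_left fun e => hj ((hπ j).1 (hv ▸ congrArg Subtype.val e))
    have e : u = v := congrArg Subtype.val (a.trans b.symm)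
    exact hij ((hπ _).1 (by rw [map_mul, map_mul, ← hu, ← hv, e, vv]))
  obtain ⟨n, hn⟩ := IsPGroup.iff_card.1 (show IsPGroup 2 T from fun a =>
    ⟨1, Subtype.ext (by simpa [pow_two] using (ml a.2 a.2).2.2)⟩)
  have k := Cfsg.Agent.S0058.result T (Cfsg.oddCore _) nc (by rw [normalizer_eq_top]; exact le_top)
    (hn ▸ (Nat.coprime_two_left.2 H1.odd_card_oddCore).pow_left n)
  have EA : E.map ψ ≤ nr ψ A := by
    rintro _ ⟨x, -, rfl⟩
    exact H93.SX.mem_nr fun a ha => ⟨_, Normal.conj_mem ‹_› a ha x, H93.SX.Cj.self x a⟩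
  have le : Cfsg.oddCore (G ⧸ E.map ψ) ≤ (nr ψ A).map π := by
    rw [← k]
    refine iSup₂_le fun a ha y hy => ?_
    obtain ⟨y, rfl⟩ := QuotientGroup.mk'_surjective _ y
    obtain ⟨b, hb, rfl⟩ : ∃ b, (b = i ∨ b = j ∨ b = i * j) ∧ a = π (ψ b) := by
      rcases ha.1 with e | e | e | e
      · exact absurd e ha.2
      · exact ⟨i, .inl rfl, e.trans hu⟩
      · exact ⟨j, .inr (.inl rfl), e.trans hv⟩
      · exact ⟨i * j, .inr (.inr rfl), by rw [e, hu, hv, map_mul, map_mul]⟩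
    refine mem_map_of_mem π (h b hb y ((QuotientGroup.eq_one_iff _).1 ?_))
    exact (map_commutatorElement π _ _).trans
      (commutatorElement_eq_one_iff_mul_comm.2 (mem_centralizer_singleton_iff.1 hy.2))
  rw [← comap_map_eq_self (f := π) (H := nr ψ A) (by rwa [QuotientGroup.ker_mk'])]
  exact le ho

theorem Md.o_comm (M : Md ψ E) (c : ℕ → Subgroup W) (n : ℕ) (h0 : c 0 = E) (hn : c n ≤ Ph E)
    (h1 : ∀ i, (c i).Normal) {o : G} (ho : (o : G ⧸ E.map ψ) ∈ Cfsg.oddCore (G ⧸ E.map ψ))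
    (h2 : ∀ i, o ∈ nr ψ (c i)) {s : W} (h3 : ∀ i < n, ∀ x ∈ c i, ⁅s, x⁆ ∈ c (i + 1)) : ⁅o, ψ s⁆ ∈ E.map ψ := by
  obtain ⟨k, hk⟩ := gm_part G
  have sn : ∀ i, ψ s ∈ nr ψ (c i) := fun i =>
    H93.SX.mem_nr fun a ha => ⟨_, (h1 i).conj_mem a ha s, H93.SX.Cj.self s a⟩
  have t : ∀ i ≤ n, Tv ψ (⁅o, ψ s⁆ ^ 2 ^ k) E (c i) := by
    intro i hi
    induction i with
    | zero => rw [h0]; exact gm_tv.2 fun x hx => H93.R3.comm_mem_r (gm_nr _) (mem_map_of_mem ψ hx)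
    | succ i ih =>
      haveI := h1 (i + 1)
      obtain ⟨L, m, hL⟩ := exists_tv (ψ := ψ) (c i) (c (i + 1))
      have := (m _).1 (pow_mem (H93.R3.comm_mem_r (hL ⟨h2 i, h2 _⟩) ((m _).2 ⟨sn i, sn _, fun x hx =>
        ⟨_, H93.SX.Cj.self s x, h3 i hi x hx⟩⟩)) (2 ^ k))
      exact M.tv_trans (hk _) this.2.1 (ih (Nat.le_of_succ_le hi)) this.2.2
  have e := M.tv_one (hk _) fun x hx => (t n le_rfl x hx).imp fun y hy => ⟨hy.1, hn hy.2⟩
  refine (QuotientGroup.eq_one_iff _).1 (gm_odd (k := k) (by rw [← QuotientGroup.mk_pow, e]; rfl)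
    (H1.odd_card_oddCore.of_dvd_nat (Subgroup.orderOf_dvd_natCard _ ?_)))
  exact H93.R3.comm_mem_l (x := (o : G ⧸ E.map ψ)) (g := (ψ s : G ⧸ E.map ψ))
    (by rw [normalizer_eq_top]; trivial) ho

end H78.Ofs
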