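import Mathlib
import Cfsg.Agent.Lib.Ofs.Def2
import Cfsg.Agent.Lib.SpX.Ev

/-!
# Transfer between a fusion system and its models (OFS LK)
-/

set_option autoImplicit false
set_option linter.unusedSectionVars false

namespace H78.Ofs

open Subgroup
open H93.SX (Cj nr Cf Es Eqv nr_cj mem_nr nr_comp)

variable {W X G : Type*} [Group W] [Group X] [Finite X] [Group G] [Finite G] {ι : W →* X} {ψ : W →* G}
  {E : Subgroup W} {H : Subgroup (MulAut W)} {w w' : W → W} {n : G} {η : MulAut W}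

theorem self_top (s : W) : ι s ∈ nr ι ⊤ := mem_nr fun x _ => ⟨_, trivial, Cj.self s x⟩

theorem Lk.top (L : Lk ι ψ E) {k : G} (hk : k ∈ nr ψ ⊤) :
    ∃ g ∈ nr ι ⊤, ∀ x y, Cj ψ k x y → Cj ι g x y :=
  let ⟨g, e⟩ := L.t2 k hk
  ⟨g, mem_nr fun x hx => let ⟨y, hy, c⟩ := nr_cj hk hx; ⟨y, hy, e x y c⟩, e⟩

theorem Lk.tp (L : Lk ι ψ E) (i : Function.Injective ι) (h : nr ι ⊤ ≤ nr ι E) (T : Tp ι H) : Tp ψ H := by
  refine ⟨fun k hk => ?_, fun τ hτ => ?_⟩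
  · obtain ⟨g, hg, e⟩ := L.top hk
    obtain ⟨s, τ, hτ, c⟩ := T.top g hg
    refine ⟨s, τ, hτ, fun x => ?_⟩
    obtain ⟨y, -, c'⟩ := nr_cj hk (mem_top x)
    exact (e x y c').uniq i (c x) ▸ c'
  · obtain ⟨g, c⟩ := T.ex τ hτ
    have hg : g ∈ nr ι ⊤ := mem_nr fun x _ => ⟨_, trivial, c x⟩
    obtain ⟨k, e⟩ := L.t1 g hg (h hg)
    exact ⟨k, fun x => e x _ (c x)⟩

theorem cj_mid [hE : E.Normal] {b m : X} {k n : G} {s x y : W} (e : ∀ x y, Cj ι b x y → Cj ψ k x y)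
    (h1 : ∀ x ∈ E, Cj ι m x (w x)) (h2 : ∀ x ∈ E, Cj ψ n x (w x)) (hx : x ∈ E) (c : Cj ι (b * m * ι s) x y) :
    Cj ψ (k * n * ψ s) x y := by
  have h3 := hE.conj_mem x hx s
  have h4 := c.trans ((h1 _ h3).trans (Cj.self s x)).symm
  rw [show b * m * ι s * (m * ι s)⁻¹ = b by group] at h4
  exact ((e _ _ h4).trans (h2 _ h3)).trans (Cj.self s x)

theorem Lk.br [E.Normal] [(E.map ψ).Normal] (L : Lk ι ψ E) (h : ∀ x ∈ E, Cj ψ n x (w x)) (b : Brm ψ n) :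
    Br ι E w := by
  obtain ⟨m, hm⟩ := L.e2 n ((normalizer_eq_top (E.map ψ)).ge (mem_top n))
  have h1 : ∀ x ∈ E, Cj ι m x (w x) := fun x hx => hm x hx _ (h x hx)
  refine ⟨m, h1, fun g hg => ?_⟩
  obtain ⟨k, hk⟩ := L.e1 g hg
  rcases b k with e | ⟨b, hb, s, rfl⟩
  · obtain ⟨b, hb, e⟩ := L.top e
    exact ⟨b, hb, Or.inl fun x hx y c => e x y (hk x hx y c)⟩
  · obtain ⟨b', hb', e⟩ := L.top hb
    exact ⟨b', hb', Or.inr ⟨s, fun x hx y c => cj_mid e h h1 hx (hk x hx y c)⟩⟩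

theorem nr_top_comp (η : MulAut W) : nr (ι.comp η.toMonoidHom) ⊤ = nr ι ⊤ := nr_comp η fun _ => Iff.rfl

theorem Lk.comp (L : Lk ι ψ E) (h : ∀ x, η x ∈ E ↔ x ∈ E) :
    Lk (ι.comp η.toMonoidHom) (ψ.comp η.toMonoidHom) E := by
  refine ⟨fun g hg => ?_, fun g hg => ?_, fun g hg hg' => ?_, fun g hg => ?_⟩
  · obtain ⟨k, e⟩ := L.e1 g ((nr_comp η h).le hg)
    exact ⟨k, fun x hx y => e _ ((h x).2 hx) _⟩
  · obtain ⟨k, e⟩ := L.e2 g ((nr_comp η h).le hg)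
    exact ⟨k, fun x hx y => e _ ((h x).2 hx) _⟩
  · obtain ⟨k, e⟩ := L.t1 g ((nr_top_comp η).le hg) ((nr_comp η h).le hg')
    exact ⟨k, fun x y => e _ _⟩
  · obtain ⟨k, e⟩ := L.t2 g ((nr_top_comp η).le hg)
    exact ⟨k, fun x y => e _ _⟩

theorem es_comp {p : ℕ} (e : Es p ι E) (h : ∀ x, η x ∈ E ↔ x ∈ E) : Es p (ι.comp η.toMonoidHom) E :=
  (Es.comp η).2 (by rwa [H93.SX.map_of η h])

theorem normal_comp [hE : (E.map ψ).Normal] (h : ∀ x, η x ∈ E ↔ x ∈ E) :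
    (E.map (ψ.comp η.toMonoidHom)).Normal := by
  rwa [← map_map, H93.SX.map_of η h]

theorem Tp.comp (T : Tp ι ⊥) (η : MulAut W) : Tp (ι.comp η.toMonoidHom) ⊥ := by
  refine ⟨fun g hg => ?_, fun τ hτ => ⟨1, fun x => mem_bot.1 hτ ▸ Cj.one⟩⟩
  obtain ⟨s, τ, hτ, c⟩ := T.top g ((nr_top_comp η).le hg)
  obtain rfl := mem_bot.1 hτ
  exact ⟨η.symm s, 1, hτ, fun x => by simpa [Cj] using c (η x)⟩

theorem brm_of (h : ∀ g, g ∈ ψ.range ∨ ∃ s s', g = ψ s * n * ψ s') (η : MulAut W) :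
    Brm (ψ.comp η.toMonoidHom) n := fun g => by
  rw [nr_top_comp]
  rcases h g with ⟨s, rfl⟩ | ⟨s, s', rfl⟩
  · exact Or.inl (self_top s)
  · exact Or.inr ⟨_, self_top s, η.symm s', by simp⟩

theorem Br.comp [hE : E.Normal] (b : Br ι E w) (h : ∀ x, η x ∈ E ↔ x ∈ E) {r : W}
    (e : ∀ x ∈ E, η (w' x) = r * w (r⁻¹ * η x * r) * r⁻¹) : Br (ι.comp η.toMonoidHom) E w' := by
  obtain ⟨m, h1, h2⟩ := b
  refine ⟨ι r * m * ι r⁻¹, fun x hx => ?_, fun g hg => ?_⟩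
  · have := ((Cj.self r _).trans (h1 _ (hE.conj_mem _ ((h x).2 hx) r⁻¹))).trans (Cj.self r⁻¹ (η x))
    rw [inv_inv, ← e x hx] at this
    exact this
  · obtain ⟨b, hb, c⟩ := h2 g ((nr_comp η h).le hg)
    rw [nr_top_comp]
    rcases c with c | ⟨s, c⟩
    · exact ⟨b, hb, Or.inl fun x hx y => c _ ((h x).2 hx) _⟩
    · refine ⟨b * ι r⁻¹, mul_mem hb (self_top _), Or.inr ⟨η.symm (r * s), fun x hx y a => ?_⟩⟩
      have := c _ ((h x).2 hx) _ a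
      rw [show b * ι r⁻¹ * (ι r * m * ι r⁻¹) * ι.comp η.toMonoidHom (η.symm (r * s)) = b * m * ι s by
        simp [mul_assoc]]
      exact this

theorem Tp.trans (T : Tp ι H) (T' : Tp ψ H) (i : Function.Injective ι) {g : X} (hg : g ∈ nr ι ⊤) :
    ∃ k, ∀ x y, Cj ι g x y → Cj ψ k x y := by
  obtain ⟨s, τ, hτ, c⟩ := T.top g hg
  obtain ⟨k, c'⟩ := T'.ex τ hτ
  exact ⟨ψ s * k, fun x y e => (c x).uniq i e ▸ (Cj.self s _).trans (c' x)⟩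

theorem Tp.eqv (T : Tp ι H) (T' : Tp ψ H) (i : Function.Injective ι) : Eqv ι ψ ⊤ := fun _ hg =>
  let ⟨k, e⟩ := T.trans T' i (mem_nr hg); ⟨k, fun x _ y _ => e x y⟩

theorem Br.eqv [E.Normal] (b : Br ι E w) (b' : Br ψ E w) (T : Tp ι H) (T' : Tp ψ H) (i : Function.Injective ι) :
    Eqv ι ψ E := fun g hg => by
  obtain ⟨m, h1, h2⟩ := b
  obtain ⟨n, h3, -⟩ := b'
  obtain ⟨b, hb, c⟩ := h2 g (mem_nr hg)
  obtain ⟨k, e⟩ := T.trans T' i hb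
  rcases c with c | ⟨s, c⟩
  · exact ⟨k, fun x hx y _ a => e x y (c x hx y a)⟩
  · exact ⟨_, fun x hx y _ a => cj_mid e h1 h3 hx (c x hx y a)⟩

end H78.Ofs
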