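import Mathlib
import Cfsg.Agent.Lib.Ofs.Def2
import Cfsg.Agent.S5090
import Cfsg.Agent.S5096
import Cfsg.Agent.S5126
import Cfsg.Agent.S5080
import Cfsg.Agent.Lib.BSE14.Cor

/-!
# Models at normal essential subgroups (OFS MD)
-/

set_option autoImplicit false
set_option linter.unusedSectionVars false

namespace H78.Ofs

open H78.Oct H78.Oct.Co Subgroup
open H93.SX (Cj nr)
open scoped commutatorElement

universe u

section

open Cfsg Cfsg.FusionSystem

variable {W Γ G : Type*} [Group W] [Finite W] [Group Γ] [Finite Γ] [Group G] [Finite G]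
  {ι : W →* Γ} {ψ : W →* G} {E : Subgroup W}

theorem md_se [(E.map ψ).Normal] (i : Function.Injective ι) (i' : Function.Injective ψ)
    (cen : ∀ g, (∀ x ∈ E, Cj ψ g x x) → g ∈ E.map ψ) (L : Lk ι ψ E) (h : H93.SX.Es 2 ι E) :
    ∃ H : Subgroup (G ⧸ E.map ψ), Cfsg.IsStronglyEmbedded H := by
  have : Fact (Nat.Prime 2) := ⟨Nat.prime_two⟩
  obtain ⟨-, -, hn, M, hM⟩ := h
  let e : E.map ψ ≃* E.map ι := (E.equivMapOfInjective ψ i').symm.trans (E.equivMapOfInjective ι i)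
  have he : ∀ x (hx : x ∈ E), e ⟨ψ x, x, hx, rfl⟩ = ⟨ι x, x, hx, rfl⟩ := fun x hx => by
    have : (E.equivMapOfInjective ψ i').symm ⟨ψ x, x, hx, rfl⟩ = ⟨x, hx⟩ :=
      (MulEquiv.symm_apply_eq _).2 rfl
    simp only [e, MulEquiv.trans_apply, this]
    rfl
  let χ : G →* MulAut (E.map ι) := (MulAut.congr e).toMonoidHom.comp MulAut.conjNormal
  have hχ : ∀ k x (hx : x ∈ E) y, Cj ψ k x y → (χ k ⟨ι x, x, hx, rfl⟩ : Γ) = ι y := by
    intro k x hx y c
    have hy : y ∈ E := c.mem i' (by rw [nr, normalizer_eq_top]; exact mem_top k) hx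
    have h1 : χ k (e ⟨ψ x, x, hx, rfl⟩) = e ⟨ψ y, y, hy, rfl⟩ := by
      simp only [χ, MonoidHom.comp_apply, MulEquiv.coe_toMonoidHom, MulAut.congr_apply,
        MulEquiv.trans_apply, MulEquiv.symm_apply_apply]
      exact congrArg e (Subtype.ext c)
    rw [he x hx, he y hy] at h1
    exact congrArg Subtype.val h1
  have nk : ∀ k, k ∈ nr ψ E := fun k => by rw [nr, normalizer_eq_top]; exact mem_top k
  have m : ∀ k, χ k ∈ (groupFusionSystem ι.range).autGroup (E.map ι) := fun k => by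
    obtain ⟨g, hg⟩ := L.e2 k (nk k)
    refine subset_closure ⟨map_le_range ι E, fun x => map_le_range ι E (χ k x).2, g, ?_⟩
    rintro ⟨_, x, hx, rfl⟩
    obtain ⟨y, -, c⟩ := H93.SX.nr_cj (nk k) hx
    exact (hχ k x hx y c).trans (Eq.symm (hg x hx y c))
  have s : (groupFusionSystem ι.range).autGroup (E.map ι) ≤ χ.range := (closure_le _).2 (by
    rintro α ⟨-, -, g, hg⟩
    have ng : g ∈ nr ι E := mem_normalizer_fintype fun x hx => by
      rw [← hg ⟨x, hx⟩]; exact (α ⟨x, hx⟩).2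
    obtain ⟨k, hk⟩ := L.e1 g ng
    refine ⟨k, MulEquiv.ext ?_⟩
    rintro ⟨_, x, hx, rfl⟩
    obtain ⟨y, -, c⟩ := H93.SX.nr_cj ng hx
    exact Subtype.ext ((hχ k x hx y (hk x hx y c)).trans ((Eq.symm c).trans (hg ⟨_, x, hx, rfl⟩).symm)))
  let θ := (QuotientGroup.mk' ((Inn (E.map ι)).subgroupOf
    ((groupFusionSystem ι.range).autGroup (E.map ι)))).comp (χ.codRestrict _ m)
  have sθ : Function.Surjective θ := (QuotientGroup.mk'_surjective _).comp fun α =>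
    let ⟨k, hk⟩ := s α.2; ⟨k, Subtype.ext hk⟩
  have self : ∀ t (ht : t ∈ E), χ (ψ t) = MulAut.conj ⟨ι t, t, ht, rfl⟩ := fun t ht =>
    MulEquiv.ext (by
      rintro ⟨_, x, hx, rfl⟩
      exact Subtype.ext ((hχ _ x hx _ (Cj.self t x)).trans (by simp)))
  have kθ : E.map ψ = θ.ker := by
    ext k
    rw [MonoidHom.mem_ker]
    refine Iff.trans ?_ (QuotientGroup.eq_one_iff (χ.codRestrict _ m k)).symm
    constructor
    · rintro ⟨t, ht, rfl⟩
      exact ⟨_, (self t ht).symm⟩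
    · rintro ⟨⟨_, t, ht, rfl⟩, e'⟩
      have e1 : χ ((ψ t)⁻¹ * k) = 1 := by
        rw [map_mul, map_inv, self t ht, inv_mul_eq_one]; exact e'
      refine (mul_mem_cancel_left ((E.map ψ).inv_mem ⟨t, ht, rfl⟩)).1 (cen _ fun x hx => ?_)
      obtain ⟨y, -, c⟩ := H93.SX.nr_cj (nk ((ψ t)⁻¹ * k)) hx
      have := hχ _ x hx y c
      rw [e1] at this
      rwa [← i this] at c
  exact ⟨_, H14.BSE.se_iff_spe.2 (H68.spe_map_equiv hM ((QuotientGroup.quotientMulEquivOfEq kθ).trans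
    (QuotientGroup.quotientKerEquivOfSurjective θ sθ)).symm)⟩

end

open Cfsg Cfsg.FusionSystem in
theorem es_model {W : Type*} {Γ : Type u} [Group W] [Finite W] [Group Γ] [Finite Γ] {ι : W →* Γ} {E : Subgroup W}
    [E.Normal] (F : H93.SX.Cf 2 ι) (h : H93.SX.Es 2 ι E) :
    ∃ (G : Type u) (_ : Group G) (_ : Finite G) (ψ : W →* G) (_ : (E.map ψ).Normal), Md ψ E ∧ Lk ι ψ E := by
  have : Fact (Nat.Prime 2) := ⟨Nat.prime_two⟩
  have RS : E.map ι ≤ ι.range := map_le_range ι E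
  have SN : ι.range ≤ normalizerIn ι.range (E.map ι) := le_inf le_rfl
    (H93.SX.le_nr fun t x hx => mul_mem (‹E.Normal›.conj_mem x hx t) (inv_mem hx))
  obtain ⟨D, hD⟩ := Cfsg.Agent.S5096.result (groupFusionSystem ι.range) (E.map ι) RS
  have rad := Cfsg.Agent.S5080.result 2 F.pr _ F.sat _ h
  have con := (Cfsg.Agent.S5126.result 2 F.pr _ F.sat _ h.2.1 h.1 rad D hD (1 : _ →* Γ)).1
  obtain ⟨G, _, j, hj⟩ := Cfsg.Agent.S5090.result (S := normalizerIn ι.range (E.map ι)) 2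
    (F.pr.to_le inf_le_left) D con
  have core := (Cfsg.Agent.S5126.result 2 F.pr _ F.sat _ h.2.1 h.1 rad D hD j).2 hj
  obtain ⟨fin, ⟨ij, real⟩, ⟨T, hT⟩, cen⟩ := hj
  let κ : W →* normalizerIn ι.range (E.map ι) := ι.codRestrict _ fun w => SN ⟨w, rfl⟩
  have sκ : Function.Surjective κ := fun y => let ⟨w, hw⟩ := y.2.1; ⟨w, Subtype.ext hw⟩
  have iψ : Function.Injective (j.comp κ) := ij.comp fun a b e => F.inj (congrArg Subtype.val e)
  have c1 : pCore 2 G = E.map (j.comp κ) := by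
    rw [core, ← map_map]
    congr 1
    ext y
    constructor
    · rintro ⟨x, hx, e⟩
      exact ⟨x, hx, Subtype.ext e⟩
    · rintro ⟨x, hx, rfl⟩
      exact ⟨x, hx, rfl⟩
  have nE : (E.map (j.comp κ)).Normal := c1 ▸ inferInstance
  have k1 : ∀ X : Subgroup W, E ≤ X → ∀ g ∈ nr ι X, g ∈ nr ι E →
      ∃ k, ∀ x ∈ X, ∀ y, Cj ι g x y → Cj (j.comp κ) k x y := fun X hX g g1 g2 => by
    have PS : X.map ι ≤ ι.range := map_le_range ι X
    have v : ∀ x ∈ X.map ι, g * x * g⁻¹ ∈ ι.range := fun x hx =>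
      PS ((mem_normalizer_iff.1 g1 x).1 hx)
    have m : conjHom (X.map ι) g ∈ D.Hom (X.map ι) := by
      rw [hD]
      refine ⟨⟨PS, fun x => v x x.2, g, fun _ => rfl⟩, PS.trans SN, fun x => SN (v x x.2),
        conjHom _ g, ⟨sup_le PS RS, fun x => v x ((sup_le le_rfl (map_mono hX)) x.2), g,
          fun _ => rfl⟩, fun _ => rfl, ?_⟩
      ext z
      constructor
      · rintro ⟨x, hx, rfl⟩
        exact (mem_normalizer_iff.1 g2 x).1 hx
      · intro hz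
        have m := (mem_normalizer_iff.1 (inv_mem g2) z).1 hz
        exact ⟨⟨_, mem_sup_right m⟩, m, by simp [conjHom, mul_assoc]⟩
    obtain ⟨k, hk⟩ := (real _ (PS.trans SN) _ fun x => SN (v x x.2)).1 m
    exact ⟨k, fun x hx y c => (hk ⟨_, x, hx, rfl⟩).symm.trans (congrArg j (Subtype.ext c))⟩
  have k2 : ∀ X : Subgroup W, ∀ k ∈ nr (j.comp κ) X,
      ∃ g, ∀ x ∈ X, ∀ y, Cj (j.comp κ) k x y → Cj ι g x y := fun X k hk => by
    have PN : X.map ι ≤ normalizerIn ι.range (E.map ι) := (map_le_range ι X).trans SN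
    have ex : ∀ x : X.map ι, ∃ y, j y = k * j ⟨x, PN x.2⟩ * k⁻¹ := by
      rintro ⟨_, x, hx, rfl⟩
      obtain ⟨y, -, c⟩ := H93.SX.nr_cj hk hx
      exact ⟨κ y, Eq.symm c⟩
    choose f hf using ex
    let φ : X.map ι →* normalizerIn ι.range (E.map ι) := MonoidHom.mk' f fun a b => ij (by
      rw [map_mul, hf, hf, hf, conj_mul, ← map_mul]; rfl)
    have m := (real _ PN ((Subgroup.subtype _).comp φ) fun x => (φ x).2).2 ⟨k, hf⟩
    rw [hD] at m
    obtain ⟨⟨-, -, g, hg⟩, -⟩ := m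
    refine ⟨g, fun x hx y c => (hg ⟨_, x, hx, rfl⟩).symm.trans ?_⟩
    exact congrArg Subtype.val (ij ((hf ⟨_, x, hx, rfl⟩).trans c))
  have L : Lk ι (j.comp κ) E :=
    ⟨fun g hg => k1 E le_rfl g hg hg, k2 E,
      fun g g1 g2 => let ⟨k, hk⟩ := k1 ⊤ le_top g g1 g2; ⟨k, fun x => hk x (mem_top x)⟩,
      fun k hk => let ⟨g, hg⟩ := k2 ⊤ k hk; ⟨g, fun x => hg x (mem_top x)⟩⟩
  have cen' : ∀ g, (∀ x ∈ E, Cj (j.comp κ) g x x) → g ∈ E.map (j.comp κ) := fun g hg => by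
    rw [c1] at cen
    exact cen (H93.SX.cent_of_cj hg)
  refine ⟨G, _, fin, j.comp κ, nE, ⟨iψ, F.pg, ?_, cen', md_se F.inj iψ cen' L h⟩, L⟩
  rw [MonoidHom.range_comp, MonoidHom.range_eq_top.2 sκ, ← MonoidHom.range_eq_map, ← hT,
    ← Nat.not_even_iff_odd, even_iff_two_dvd]
  exact T.not_dvd_index

end H78.Ofs
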