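import Mathlib
import Cfsg.Agent.Lib.Ofs.GM
import Cfsg.Agent.Lib.Ofs.CO

/-!
# The odd cores centralise the Sylow subgroup (OFS OC)
-/

set_option autoImplicit false
set_option linter.unusedSectionVars false
set_option linter.unnecessarySeqFocus false

namespace H78.Ofs

open H78.Oct H78.Oct.Co Subgroup
open H93.SX (Cj nr)
open scoped commutatorElement

variable {K G : Type*} [Field K] [Tits K] [Finite K] [Group G] [Finite G] {ψ : Co K →* G}
  {H : Subgroup (MulAut (Co K))}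

section Gen

variable {W : Type*} [Group W] [Finite W] {M A B C : Subgroup W} {f : W → W}

theorem oc_restr (h : Au M f) (hA : A ≤ M) (k : ∀ x ∈ A, f x ∈ A) : Au A f :=
  ⟨k, fun x hx y hy => h.mul x (hA hx) y (hA hy), fun x hx => h.inj x (hA hx)⟩

theorem oc_rc (h : Au M f) (hA : A ≤ M) (hB : B ≤ M) (kB : ∀ x ∈ B, f x ∈ B) (kC : ∀ x ∈ C, f x ∈ C)
    (h1 : ∀ x ∈ A, ∀ y ∈ B, ⁅x, y⁆ ∈ C) (h2 : ∀ x ∈ M, (∀ y ∈ B, ⁅x, y⁆ ∈ C) → x ∈ A) :
    ∀ x ∈ A, f x ∈ A := fun x hx => h2 _ (h.mem x (hA hx)) fun y hy => by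
  obtain ⟨y, hy', rfl⟩ := (oc_restr h hB kB).surj hy
  rw [← h.comm (hA hx) (hB hy')]
  exact kC _ (h1 x hx y hy')

theorem oc_cent (h : Au M f) (hA : A ≤ M) (hB : B ≤ M) (kB : ∀ x ∈ B, f x ∈ B)
    (h1 : ∀ x ∈ A, ∀ y ∈ B, x * y = y * x) (h2 : ∀ x ∈ M, (∀ y ∈ B, x * y = y * x) → x ∈ A) :
    ∀ x ∈ A, f x ∈ A := fun x hx => h2 _ (h.mem x (hA hx)) fun y hy => by
  obtain ⟨y, hy', rfl⟩ := (oc_restr h hB kB).surj hy
  rw [← h.mul _ (hA hx) _ (hB hy'), ← h.mul _ (hB hy') _ (hA hx), h1 x hx y hy']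

theorem oc_cj {φ : W →* G} {g : G} {b : W} (h : ⁅g, φ b⁆ ∈ M.map φ) : ∃ r ∈ M, Cj φ g b (r * b) := by
  obtain ⟨r, hr, e⟩ := h
  refine ⟨r, hr, ?_⟩
  rw [Cj, map_mul, e, commutatorElement_def, inv_mul_cancel_right]

theorem oc_nr {φ : W →* G} (h : (A.map φ).Normal) (g : G) : g ∈ nr φ A :=
  (normalizer_eq_top_iff.2 h).ge (mem_top g)

end Gen

theorem oc_lam (hq : 2 < Nat.card K) : ∃ l : K, l ≠ 0 ∧ l ≠ 1 ∧ σ l ≠ l := by
  classical
  have := Fintype.ofFinite K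
  obtain ⟨l, -, hl⟩ := Finset.exists_mem_notMem_of_card_lt_card (s := ({0, 1} : Finset K))
    (t := Finset.univ) (by
      rw [Finset.card_univ, ← Nat.card_eq_fintype_card]
      exact lt_of_le_of_lt Finset.card_le_two hq)
  simp only [Finset.mem_insert, Finset.mem_singleton, not_or] at hl
  refine ⟨l, hl.1, hl.2, fun e => ?_⟩
  have := σσ l
  rw [e, e] at this
  grind

theorem au_E {f : Co K → Co K} (h : Au Q f) : ∀ x ∈ (E : Subgroup (Co K)), f x ∈ (E : Subgroup (Co K)) := by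
  have : Ph Q ≤ h.pre E := Ph_le_of fun x hx => ⟨mul_mem hx hx, by
    have h1 := h.mem x hx
    rw [h.mul x hx x hx]
    generalize f x = y at h1
    simp only [mem_Q] at h1
    simp only [mem_E]
    and_intros <;> simp [h1] <;> grind⟩
  exact fun x hx => (this (E_le_Ph_Q hx)).2

theorem au_F {f : Co K → Co K} (h : Au Q f) : ∀ x ∈ (F : Subgroup (Co K)), f x ∈ (F : Subgroup (Co K)) := by
  refine oc_cent (B := E) h (fun x hx => ⟨hx.2.2.2.2.1, hx.2.2.2.2.2⟩) (fun x hx => ⟨hx.2.2.2.2.2.1, hx.2.2.2.2.2.2⟩)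
    (au_E h) (fun x hx y hy => ?_) fun x _ => cent_E'
  simp only [mem_F] at hx
  simp only [mem_E] at hy
  ext <;> simp [hx, hy] <;> grind

theorem au_Z {f : Co K → Co K} (h : Au Q f) : ∀ x ∈ (Z : Subgroup (Co K)), f x ∈ (Z : Subgroup (Co K)) := by
  refine oc_cent h (fun x hx => ⟨hx.2.2.2.2.2.2.2.2.2.1, hx.2.2.2.2.2.2.2.2.2.2⟩) le_rfl h.mem
    (fun x hx y hy => ?_) fun x hx k => ?_
  · simp only [mem_Z] at hx
    ext <;> simp [hx] <;> grind
  · have hF := cent_E' fun e he => k e ⟨he.2.2.2.2.2.1, he.2.2.2.2.2.2⟩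
    simp only [mem_F] at hF
    have e1 := congrArg Co.b6 (k (x7 1) (by simp))
    have e2 := congrArg Co.b4 (k (x7 1) (by simp))
    have e3 := congrArg Co.b4 (k (y6 1 0) (by simp))
    have e4 := congrArg Co.b4 (k (y2 1 0) (by simp))
    have e5 := congrArg Co.b4 (k (x1 1) (by simp))
    simp [hF] at e1
    simp [hF, e1] at e2 e3 e4 e5
    simp [hF, e1, e2, e3, e4, e5]

theorem au_V {f : Co K → Co K} (h : Au R f) : ∀ x ∈ (V : Subgroup (Co K)), f x ∈ (V : Subgroup (Co K)) := by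
  refine oc_cent h (fun x hx => hx.1) le_rfl h.mem (fun x hx y hy => ?_) fun x hx k => ?_
  · simp only [mem_V] at hx
    simp only [mem_R] at hy
    ext <;> simp [hx, hy] <;> grind
  · simp only [mem_R] at hx
    have e1 := congrArg Co.b6 (k (x5 1) (by simp))
    simp [hx] at e1
    have e2 := congrArg Co.b4 (k (x5 1) (by simp))
    have e3 := congrArg Co.b6 (k (x3 1) (by simp))
    simp [hx, e1] at e2 e3
    have e4 := congrArg Co.b4 (k (x3 1) (by simp))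
    have e5 := congrArg Co.b6 (k (x7 1) (by simp))
    have e6 := congrArg Co.b4 (k (y2 0 1) (by simp))
    have e7 := congrArg Co.b4 (k (x7 1) (by simp))
    simp [hx, e1, e2, e3] at e4 e5 e6 e7
    have e8 := congrArg Co.b4 (k (y6 1 0) (by simp))
    have e9 := congrArg Co.b4 (k (y2 1 0) (by simp))
    simp [hx, e1, e2, e3, e4, e5, e6, e7] at e8 e9
    simp [hx, e1, e2, e3, e4, e5, e6, e7, e8, e9]

theorem au_D3 {f : Co K → Co K} (h : Au R f) : ∀ x ∈ (D3 : Subgroup (Co K)), f x ∈ (D3 : Subgroup (Co K)) := by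
  refine oc_rc h (fun x hx => hx.1) le_rfl h.mem (au_V h) (fun x hx y hy => ?_) fun x hx k => ?_
  · simp only [mem_D3] at hx
    simp only [mem_R] at hy
    simp only [mem_V]
    and_intros <;> simp [commutatorElement_def, hx, hy] <;> grind
  · simp only [mem_R] at hx
    have e1 : x.a8 = 0 := by
      have := (k (y2 0 1) (by simp)).2.2.2.1
      simp [commutatorElement_def, hx] at this
      grind
    have e2 : x.a2 = 0 := by
      have := (k (y4 1 0) (by simp)).2.2.2.1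
      simp [commutatorElement_def, hx, e1] at this
      grind
    have e3 : x.b8 = 0 := by
      have := (k (y2 0 1) (by simp)).2.2.2.2.2.1
      simp [commutatorElement_def, hx, e1, e2] at this
      grind
    have e4 : x.a6 = 0 := by
      have := (k (y4 1 0) (by simp)).2.2.2.2.2.1
      simp [commutatorElement_def, hx, e1, e2, e3] at this
      grind
    have e5 : x.a4 = 0 := by
      have := (k (y6 1 0) (by simp)).2.2.2.2.2.1
      simp [commutatorElement_def, hx, e1, e2, e3] at this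
      grind
    have e6 : x.b2 = 0 := by
      have := (k (y8 0 1) (by simp)).2.2.2.2.2.1
      simp [commutatorElement_def, hx, e1, e2, e3, e4, e5] at this
      grind
    have e7 : x.a7 = 0 := by
      have := (k (y2 1 0) (by simp)).2.2.2.2.2.1
      simp [commutatorElement_def, hx, e1, e2, e3, e4, e5, e6] at this
      grind
    have e8 : x.a3 = 0 := by
      have := (k (y8 1 0) (by simp)).2.2.2.2.2.1
      simp [commutatorElement_def, hx, e1, e2, e3, e4, e5, e6, e7] at this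
      grind
    exact ⟨hx, e2, e6, e8, e5, e4, e7, e1, e3⟩

theorem au_R1 {f : Co K → Co K} (h : Au R f) : ∀ x ∈ (R1 : Subgroup (Co K)), f x ∈ (R1 : Subgroup (Co K)) := by
  refine oc_cent (B := D3) h (fun x hx => hx.1) (fun x hx => hx.1) (au_D3 h) (fun x hx y hy => ?_) fun x hx k => ?_
  · simp only [mem_R1] at hx
    simp only [mem_D3] at hy
    ext <;> simp [hx, hy] <;> grind
  · simp only [mem_R] at hx
    have e1 := congrArg Co.b6 (k (x5 1) (by simp))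
    simp [hx] at e1
    have e2 := congrArg Co.b4 (k (x5 1) (by simp))
    simp [hx, e1] at e2
    exact ⟨hx, e2, e1⟩

theorem oc_a1 (x y : Co K) : ⁅x, y⁆.a1 = 0 := by
  simp [commutatorElement_def]; grind

theorem oc_a8 (x y : Co K) : ⁅x, y⁆.a8 = 0 := by
  simp [commutatorElement_def]; grind

theorem oc_a2 (x y : Co K) : ⁅x, y⁆.a2 = x.a1 * y.a8 + x.a8 * y.a1 := by
  simp [commutatorElement_def]; grind

theorem oc_R [(R.map ψ).Normal] (hq : 2 < Nat.card K) (M : Md ψ R) : Oc ψ R := by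
  intro o ho s
  obtain ⟨l, l0, l1, -⟩ := oc_lam hq
  have key : ∀ b : Co K, b.a1 ≠ 0 → ∀ g, ⁅g, ψ b⁆ ∈ R.map ψ → g ∈ nr ψ (T8 ⊓ R) := fun b hb g hg => by
    obtain ⟨r, hr, e⟩ := oc_cj hg
    obtain ⟨f, hf, k⟩ := M.au g
    refine H93.SX.mem_nr fun x hx => ⟨f x, ⟨?_, hf.mem x hx.2⟩, k x hx.2⟩
    have h1 : ⁅b, x⁆ ∈ (R1 : Subgroup (Co K)) := ⟨oc_a1 _ _, by
      rw [oc_a2, show x.a8 = 0 from hx.1, show x.a1 = 0 from hx.2]; simp, oc_a8 _ _⟩
    have h2 := (au_R1 hf _ h1).2.1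
    rw [(k _ h1.1).uniq M.inj (e.comm (k x hx.2)), oc_a2, show (f x).a1 = 0 from hf.mem x hx.2,
      mul_a1, show r.a1 = 0 from hr] at h2
    simpa [hb] using h2
  have l2 : (1 : K) + l ≠ 0 := by grind
  have h1 : o ∈ nr ψ (T8 ⊓ R) := M.o_norm (i := x1 1) (j := x1 l) (by simp) (by simpa) (by simpa)
    (by simp [CharTwo.add_self_eq_zero]) (by simp [CharTwo.add_self_eq_zero]) (oc_a1 _ _) (by
      rintro b (rfl | rfl | rfl)
      · exact key _ (by simp)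
      · exact key _ (by simpa)
      · exact key _ (by simpa)) ho
  have h2 := oc_nr (M.normal_of (A := R1) (fun x hx => hx.1) fun f hf => au_R1 hf) o
  refine M.o_comm (fun i => if i = 0 then R else if i = 1 then T8 ⊓ R else R1) 2 rfl (R1_le_Ph_R hq)
    (fun i => by split_ifs <;> infer_instance) ho (fun i => ?_) fun i hi x hx => ?_
  · split_ifs
    exacts [oc_nr inferInstance o, h1, h2]
  · interval_cases i
    · exact ⟨oc_a8 _ _, oc_a1 _ _⟩
    · exact ⟨oc_a1 _ _, by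
        rw [oc_a2, show x.a8 = 0 from hx.1, show x.a1 = 0 from hx.2]; simp, oc_a8 _ _⟩

/-- The subgroup `U₇ F`. -/
def ocL : Subgroup (Co K) where
  carrier := {x | x.a1 = 0 ∧ x.a2 = 0 ∧ x.a6 = 0 ∧ x.a8 = 0 ∧ x.b8 = 0}
  mul_mem' := fun ha hb => by simp_all
  one_mem' := by simp
  inv_mem' := fun ha => by simp_all

theorem mem_ocL {x : Co K} : x ∈ (ocL : Subgroup (Co K)) ↔
    x.a1 = 0 ∧ x.a2 = 0 ∧ x.a6 = 0 ∧ x.a8 = 0 ∧ x.b8 = 0 := Iff.rfl

instance normal_ocL : (ocL : Subgroup (Co K)).Normal := ⟨fun x hx g => by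
  simp only [mem_ocL] at hx ⊢
  and_intros <;> simp [hx] <;> grind⟩

theorem oc_memQ (s : Co K) {x : Co K} (hx : x ∈ (Q : Subgroup (Co K))) : ⁅s, x⁆ ∈ (Q : Subgroup (Co K)) :=
  mul_mem (normal_Q.conj_mem x hx s) (inv_mem hx)

theorem oc_z8 {q y : Co K} (hq : q ∈ (Q : Subgroup (Co K))) (hy : y ∈ (Q : Subgroup (Co K))) (v : K) :
    ⁅q * y8 0 v, y⁆.a6 = y.a1 * v ∧ ⁅q * y8 0 v, y⁆.a7 = y.a1 * σ v + y.a2 * v := by
  simp only [mem_Q] at hq hy
  and_intros <;> simp [commutatorElement_def, hq, hy] <;> grind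

theorem oc_z8' {y : Co K} (hy : y ∈ (Q : Subgroup (Co K))) (v : K) :
    ⁅y8 0 v, y⁆.a2 = 0 ∧ ⁅y8 0 v, y⁆.a6 = y.a1 * v ∧ ⁅y8 0 v, y⁆.a7 = y.a1 * σ v + y.a2 * v :=
  ⟨by rw [oc_a2, hy.1]; simp, by simpa only [one_mul] using oc_z8 (one_mem _) hy v⟩

theorem oc_mod {f : Co K → Co K} (h : Au Q f) {u u' : Co K} (hu : u ∈ (Q : Subgroup (Co K)))
    (hu' : u' ∈ (Q : Subgroup (Co K))) (e1 : u.a1 = u'.a1) (e2 : u.a2 = u'.a2) (e6 : u.a6 = u'.a6)
    (e7 : u.a7 = u'.a7) : (f u).a6 = (f u').a6 ∧ (f u).a7 = (f u').a7 := by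
  have h1 : u * u'⁻¹ ∈ (F : Subgroup (Co K)) := by
    simp only [mem_Q] at hu hu'
    simp only [mem_F]
    and_intros <;> simp [hu, hu', e1, e2, e6, e7, CharTwo.add_self_eq_zero]
  have h2 := au_F h _ h1
  rw [h.mul _ hu _ (inv_mem hu'), h.inv hu'] at h2
  have h3 := h.mem u hu
  have h4 := h.mem u' hu'
  generalize f u = y at h2 h3 ⊢
  generalize f u' = y' at h2 h4 ⊢
  simp only [mem_Q] at h3 h4
  have e1 := h2.2.2.1
  have e2 := h2.2.2.2.1
  simp [h3, h4] at e1 e2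
  grind

theorem oc_FE (s : Co K) {x : Co K} (hx : x ∈ (F : Subgroup (Co K))) : ⁅s, x⁆ ∈ (E : Subgroup (Co K)) := by
  simp only [mem_F] at hx
  simp only [mem_E]
  and_intros <;> simp [commutatorElement_def, hx] <;> grind

theorem oc_Q [(Q.map ψ).Normal] (hq : 2 < Nat.card K) (M : Md ψ Q) : Oc ψ Q := by
  intro o ho s
  obtain ⟨l, l0, l1, ls⟩ := oc_lam hq
  have MQ : ∀ x ∈ (M2 : Subgroup (Co K)), x ∈ (Q : Subgroup (Co K)) := fun x hx => ⟨hx.2.2.1, hx.2.2.2⟩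
  have zF : ∀ v : K, ∀ x ∈ (M2 : Subgroup (Co K)), ⁅y8 0 v, x⁆ ∈ (F : Subgroup (Co K)) := fun v x hx => by
    obtain ⟨e2, e6, e7⟩ := oc_z8' (MQ x hx) v
    rw [hx.1] at e6
    rw [hx.1, hx.2.1] at e7
    exact ⟨oc_a1 _ _, e2, by simpa using e6, by simpa using e7, oc_memQ _ (MQ x hx)⟩
  have key : ∀ v : K, v ≠ 0 → ∀ g, ⁅g, ψ (y8 0 v)⁆ ∈ Q.map ψ → g ∈ nr ψ M2 := fun v hv g hg => by
    obtain ⟨r, hr, e⟩ := oc_cj hg
    obtain ⟨f, hf, k⟩ := M.au g
    refine H93.SX.mem_nr fun x hx => ⟨f x, ?_, k x (MQ x hx)⟩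
    have h2 := au_F hf _ (zF v x hx)
    have h3 := hf.mem x (MQ x hx)
    rw [(k _ (oc_memQ _ (MQ x hx))).uniq M.inj (e.comm (k x (MQ x hx)))] at h2
    obtain ⟨e6, e7⟩ := oc_z8 hr h3 v
    have e1 : (f x).a1 = 0 := by simpa [hv] using e6.symm.trans h2.2.2.1
    exact ⟨e1, by simpa [hv, e1] using e7.symm.trans h2.2.2.2.1, h3⟩
  have l2 : (1 : K) + l ≠ 0 := by grind
  have e8 : (y8 0 1 * y8 0 l : Co K) = y8 0 (1 + l) := by ext <;> simp
  have h1 : o ∈ nr ψ M2 := M.o_norm (i := y8 0 1) (j := y8 0 l) (by simp) (by simpa) (by simpa)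
    (by simp [CharTwo.add_self_eq_zero]) (by simp [CharTwo.add_self_eq_zero])
    (by simp [commutatorElement_def]; grind) (by
      rintro b (rfl | rfl | rfl)
      · exact key _ one_ne_zero
      · exact key _ l0
      · exact e8 ▸ key _ l2) ho
  have hQ := oc_nr (φ := ψ) (A := Q) inferInstance o
  have hF := oc_nr (M.normal_of (A := F) (fun x hx => ⟨hx.2.2.2.2.1, hx.2.2.2.2.2⟩) fun f hf => au_F hf) o
  have hE := oc_nr (M.normal_of (A := E) (fun x hx => ⟨hx.2.2.2.2.2.1, hx.2.2.2.2.2.2⟩)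
    fun f hf => au_E hf) o
  have h2 : ∀ v, ⁅o, ψ (y8 0 v)⁆ ∈ Q.map ψ := fun v => by
    refine M.o_comm (fun i => if i = 0 then Q else if i = 1 then M2 else if i = 2 then F else E) 3 rfl
      E_le_Ph_Q (fun i => by split_ifs <;> infer_instance) ho (fun i => ?_) fun i hi x hx => ?_
    · split_ifs
      exacts [hQ, h1, hF, hE]
    · interval_cases i
      · exact ⟨oc_a1 _ _, (oc_z8' hx v).1, oc_memQ _ hx⟩
      · exact zF v x hx
      · exact oc_FE _ hx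
  obtain ⟨f, hf, k⟩ := M.au o
  have h3 : ∀ v, ∀ x ∈ (Q : Subgroup (Co K)), (f ⁅y8 0 v, x⁆).a6 = (f x).a1 * v ∧
      (f ⁅y8 0 v, x⁆).a7 = (f x).a1 * σ v + (f x).a2 * v := fun v x hx => by
    obtain ⟨r, hr, e⟩ := oc_cj (h2 v)
    rw [(k _ (oc_memQ _ hx)).uniq M.inj (e.comm (k x hx))]
    exact oc_z8 hr (hf.mem x hx) v
  have h4 : ∀ x ∈ (Q : Subgroup (Co K)), x.a1 = 0 → (f x).a1 = 0 := fun x hx x1 => by
    have hy : (y2 (x.a2 / l) 0 : Co K) ∈ (Q : Subgroup (Co K)) := by simp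
    have k1 : ∀ v, (f x).a1 * v = (f (y2 (x.a2 / l) 0)).a1 * (l * v) ∧
        (f x).a1 * σ v + (f x).a2 * v =
          (f (y2 (x.a2 / l) 0)).a1 * σ (l * v) + (f (y2 (x.a2 / l) 0)).a2 * (l * v) := fun v => by
      obtain ⟨e2, e6, e7⟩ := oc_z8' hx v
      obtain ⟨e2', e6', e7'⟩ := oc_z8' hy (l * v)
      rw [← (h3 v x hx).1, ← (h3 v x hx).2, ← (h3 (l * v) _ hy).1, ← (h3 (l * v) _ hy).2]
      refine oc_mod hf (oc_memQ _ hx) (oc_memQ _ hy) ((oc_a1 _ _).trans (oc_a1 _ _).symm)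
        (e2.trans e2'.symm) ?_ ?_
      · rw [e6, e6', x1]; simp
      · rw [e7, e7', x1]; simp; field_simp
    obtain ⟨e1, e2⟩ := k1 1
    obtain ⟨-, e3⟩ := k1 l
    simp only [map_mul, map_one, mul_one] at e1 e2 e3
    generalize (f (y2 (x.a2 / l) 0)).a1 = a at e1 e2 e3
    have e4 : a * (σ l + l) ^ 2 = 0 := by grind
    have e5 : σ l + l ≠ 0 := by grind
    rw [e1, (mul_eq_zero.1 e4).resolve_right (pow_ne_zero _ e5), zero_mul]
  have h5 : o ∈ nr ψ (Q ⊓ R) :=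
    H93.SX.mem_nr fun x hx => ⟨f x, ⟨hf.mem x hx.1, h4 x hx.1 hx.2⟩, k x hx.1⟩
  have h6 : o ∈ nr ψ ocL := H93.SX.mem_nr fun x hx => by
    have hx' : x ∈ (M2 : Subgroup (Co K)) := ⟨hx.1, hx.2.1, hx.2.2.2⟩
    have hy : (y2 1 0 : Co K) ∈ (Q : Subgroup (Co K)) := by simp
    have m := (k x (MQ x hx')).mem M.inj h1 hx'
    refine ⟨f x, ⟨m.1, m.2.1, ?_, m.2.2⟩, k x (MQ x hx')⟩
    obtain ⟨e2, e6, e7⟩ := oc_z8' hy x.a7
    rw [(oc_mod hf (MQ x hx') (oc_memQ (y8 0 x.a7) hy) (hx.1.trans (oc_a1 _ _).symm)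
      (hx.2.1.trans e2.symm) (by rw [e6, hx.2.2.1]; simp) (by rw [e7]; simp)).1, (h3 _ _ hy).1,
      h4 _ hy rfl, zero_mul]
  refine M.o_comm (fun i => if i = 0 then Q else if i = 1 then Q ⊓ R else if i = 2 then M2 else
    if i = 3 then ocL else if i = 4 then F else E) 5 rfl
    E_le_Ph_Q (fun i => by split_ifs <;> infer_instance) ho (fun i => ?_) fun i hi x hx => ?_
  · split_ifs
    exacts [hQ, h5, h1, h6, hF, hE]
  · interval_cases i
    · exact ⟨oc_memQ _ hx, oc_a1 _ _⟩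
    · exact ⟨oc_a1 _ _, by
        rw [oc_a2, show x.a8 = 0 from hx.1.1, show x.a1 = 0 from hx.2]; simp, oc_memQ _ hx.1⟩
    · have hx : x ∈ (M2 : Subgroup (Co K)) := hx
      show _ ∈ (ocL : Subgroup (Co K))
      simp only [mem_M2] at hx
      simp only [mem_ocL]
      and_intros <;> simp [commutatorElement_def, hx] <;> grind
    · have hx : x ∈ (ocL : Subgroup (Co K)) := hx
      show _ ∈ (F : Subgroup (Co K))
      simp only [mem_ocL] at hx
      simp only [mem_F]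
      and_intros <;> simp [commutatorElement_def, hx] <;> grind
    · exact oc_FE _ hx

theorem auto_lemmas_oc : True := by
  have := @ocL.eq_1.{0}
  trivial

end H78.Ofs
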