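import Mathlib
import Cfsg.Agent.Lib.Ofs.OC
import Cfsg.Agent.Lib.Oct.Bit
import Cfsg.Agent.Lib.Oct.TO

/-!
# The model at `Q` for `q = 2`: an element of order five (OFS QA)
-/

set_option autoImplicit false
set_option linter.unusedSectionVars false

namespace H78.Ofs

open H78.Oct H78.Oct.Co Subgroup
open H93.SX (Cj nr)
open scoped commutatorElement

/-- A four-cycle. -/
def qa_c : Equiv.Perm (Fin 5) := ⟨![0, 2, 3, 4, 1], ![0, 4, 1, 2, 3], by decide, by decide⟩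
/-- A five-cycle. -/
def qa_f1 : Equiv.Perm (Fin 5) := ⟨![1, 2, 4, 0, 3], ![3, 0, 1, 4, 2], by decide, by decide⟩
/-- A five-cycle. -/
def qa_f2 : Equiv.Perm (Fin 5) := ⟨![1, 4, 3, 0, 2], ![3, 0, 4, 2, 1], by decide, by decide⟩
/-- The five singular vectors. -/
def qa_v : Fin 5 → ZMod 2 × ZMod 2 × ZMod 2 × ZMod 2 :=
  ![(0, 0, 0, 1), (1, 0, 0, 0), (1, 1, 1, 1), (1, 0, 1, 1), (1, 1, 0, 1)]

theorem qa_d1 : ∀ p : Equiv.Perm (Fin 5),
    (∃ j : Fin 5, ∃ k : Fin 4, p = qa_f1 ^ j.1 * qa_c ^ k.1) ∨ (∃ j : Fin 5, ∃ k : Fin 4, p = qa_f2 ^ j.1 * qa_c ^ k.1) ∨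
    ∃ w ∈ [p * qa_c * p⁻¹ * qa_c * p, p * qa_c ^ 2 * p⁻¹ * qa_c ^ 2 * p,
      p * qa_c * p⁻¹ * qa_c * p * qa_c⁻¹ * p⁻¹ * qa_c ^ 2 * p, p * qa_c * p⁻¹ * qa_c⁻¹ * p * qa_c * p⁻¹ * qa_c⁻¹ * p],
      w * qa_c = qa_c⁻¹ * w := by
  decide +kernel

theorem qa_d2 : ∀ f ∈ [qa_f1, qa_f2], ∀ j : Fin 5, ∀ k : Fin 4, (f ^ j.1 * qa_c ^ k.1) * qa_c = qa_c * (f ^ j.1 * qa_c ^ k.1) ∨
    ∃ m : Fin 5, ((f ^ j.1 * qa_c ^ k.1) * qa_c * (f ^ j.1 * qa_c ^ k.1)⁻¹ * qa_c⁻¹) ^ m.1 = f := by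
  decide +kernel

theorem qa_d3 : ∀ f ∈ [qa_f1, qa_f2], ∀ f' ∈ [qa_f1, qa_f2], ∀ f'' ∈ [qa_f1, qa_f2], ∀ j j' : Fin 5, ∀ k k' : Fin 4,
    f' ^ j.1 * qa_c ^ k.1 * f = f'' ^ j'.1 * qa_c ^ k'.1 → f' = f ∨ j = 0 := by
  decide +kernel

theorem qa_d4 : ∀ f ∈ [qa_f1, qa_f2], f ^ 5 = 1 ∧ f ≠ 1 ∧ (∀ i : Fin 4, ∃ k : Fin 5, qa_c ^ i.1 * f = f ^ k.1 * qa_c ^ i.1) ∧
    (∀ i, qa_v (f i) ≠ qa_v i) ∧ ∀ i j, qa_v (f i) + qa_v (f j) = qa_v i + qa_v j → qa_v i + qa_v j = 0 := by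
  decide +kernel

theorem qa_d5 : ∀ p : Equiv.Perm (Fin 5), (p * qa_c = qa_c * p ∨ p * qa_c = qa_c⁻¹ * p) → p ^ 4 = 1 := by
  decide +kernel

theorem qa_d6 : ∀ i : Fin 4, qa_c ^ i.1 * qa_c ≠ qa_c⁻¹ * qa_c ^ i.1 := by
  decide +kernel

theorem qa_d7 : ∀ w : ZMod 2 × ZMod 2 × ZMod 2 × ZMod 2, (∃ i, w = qa_v i) ∨ ∃ i j, w = qa_v i + qa_v j := by
  decide +kernel

theorem qa_d8 : ∀ i j, qa_v i = qa_v j → i = j := by decide +kernel


theorem qa_d9 : ∀ i, ((qa_v i).1, (qa_v i).1 + (qa_v i).2.1, (qa_v i).1 + (qa_v i).2.1 + (qa_v i).2.2.1,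
    (qa_v i).1 + (qa_v i).2.2.1 + (qa_v i).2.2.2) = qa_v (qa_c i) := by decide +kernel

theorem qa_d10 : ∀ i, qa_v i ≠ 0 := by decide +kernel

/-- A subgroup of `S₅` containing the four-cycle and no element inverting it. -/
theorem qa_perm (J : Subgroup (Equiv.Perm (Fin 5))) (hc : qa_c ∈ J) (h1 : ∀ w ∈ J, w * qa_c ≠ qa_c⁻¹ * w)
    (h2 : ∃ p ∈ J, p * qa_c ≠ qa_c * p) :
    ∃ f ∈ [qa_f1, qa_f2], f ∈ J ∧ ∀ p ∈ J, ∃ j k : ℕ, p = f ^ j * qa_c ^ k := by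
  have good : ∀ p ∈ J, ∃ f ∈ [qa_f1, qa_f2], ∃ j : Fin 5, ∃ k : Fin 4, p = f ^ j.1 * qa_c ^ k.1 := by
    intro p hp
    rcases qa_d1 p with h | h | ⟨w, hw, e⟩
    · exact ⟨_, by simp, h⟩
    · exact ⟨_, by simp, h⟩
    · refine (h1 w ?_ e).elim
      have hi := inv_mem hp
      have hci := inv_mem hc
      have hc2 := pow_mem hc 2
      simp only [List.mem_cons, List.not_mem_nil, or_false] at hw
      rcases hw with rfl | rfl | rfl | rfl <;> repeat (first | assumption | apply mul_mem)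
  obtain ⟨p, hp, hn⟩ := h2
  obtain ⟨f, hf, j, k, rfl⟩ := good p hp
  obtain ⟨m, hm⟩ := (qa_d2 f hf j k).resolve_left hn
  have hfJ : f ∈ J := hm ▸ pow_mem (mul_mem (mul_mem (mul_mem hp hc) (inv_mem hp)) (inv_mem hc)) _
  refine ⟨f, hf, hfJ, fun q hq => ?_⟩
  obtain ⟨f', hf', j, k, rfl⟩ := good q hq
  obtain ⟨f'', hf'', j', k', e⟩ := good _ (mul_mem hq hfJ)
  rcases qa_d3 f hf f' hf' f'' hf'' j j' k k' e with rfl | rfl
  · exact ⟨_, _, rfl⟩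
  · exact ⟨0, k, by simp⟩

variable {K G : Type*} [Field K] [Tits K] [Finite K] [Group G] [Finite G] {ψ : Co K →* G}
  {H : Subgroup (MulAut (Co K))}

open Classical in
/-- The field with two elements. -/
noncomputable def qa_b (t : K) : ZMod 2 := if t = 0 then 0 else 1

/-- Coordinates on `Q / F`. -/
noncomputable def qa_cv (x : Co K) : ZMod 2 × ZMod 2 × ZMod 2 × ZMod 2 :=
  (qa_b x.a1, qa_b x.a2, qa_b x.a6, qa_b x.a7)

theorem qa_b0 : qa_b (0 : K) = 0 := by simp [qa_b]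

theorem qa_b1 : qa_b (1 : K) = 1 := by simp [qa_b]

theorem qa_b_eq {t : K} : qa_b t = 0 ↔ t = 0 := by
  by_cases h : t = 0 <;> simp [qa_b, h]

theorem qa_b_add (hK : ∀ x : K, x = 0 ∨ x = 1) (s t : K) : qa_b (s + t) = qa_b s + qa_b t := by
  rcases hK s with rfl | rfl <;> rcases hK t with rfl | rfl <;>
    simp only [add_zero, zero_add, qa_b0, qa_b1, CharTwo.add_self_eq_zero]

theorem qa_σ (hK : ∀ x : K, x = 0 ∨ x = 1) (s : K) : σ s = s := by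
  rcases hK s with rfl | rfl <;> simp

theorem qa_mul (hK : ∀ x : K, x = 0 ∨ x = 1) {x : Co K} (hx : x ∈ (Q : Subgroup (Co K))) (y : Co K) :
    qa_cv (x * y) = qa_cv x + qa_cv y := by
  rw [mem_Q] at hx
  simp [qa_cv, hx, qa_b_add hK]

theorem qa_inv {x : Co K} (hx : x ∈ (Q : Subgroup (Co K))) : qa_cv x⁻¹ = qa_cv x := by
  rw [mem_Q] at hx
  simp [qa_cv, hx]

theorem qa_F {x : Co K} (hx : x ∈ (Q : Subgroup (Co K))) : x ∈ (F : Subgroup (Co K)) ↔ qa_cv x = 0 := by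
  rw [mem_Q] at hx
  simp [qa_cv, hx, qa_b_eq]

theorem qa_eq (hK : ∀ x : K, x = 0 ∨ x = 1) {x y : Co K} (hx : x ∈ (Q : Subgroup (Co K)))
    (hy : y ∈ (Q : Subgroup (Co K))) : y * x⁻¹ ∈ (F : Subgroup (Co K)) ↔ qa_cv y = qa_cv x := by
  rw [qa_F (mul_mem hy (inv_mem hx)), qa_mul hK hy, qa_inv hx]
  generalize qa_cv y = a
  generalize qa_cv x = b
  revert a b
  decide +kernel

theorem qa_tt (hK : ∀ x : K, x = 0 ∨ x = 1) (a1 a2 a4 a6 a7 : K) (e1 : a2 + a4 * a1 + a6 * a1 = 0)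
    (e2 : a4 * a2 + a6 * a1 + a7 * a1 = 0) (e3 : a6 * a4 + a7 * a2 + a7 * a1 = 0)
    (e4 : a6 + a7 * a4 + a7 * a2 = 0) :
    (qa_b a1, qa_b a2, qa_b a6, qa_b a7) = 0 ∨ ∃ i, (qa_b a1, qa_b a2, qa_b a6, qa_b a7) = qa_v i := by
  rcases hK a1 with rfl | rfl <;> rcases hK a2 with rfl | rfl <;> rcases hK a4 with rfl | rfl <;>
    rcases hK a6 with rfl | rfl <;> rcases hK a7 with rfl | rfl <;>
    simp only [add_zero, zero_add, mul_zero, mul_one, one_ne_zero, CharTwo.add_self_eq_zero] at e1 e2 e3 e4 <;>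
    simp only [qa_b0, qa_b1] <;> decide

theorem qa_invol (hK : ∀ x : K, x = 0 ∨ x = 1) {x : Co K} (hx : x ∈ (Q : Subgroup (Co K))) (h : x * x = 1) :
    qa_cv x = 0 ∨ ∃ i, qa_cv x = qa_v i := by
  rw [mem_Q] at hx
  have s : ∀ t : K, t * t = t := fun t => by rcases hK t with rfl | rfl <;> simp
  have e1 := congrArg Co.b2 h
  have e2 := congrArg Co.a3 h
  have e3 := congrArg Co.a5 h
  have e4 := congrArg Co.b6 h
  simp [hx, qa_σ hK, s] at e1 e2 e3 e4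
  exact qa_tt hK x.a1 x.a2 x.a4 x.a6 x.a7 (by grind) (by grind) (by grind) (by grind)

theorem qa_conj (hK : ∀ x : K, x = 0 ∨ x = 1) {x : Co K} (hx : x ∈ (Q : Subgroup (Co K))) {i : Fin 5}
    (h : qa_cv x = qa_v i) : qa_cv (y8 1 0 * x * (y8 1 0)⁻¹) = qa_v (qa_c i) := by
  rw [← qa_d9, ← h]
  rw [mem_Q] at hx
  simp only [qa_cv, ← qa_b_add hK]
  congr 2
  · simp
  · simp
  · congr 2
    · simp [hx]
    · simp [hx]

theorem qa_rep (hK : ∀ x : K, x = 0 ∨ x = 1) (i : Fin 5) :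
    ∃ r ∈ (Q : Subgroup (Co K)), r * r = 1 ∧ qa_cv r = qa_v i := by
  have st : ∀ i, (∃ r ∈ (Q : Subgroup (Co K)), r * r = 1 ∧ qa_cv r = qa_v i) →
      ∃ r ∈ (Q : Subgroup (Co K)), r * r = 1 ∧ qa_cv r = qa_v (qa_c i) := by
    rintro i ⟨r, hr, h1, h2⟩
    refine ⟨_, normal_Q.conj_mem r hr (y8 1 0), ?_, qa_conj hK hr h2⟩
    rw [show y8 1 0 * r * (y8 1 0)⁻¹ * (y8 1 0 * r * (y8 1 0)⁻¹) = y8 (1 : K) 0 * (r * r) * (y8 1 0)⁻¹ by group, h1]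
    group
  have h0 : ∃ r ∈ (Q : Subgroup (Co K)), r * r = 1 ∧ qa_cv r = qa_v 0 :=
    ⟨x7 1, by simp, by ext <;> simp [CharTwo.add_self_eq_zero], by simp [qa_cv, qa_b0, qa_b1, qa_v]⟩
  have h1 : ∃ r ∈ (Q : Subgroup (Co K)), r * r = 1 ∧ qa_cv r = qa_v 1 :=
    ⟨x1 1, by simp, by ext <;> simp [CharTwo.add_self_eq_zero], by simp [qa_cv, qa_b0, qa_b1, qa_v]⟩
  fin_cases i
  exacts [h0, h1, st 1 h1, st 2 (st 1 h1), st 3 (st 2 (st 1 h1))]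

theorem qa_split (hK : ∀ x : K, x = 0 ∨ x = 1) (s : Co K) :
    ∃ q ∈ (Q : Subgroup (Co K)), ∃ i : Fin 4, s = q * y8 1 0 ^ i.1 := by
  suffices h : ∃ i : Fin 4, s * (y8 1 0 ^ i.1)⁻¹ ∈ (Q : Subgroup (Co K)) by
    obtain ⟨i, hi⟩ := h
    exact ⟨_, hi, i, by group⟩
  rcases hK s.a8 with h | h <;> rcases hK s.b8 with h' | h'
  · exact ⟨0, by simp [h, h']⟩
  · exact ⟨2, by simp [h, h', pow_succ, CharTwo.add_self_eq_zero]⟩
  · exact ⟨1, by simp [h, h', CharTwo.add_self_eq_zero]⟩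
  · exact ⟨3, by simp [h, h', pow_succ, CharTwo.add_self_eq_zero]⟩

variable [(Q.map ψ).Normal]

theorem qa_nQ (g : G) : g ∈ nr ψ Q := by
  rw [nr, normalizer_eq_top]; trivial

theorem qa_nF (M : Md ψ Q) (g : G) : g ∈ nr ψ F := by
  haveI := M.normal_of (A := F) (fun x hx => ⟨hx.2.2.2.2.1, hx.2.2.2.2.2⟩) fun f h => au_F h
  rw [nr, normalizer_eq_top]; trivial

theorem qa_nE (M : Md ψ Q) (g : G) : g ∈ nr ψ E := by
  haveI := M.normal_of (A := E) (fun x hx => ⟨hx.2.2.2.2.2.1, hx.2.2.2.2.2.2⟩) fun f h => au_E h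
  rw [nr, normalizer_eq_top]; trivial

theorem qa_wd (hK : ∀ x : K, x = 0 ∨ x = 1) (M : Md ψ Q) {g : G} {x y x' y' : Co K}
    (hx : x ∈ (Q : Subgroup (Co K))) (hx' : x' ∈ (Q : Subgroup (Co K))) (a : Cj ψ g x y) (b : Cj ψ g x' y')
    (h : qa_cv x = qa_cv x') : qa_cv y = qa_cv y' :=
  (qa_eq hK (b.mem M.inj (qa_nQ g) hx') (a.mem M.inj (qa_nQ g) hx)).1
    ((a.mul b.inv).mem M.inj (qa_nF M g) ((qa_eq hK hx' hx).2 h))

theorem qa_rho (hK : ∀ x : K, x = 0 ∨ x = 1) (M : Md ψ Q) : ∃ ρ : G →* Equiv.Perm (Fin 5),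
    ∀ g i, ∀ x ∈ (Q : Subgroup (Co K)), ∀ y, Cj ψ g x y → qa_cv x = qa_v i → qa_cv y = qa_v (ρ g i) := by
  have ex : ∀ (g : G) (i : Fin 5), ∃ j, ∀ x ∈ (Q : Subgroup (Co K)), ∀ y, Cj ψ g x y → qa_cv x = qa_v i →
      qa_cv y = qa_v j := by
    intro g i
    obtain ⟨r, hr, h1, h2⟩ := qa_rep hK i
    obtain ⟨r', hr', e⟩ := H93.SX.nr_cj (qa_nQ (ψ := ψ) g) hr
    have h3 : r' * r' = 1 := by
      have := e.mul e
      rw [h1] at this
      exact this.uniq M.inj (by simp [Cj])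
    rcases qa_invol hK hr' h3 with h | ⟨j, h⟩
    · exact (qa_d10 i (h2 ▸ (qa_F hr).1 (e.mem' M.inj (qa_nF M g) ((qa_F hr').2 h)))).elim
    · exact ⟨j, fun x hx y a hi => h ▸ qa_wd hK M hx hr a e (hi.trans h2.symm)⟩
  choose p hp using ex
  letI : MulAction G (Fin 5) :=
    { smul := p
      one_smul := fun i => by
        obtain ⟨r, hr, -, h2⟩ := qa_rep hK i
        exact qa_d8 _ _ ((hp 1 i r hr r H93.SX.Cj.one h2).symm.trans h2)
      mul_smul := fun g h i => by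
        obtain ⟨r, hr, -, h2⟩ := qa_rep hK i
        obtain ⟨y, hy, e⟩ := H93.SX.nr_cj (qa_nQ (ψ := ψ) h) hr
        obtain ⟨z, -, e'⟩ := H93.SX.nr_cj (qa_nQ (ψ := ψ) g) hy
        exact qa_d8 _ _ ((hp (g * h) i r hr z (e'.trans e) h2).symm.trans
          (hp g _ y hy z e' (hp h i r hr y e h2))) }
  exact ⟨MulAction.toPermHom G (Fin 5), hp⟩

omit [(Q.map ψ).Normal] in
theorem exists_fv [(Q.map ψ).Normal] (hK : ∀ x : K, x = 0 ∨ x = 1) (M : Md ψ Q) : ∃ f, Fv ψ f := by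
  obtain ⟨ρ, hρ⟩ := qa_rho hK M
  have h2 : ∀ g i j, ∀ x ∈ (Q : Subgroup (Co K)), ∀ y, Cj ψ g x y → qa_cv x = qa_v i + qa_v j →
      qa_cv y = qa_v (ρ g i) + qa_v (ρ g j) := by
    intro g i j x hx y a h
    obtain ⟨r, hr, -, e⟩ := qa_rep hK i
    obtain ⟨r', hr', -, e'⟩ := qa_rep hK j
    obtain ⟨t, ht, b⟩ := H93.SX.nr_cj (qa_nQ (ψ := ψ) g) hr
    obtain ⟨t', -, b'⟩ := H93.SX.nr_cj (qa_nQ (ψ := ψ) g) hr'
    rw [qa_wd hK M hx (mul_mem hr hr') a (b.mul b') (by rw [h, qa_mul hK hr, e, e']), qa_mul hK ht,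
      hρ g i r hr t b e, hρ g j r' hr' t' b' e']
  have k1 : ρ.ker ≤ Q.map ψ := by
    refine M.core _ fun g hg ho => M.tv_one ho fun x hx => ?_
    have hg : ρ g = 1 := hg
    have t1 : Tv ψ g Q F := fun x hx => by
      obtain ⟨y, hy, a⟩ := H93.SX.nr_cj (qa_nQ (ψ := ψ) g) hx
      refine ⟨y, a, (qa_eq hK hx hy).2 ?_⟩
      rcases qa_d7 (qa_cv x) with ⟨i, h⟩ | ⟨i, j, h⟩
      · rw [hρ g i x hx y a h, hg, h]; rfl
      · rw [h2 g i j x hx y a h, hg, h]; rfl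
    have t2 : Tv ψ g F E := fun x hx => by
      obtain ⟨y, hy, a⟩ := H93.SX.nr_cj (qa_nF M g) hx
      refine ⟨y, a, ?_⟩
      have i1 := a.mem M.inj (qa_nE M g)
      have i2 := a.mem' M.inj (qa_nE M g)
      rw [mem_F] at hx hy
      simp only [mem_E, hx, hy, true_and, and_true, and_self] at i1 i2
      have e : y.a4 = x.a4 := by
        rcases hK x.a4 with h | h
        · rw [h, i1 h]
        · rcases hK y.a4 with h' | h'
          · rw [h', i2 h']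
          · rw [h, h']
      simp [hx, hy, e, CharTwo.add_self_eq_zero]
    obtain ⟨y, a, hy⟩ := M.tv_trans ho (qa_nE M g) t1 t2 x hx
    exact ⟨y, a, E_le_Ph_Q hy⟩
  have k2 : ∀ q ∈ (Q : Subgroup (Co K)), ρ (ψ q) = 1 := fun q hq => Equiv.ext fun i => by
    obtain ⟨r, hr, -, e⟩ := qa_rep hK i
    refine qa_d8 _ _ ((hρ _ i r hr _ (H93.SX.Cj.self q r) e).symm.trans ?_)
    rw [qa_mul hK (mul_mem hq hr), qa_mul hK hq, qa_inv hq, e]
    change _ = qa_v i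
    generalize qa_cv q = a
    generalize qa_v i = b
    revert a b
    decide +kernel
  have k3 : ρ (ψ (y8 1 0)) = qa_c := Equiv.ext fun i => by
    obtain ⟨r, hr, -, e⟩ := qa_rep hK i
    exact qa_d8 _ _ ((hρ _ i r hr _ (H93.SX.Cj.self _ r) e).symm.trans (qa_conj hK hr e))
  have k4 : ∀ s, ∃ i : Fin 4, ρ (ψ s) = qa_c ^ i.1 := fun s => by
    obtain ⟨q, hq, i, rfl⟩ := qa_split hK s
    exact ⟨i, by rw [map_mul, map_mul, k2 q hq, one_mul, map_pow, map_pow, k3]⟩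
  have pQ : IsPGroup 2 (Q.map ψ) := (M.pg.to_subgroup Q).map ψ
  have pK : IsPGroup 2 ρ.ker := pQ.to_le k1
  have k5 : ∀ g, (ρ g * qa_c = qa_c * ρ g ∨ ρ g * qa_c = qa_c⁻¹ * ρ g) → g ∈ ψ.range := by
    let D : Subgroup (Equiv.Perm (Fin 5)) :=
      { carrier := {p | p * qa_c = qa_c * p ∨ p * qa_c = qa_c⁻¹ * p}
        one_mem' := Or.inl (by simp)
        mul_mem' := by
          rintro a b (ha | ha) (hb | hb)
          · exact Or.inl (by rw [mul_assoc, hb, ← mul_assoc, ha, mul_assoc])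
          · refine Or.inr ?_
            have : a * qa_c⁻¹ = qa_c⁻¹ * a := (Commute.inv_right ha).eq
            rw [mul_assoc, hb, ← mul_assoc, this, mul_assoc]
          · exact Or.inr (by rw [mul_assoc, hb, ← mul_assoc, ha, mul_assoc])
          · refine Or.inl ?_
            have : a * qa_c⁻¹ = qa_c * a := by
              rw [mul_inv_eq_iff_eq_mul, mul_assoc, ha]; group
            rw [mul_assoc, hb, ← mul_assoc, this, mul_assoc]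
        inv_mem' := by
          rintro a (ha | ha)
          · exact Or.inl (Commute.inv_left ha).eq
          · refine Or.inr ?_
            rw [← mul_inv_rev, inv_mul_eq_iff_eq_mul, mul_inv_rev, ← mul_assoc, eq_mul_inv_iff_mul_eq,
              eq_mul_inv_iff_mul_eq, mul_assoc, ha]
            group }
    have pD : IsPGroup 2 D := fun p => ⟨2, Subtype.ext (qa_d5 p.1 p.2)⟩
    have pP : IsPGroup 2 (D.comap ρ) := pD.comap_of_ker_isPGroup ρ pK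
    have le : ψ.range ≤ D.comap ρ := by
      rintro _ ⟨s, rfl⟩
      obtain ⟨i, hi⟩ := k4 s
      exact Or.inl (by rw [hi]; exact (Commute.self_pow _ _).eq.symm)
    obtain ⟨n, hn⟩ := pP.index (ψ.range.subgroupOf (D.comap ρ))
    have hd : ψ.range.relIndex (D.comap ρ) ∣ ψ.range.index := relIndex_dvd_index_of_le le
    have h1 : ψ.range.relIndex (D.comap ρ) = 1 := by
      have ho := M.odd.of_dvd_nat hd
      rw [relIndex, hn] at ho ⊢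
      rcases n with _ | n
      · rfl
      · exact absurd ho (by rw [Nat.not_odd_iff_even, pow_succ]; exact (even_two).mul_left _)
    exact fun g hg => relIndex_eq_one.1 h1 hg
  obtain ⟨φ, hφ, ⟨g, hg⟩, hJ⟩ := qa_perm ρ.range ⟨_, k3⟩ (by
    rintro _ ⟨g, rfl⟩ e
    obtain ⟨s, rfl⟩ := k5 g (Or.inr e)
    obtain ⟨i, hi⟩ := k4 s
    rw [hi] at e
    exact qa_d6 i e) (by
    by_contra h
    push Not at h
    refine M.not_normal ?_
    rw [show ψ.range = ⊤ from eq_top_iff.2 fun g _ => k5 g (Or.inl (h _ ⟨g, rfl⟩))]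
    infer_instance)
  obtain ⟨f5, f1, fc, fv1, fv2⟩ := qa_d4 φ hφ
  haveI : Fact (Nat.Prime 5) := ⟨by norm_num⟩
  obtain ⟨m, hm⟩ := pK ⟨g ^ 5, by rw [MonoidHom.mem_ker, map_pow, hg, f5]⟩
  have hm : (g ^ 5) ^ 2 ^ m = 1 := congrArg Subtype.val hm
  have hf : ρ (g ^ 16 ^ m) = φ := by
    rw [map_pow, hg, ← pow_mod_orderOf, orderOf_eq_prime f5 f1, Nat.pow_mod]
    simp
  have h5 : (g ^ 16 ^ m) ^ 5 = 1 := by
    rw [← pow_mul, mul_comm, pow_mul, show (16 : ℕ) ^ m = 2 ^ m * 8 ^ m by rw [← mul_pow]; rfl, pow_mul, hm, one_pow]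
  generalize g ^ 16 ^ m = f at hf h5
  have ord : orderOf f = 5 := orderOf_eq_prime h5 fun e => f1 (by rw [← hf, e, map_one])
  refine ⟨f, ord, fun g => ?_, fun s => ?_, fun x hx y a h => ?_⟩
  · obtain ⟨j, k, e⟩ := hJ _ ⟨g, rfl⟩
    obtain ⟨q, -, hq⟩ := k1 (show (f ^ j * ψ (y8 1 0 ^ k))⁻¹ * g ∈ ρ.ker by
      rw [MonoidHom.mem_ker, map_mul, map_inv, map_mul, map_pow, map_pow, map_pow, hf, k3, e, inv_mul_cancel])
    exact ⟨j, y8 1 0 ^ k * q, by rw [map_mul, hq]; group⟩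
  · obtain ⟨i, hi⟩ := k4 s
    obtain ⟨k, hk⟩ := fc i
    obtain ⟨_, ⟨q, hq, rfl⟩, e⟩ := conj_of_coset (A := Q.map ψ) pQ (x := ψ s * f * (ψ s)⁻¹) (y := f ^ k.1)
      (TO.odd_conj (by rw [ord]; decide) _) ((show Odd (orderOf f) by rw [ord]; decide).of_dvd_nat (orderOf_pow_dvd _))
      (fun a ha => Normal.conj_mem inferInstance a ha _) (k1 (by
        rw [MonoidHom.mem_ker, map_mul, map_inv, map_mul, map_mul, map_inv, map_pow, hf, hi, hk]; group))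
    exact ⟨q, hq, k, by rw [← e, map_mul]; group⟩
  · have e := (qa_eq hK hx (a.mem M.inj (qa_nQ f) hx)).1 h
    rw [qa_F hx]
    rcases qa_d7 (qa_cv x) with ⟨i, h⟩ | ⟨i, j, h⟩
    · exact (fv1 i (by rw [← hf, ← hρ f i x hx y a h, e, h])).elim
    · rw [h]
      exact fv2 i j (by rw [← hf, ← h2 f i j x hx y a h, e, h])

theorem auto_lemmas_ofsqa : True := by
  have := @qa_c.eq_1
  have := @qa_f1.eq_1
  have := @qa_f2.eq_1
  have := @qa_v.eq_1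
  have := @qa_b.eq_1.{0}
  have := @qa_cv.eq_1.{0}
  trivial

end H78.Ofs
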