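import Mathlib
import Cfsg.Agent.Lib.Ofs.OC
import Cfsg.Agent.Lib.Oct.Bit

/-!
# The model at `Q` for `q = 2`: the Weyl element (OFS QB)
-/

set_option autoImplicit false
set_option linter.unusedSectionVars false
set_option linter.unnecessarySeqFocus false

namespace H78.Ofs

open H78.Oct H78.Oct.Co Subgroup
open H93.SX (Cj nr)
open scoped commutatorElement

variable {K G : Type*} [Field K] [Tits K] [Finite K] [Group G] [Finite G] {ψ : Co K →* G}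
  {H : Subgroup (MulAut (Co K))}


theorem qb_F (hK : ∀ x : K, x = 0 ∨ x = 1) {x y : Co K} (hx : x ∈ (F : Subgroup (Co K)))
    (hy : y ∈ (F : Subgroup (Co K))) : x * y = y * x := by
  simp only [mem_F] at hx hy
  rcases hK x.a4 with e | e <;> rcases hK y.a4 with e' | e' <;> ext <;> simp [hx, hy, e, e'] <;> grind

theorem qb_A {d : Co K} (hd : d ∈ (F : Subgroup (Co K))) (h : d.a4 = 1) :
    ∃ p ∈ (Q : Subgroup (Co K)), ∃ b, p * d * p⁻¹ = y4 1 b := by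
  simp only [mem_F] at hd
  refine ⟨⟨d.b2, d.a3, 0, 0, 0, 0, 0, d.a5, 0, d.b6, 0, 0⟩, by simp,
    d.b4 + d.a5 * d.a3 + d.b6 * d.b2, mul_inv_eq_iff_eq_mul.2 ?_⟩
  ext <;> simp [hd, h] <;> grind

theorem qb_B {q : Co K} (hq : q ∈ (Q : Subgroup (Co K))) {a b c : K} (h : q * y4 1 b = y4 a c * q) :
    q ∈ (F : Subgroup (Co K)) := by
  simp only [mem_Q] at hq
  have e0 := congrArg Co.a4 h
  have e1 := congrArg Co.b2 h
  have e2 := congrArg Co.a3 h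
  have e3 := congrArg Co.a5 h
  have e4 := congrArg Co.b6 h
  simp [hq] at e0 e1 e2 e3 e4
  simp only [mem_F]
  grind

theorem qb_pow (hK : ∀ x : K, x = 0 ∨ x = 1) (a b c : K) : ∃ n : ℕ, y4 a b = y4 1 c ^ n := by
  have h2 : (y4 1 c : Co K) ^ 2 = y4 0 1 := by
    rw [sq]; ext <;> simp [CharTwo.add_self_eq_zero] <;> grind
  rcases hK a with rfl | rfl
  · rcases hK b with rfl | rfl
    · exact ⟨0, by ext <;> simp⟩
    · exact ⟨2, h2.symm⟩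
  · rcases hK (b + c) with e | e
    · exact ⟨1, by ext <;> simp <;> grind⟩
    · exact ⟨3, by rw [pow_succ, h2]; ext <;> simp <;> grind⟩

theorem qb_84 (a b c d : K) : y8 a b * y4 c d = y4 c d * y8 a b := by ext <;> simp

theorem qb_87 (a b c : K) : y8 a b * x7 c = x7 c * y8 a b := by ext <;> simp

theorem qb_88 (hK : ∀ x : K, x = 0 ∨ x = 1) (a b c d : K) : y8 a b * y8 c d = y8 c d * y8 a b := by
  rcases hK a with rfl | rfl <;> rcases hK c with rfl | rfl <;> ext <;> simp <;> grind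

theorem qb_C {q : Co K} (hq : q ∈ (F : Subgroup (Co K))) : ∃ e ∈ (E : Subgroup (Co K)), ∃ a b,
    e * (q * y8 1 0) * e⁻¹ = y2 0 q.b2 * y4 a b * y8 1 0 := by
  simp only [mem_F] at hq
  refine ⟨⟨0, 0, q.a3, q.a3 + q.a5, 0, 0, q.a3 + q.b6, 0, 0, 0, 0, 0⟩, by simp, q.a4,
    q.b4 + σ (q.a3 + q.a5), mul_inv_eq_iff_eq_mul.2 ?_⟩
  ext <;> simp [hq] <;> grind

theorem qb_D (c a b : K) : (y2 0 c * y4 a b * y8 1 0) ^ 4 ∈ (Q : Subgroup (Co K)) ∧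
    ((y2 0 c * y4 a b * y8 1 0) ^ 4).b6 = c := by
  have e : y2 0 c * y4 a b * y8 1 0 = (⟨0, 0, c, 0, a, b, 0, 0, 0, 0, 1, 0⟩ : Co K) := by
    ext <;> simp
  have e2 : (⟨0, 0, c, 0, a, b, 0, 0, 0, 0, 1, 0⟩ : Co K) ^ 2 =
      ⟨0, 0, 0, c, 0, a * σ a, c, 0, c, 0, 0, 1⟩ := by
    rw [sq]; ext <;> simp <;> grind
  rw [e, show 4 = 2 * 2 from rfl, pow_mul, e2, sq]
  refine ⟨?_, ?_⟩ <;> simp <;> grind

/-- the involutions of `Q ⊓ R` outside `F` -/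
theorem qb_E (hK : ∀ x : K, x = 0 ∨ x = 1) {x : Co K} (hx : x ∈ (Q : Subgroup (Co K))) (h : x * x = 1)
    (n : x ∉ (F : Subgroup (Co K))) (h1 : x.a1 = 0) : x * (x7 1)⁻¹ ∈ (F : Subgroup (Co K)) := by
  have r := inv_R h h1
  rcases inv_M2 h ⟨h1, r.2.1, hx.1, hx.2⟩ with k | k
  · exact absurd ⟨k.1, k.2.1, k.2.2.2.1, k.2.2.2.2⟩ n
  · simp only [mem_J3] at k
    have e : x.a7 = 1 := (hK _).resolve_left fun e => n (by simp [k, e])
    simp [k, e, CharTwo.add_self_eq_zero]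

theorem qb_G {x y : Co K} (hx : x ∈ (Q : Subgroup (Co K)))
    (e : y8 0 1 * x * (y8 0 1)⁻¹ = y) (h : y * x⁻¹ ∈ (F : Subgroup (Co K))) : x.a1 = 0 := by
  subst e
  have := h.2.2.1
  simp [hx.1, hx.2] at this
  grind

theorem qb_H {q : Co K} (hq : q ∈ (Q : Subgroup (Co K))) :
    (x1 1)⁻¹ * (q * x1 1 * q⁻¹) ∈ (F : Subgroup (Co K)) := by
  simp only [mem_F]
  and_intros <;> simp [hq.1, hq.2] <;> grind

theorem Fv.qb_cj {f : G} (h : Fv ψ f) (p : Co K) : Fv ψ (ψ p * f * (ψ p)⁻¹) := by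
  refine ⟨?_, fun g => ?_, fun s => ?_, fun x hx y c hy => ?_⟩
  · exact ((MulAut.conj (ψ p)).orderOf_eq f).trans h.ord
  · obtain ⟨j, s, e⟩ := h.dec ((ψ p)⁻¹ * g)
    exact ⟨j, p * s, by rw [conj_pow, map_mul, mul_assoc, inv_mul_cancel_left, mul_assoc, ← e,
      mul_inv_cancel_left]⟩
  · obtain ⟨q, hq, k, e⟩ := h.nrm (p⁻¹ * s * p)
    refine ⟨p * q * p⁻¹, normal_Q.conj_mem q hq p, k, ?_⟩
    rw [conj_pow, ← e]
    simp only [map_mul, map_inv]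
    group
  · have c' : Cj ψ f (p⁻¹ * x * p⁻¹⁻¹) (p⁻¹ * y * p⁻¹⁻¹) := by
      unfold Cj at c ⊢
      simp only [map_mul, map_inv]
      rw [← c]; group
    have k := h.fpf _ (normal_Q.conj_mem x hx _) _ c' (by
      have := normal_F.conj_mem _ hy p⁻¹
      convert this using 1; group)
    have := normal_F.conj_mem _ k p
    convert this using 1; group

section
variable [(Q.map ψ).Normal]

theorem qb_nQ (g : G) : g ∈ nr ψ Q := by
  change g ∈ normalizer _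
  rw [normalizer_eq_top]; trivial

theorem qb_nF (M : Md ψ Q) (g : G) : g ∈ nr ψ F := by
  have := M.normal_of (A := F) (fun x hx => ⟨hx.2.2.2.2.1, hx.2.2.2.2.2⟩) fun _ => au_F
  change g ∈ normalizer _
  rw [normalizer_eq_top]; trivial

theorem qb_nE (M : Md ψ Q) (g : G) : g ∈ nr ψ E := by
  have := M.normal_of (A := E) (fun x hx => ⟨hx.2.2.2.2.2.1, hx.2.2.2.2.2.2⟩) fun _ => au_E
  change g ∈ normalizer _
  rw [normalizer_eq_top]; trivial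

theorem qb_step (hK : ∀ x : K, x = 0 ∨ x = 1) (M : Md ψ Q) (g : G) {d : Co K}
    (h : d ∈ (F : Subgroup (Co K)) ∧ d.a4 = 1) :
    ∃ d', (d' ∈ (F : Subgroup (Co K)) ∧ d'.a4 = 1) ∧ Cj ψ g d d' := by
  obtain ⟨d', h', c⟩ := H93.SX.nr_cj (qb_nF M g) h.1
  refine ⟨d', ⟨h', (hK _).resolve_left fun e => ?_⟩, c⟩
  have k := c.mem' M.inj (qb_nE M g) ⟨h'.1, h'.2.1, e, h'.2.2⟩
  exact one_ne_zero (h.2.symm.trans k.2.2.1)

/-- the centraliser of `f` in `Q` -/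
theorem qb_cen (hK : ∀ x : K, x = 0 ∨ x = 1) (M : Md ψ Q) {f : G} (h : Fv ψ f)
    (h4 : Cj ψ f (y4 1 0) (y4 1 0)) {x : Co K} (hx : x ∈ (Q : Subgroup (Co K))) (c : Cj ψ f x x) :
    ∃ a b, x = y4 a b := by
  have k : ∀ d ∈ (F : Subgroup (Co K)), d.a4 = 1 → Cj ψ f d d → ∃ b, d = y4 1 b := by
    intro d hd h1 c
    obtain ⟨p, hp, b, e⟩ := qb_A hd h1
    obtain ⟨p', hp', cp⟩ := H93.SX.nr_cj (qb_nQ (ψ := ψ) f) hp
    obtain ⟨n, hn⟩ := qb_pow hK 1 b 0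
    have c1 := (cp.mul c).mul cp.inv
    have c2 := h4.pow n
    rw [← hn] at c2
    rw [e] at c1
    have e2 := c1.uniq M.inj c2
    have pF := h.fpf p hp p' cp (qb_B (mul_mem hp' (inv_mem hp)) (a := 1) (b := b) (c := b) (by
      nth_rewrite 1 [← e]
      rw [← e2]; group))
    exact ⟨b, by rw [← e, qb_F hK pF hd, mul_inv_cancel_right]⟩
  have xF := h.fpf x hx x c (by rw [mul_inv_cancel]; exact one_mem _)
  rcases hK x.a4 with e | e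
  · obtain ⟨b, hb⟩ := k (y4 1 0 * x) (mul_mem (by simp) xF) (by simp [e]) (h4.mul c)
    refine ⟨0, b, ?_⟩
    rw [eq_inv_mul_iff_mul_eq.2 hb]
    ext <;> simp <;> grind
  · obtain ⟨b, hb⟩ := k x xF e c
    exact ⟨1, b, hb⟩

end

theorem qb_iter {y f : G} {k : ℕ} (h : y * f * y⁻¹ = f ^ k) (a : ℕ) :
    y ^ a * f * (y ^ a)⁻¹ = f ^ k ^ a := by
  induction a with
  | zero => simp
  | succ n ih => rw [pow_succ k, pow_mul, ← ih, conj_pow, ← h]; group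

theorem qb_k {y f : G} (o : orderOf f = 5) {k : ℕ} (h : y * f * y⁻¹ = f ^ k) : k % 5 ≠ 0 := fun e => by
  rw [← pow_mod_orderOf, o, e, pow_zero, conj_eq_one_iff] at h
  rw [h, orderOf_one] at o
  omega

theorem Fv.norm [(Q.map ψ).Normal] (hK : ∀ x : K, x = 0 ∨ x = 1) (M : Md ψ Q) {f : G} (h : Fv ψ f) :
    ∃ f, Fv ψ f ∧ Cj ψ f (y4 1 0) (y4 1 0) ∧ ∃ k : ℕ, ψ (y8 1 0) * f * (ψ (y8 1 0))⁻¹ = f ^ k := by
  obtain ⟨f, h, h4⟩ : ∃ f, Fv ψ f ∧ Cj ψ f (y4 1 0) (y4 1 0) := by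
    have m0 : (y4 1 0 : Co K) ∈ (F : Subgroup (Co K)) ∧ (y4 1 0 : Co K).a4 = 1 := by simp
    obtain ⟨d1, m1, c1⟩ := qb_step hK M f m0
    obtain ⟨d2, m2, c2⟩ := qb_step hK M f m1
    obtain ⟨d3, m3, c3⟩ := qb_step hK M f m2
    obtain ⟨d4, m4, c4⟩ := qb_step hK M f m3
    obtain ⟨d5, -, c5⟩ := qb_step hK M f m4
    have c := c5.trans (c4.trans (c3.trans (c2.trans c1)))
    rw [show f * (f * (f * (f * f))) = 1 by
      rw [← pow_orderOf_eq_one f, h.ord]; simp only [pow_succ', pow_zero, mul_one]] at c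
    rw [c.uniq M.inj H93.SX.Cj.one] at c5
    have m := mul_mem (mul_mem (mul_mem m1.1 m2.1) m3.1) m4.1
    have cd := c1.mul (((c2.mul c3).mul c4).mul c5)
    rw [show d1 * (d2 * d3 * d4 * y4 1 0) = d1 * d2 * d3 * d4 * y4 1 0 by group, qb_F hK m m0.1] at cd
    obtain ⟨p, -, b, e⟩ := qb_A (mul_mem m0.1 m) (by
      have := m1.1; have := m2.1; have := m3.1; have := m4.1
      simp only [mem_F] at *
      simp [*]
      grind)
    obtain ⟨n, hn⟩ := qb_pow hK 1 0 b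
    have c' := (((H93.SX.Cj.self p _).trans cd).trans (H93.SX.Cj.self p _).symm).pow n
    rw [e, ← hn] at c'
    exact ⟨_, h.qb_cj p, c'⟩
  obtain ⟨q, hq, k, e⟩ := h.nrm (y8 1 0)
  have hk : ∀ n : ℕ, Cj ψ (f ^ n) (y4 1 0) (y4 1 0) := fun n => by
    induction n with
    | zero => rw [pow_zero]; exact H93.SX.Cj.one
    | succ n ih => rw [pow_succ]; exact ih.trans h4
  have qF : q ∈ (F : Subgroup (Co K)) := by
    obtain ⟨a, b, e'⟩ := qb_cen hK M h h4 (x := (q * y8 1 0)⁻¹ * y4 1 0 * (q * y8 1 0)⁻¹⁻¹)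
      (normal_Q.conj_mem _ (by simp) _) (by
        have c := hk k
        unfold Cj at c ⊢
        rw [← e] at c
        rw [map_mul, map_mul, map_inv, map_inv, map_inv]
        nth_rewrite 2 [← c]
        group)
    refine inv_mem_iff.1 (qb_B (inv_mem hq) (a := a) (b := 0) (c := b) ?_)
    calc _ = y8 1 0 * ((q * y8 1 0)⁻¹ * y4 1 0 * (q * y8 1 0)⁻¹⁻¹) * (y8 1 0)⁻¹ * q⁻¹ := by group
      _ = _ := by rw [e', qb_84, mul_inv_cancel_right]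
  obtain ⟨u, hu, a, b, eu⟩ := qb_C qF
  have h' := h.qb_cj u
  have h4' : Cj ψ (ψ u * f * (ψ u)⁻¹) (y4 1 0) (y4 1 0) := by
    have c := H93.SX.Cj.self (ι := ψ) u (y4 1 0)
    rw [← co_FE hu, mul_inv_cancel_right] at c
    exact (c.trans h4).trans c.symm
  have e' : ψ (y2 0 q.b2 * y4 a b * y8 1 0) * (ψ u * f * (ψ u)⁻¹) * (ψ (y2 0 q.b2 * y4 a b * y8 1 0))⁻¹ =
      (ψ u * f * (ψ u)⁻¹) ^ k := by
    rw [conj_pow, ← e, ← eu, map_mul, map_mul ψ u, map_inv]; group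
  generalize ψ u * f * (ψ u)⁻¹ = f' at h' h4' e'
  have b0 : q.b2 = 0 := by
    have i := qb_iter e' 4
    have k5 := qb_k h'.ord e'
    rw [← pow_mod_orderOf f', h'.ord, show k ^ 4 % 5 = 1 by
      rw [Nat.pow_mod]
      have : k % 5 < 5 := Nat.mod_lt _ (by norm_num)
      interval_cases k % 5 <;> simp_all, pow_one, ← map_pow] at i
    obtain ⟨a', b', e4⟩ := qb_cen hK M h' h4' (qb_D q.b2 a b).1 (by
      unfold Cj
      rw [mul_inv_eq_iff_eq_mul] at i ⊢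
      exact i.symm)
    have := (qb_D q.b2 a b).2
    rw [e4] at this
    exact this.symm
  refine ⟨f', h', h4', k, ?_⟩
  rw [b0, show (y2 0 0 : Co K) = 1 from rfl, one_mul, ← qb_84, map_mul] at e'
  obtain ⟨n, hn⟩ := qb_pow hK a b 0
  have c := h4'.pow n
  rw [← hn] at c
  unfold Cj at c
  rw [← e']
  nth_rewrite 1 [← c]
  group

theorem exists_n2 [(Q.map ψ).Normal] (hK : ∀ x : K, x = 0 ∨ x = 1) (M : Md ψ Q) {f : G} (h : Fv ψ f)
    (h4 : Cj ψ f (y4 1 0) (y4 1 0)) {k : ℕ} (h8 : ψ (y8 1 0) * f * (ψ (y8 1 0))⁻¹ = f ^ k) :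
    ∃ n : G, n * n = 1 ∧ (∃ e, n * ψ (y8 0 1) * n = ψ (y8 1 (e + 1)) * n * ψ (y8 1 e)) ∧
      Cj ψ n (y4 1 0) (y4 1 0) ∧ (∃ u ∈ (F : Subgroup (Co K)), Cj ψ n (x7 1) (x1 1 * u)) ∧
      ∀ g, g ∈ ψ.range ∨ ∃ s s', g = ψ s * n * ψ s' := by
  have yy : (y8 1 0 : Co K) ^ 2 = y8 0 1 := by rw [sq]; ext <;> simp [CharTwo.add_self_eq_zero]
  have zz : (y8 0 1 : Co K) * y8 0 1 = 1 := by ext <;> simp [CharTwo.add_self_eq_zero]
  have yi : (y8 1 0 : Co K)⁻¹ = y8 1 1 := by ext <;> simp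
  have xx : (x7 1 : Co K) * x7 1 = 1 := by ext <;> simp [CharTwo.add_self_eq_zero]
  have xQ : (x7 1 : Co K) ∈ (Q : Subgroup (Co K)) := by simp
  have xF : (x7 1 : Co K) ∉ (F : Subgroup (Co K)) := by simp
  have z2 : ψ (y8 0 1) * ψ (y8 0 1) = 1 := by rw [← map_mul, zz, map_one]
  have cz : Cj ψ (ψ (y8 0 1)) (x7 1) (x7 1) := by
    have c := H93.SX.Cj.self (ι := ψ) (y8 0 1) (x7 1)
    rwa [qb_87, mul_inv_cancel_right] at c
  -- the images of `x7 1`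
  have im : ∀ g : G, ∃ x ∈ (Q : Subgroup (Co K)), Cj ψ g (x7 1) x ∧ x * x = 1 ∧
      x ∉ (F : Subgroup (Co K)) := fun g => by
    obtain ⟨x, hx, c⟩ := H93.SX.nr_cj (qb_nQ (ψ := ψ) g) xQ
    refine ⟨x, hx, c, ?_, fun e => xF (c.mem' M.inj (qb_nF M g) e)⟩
    have c2 := c.mul c
    rw [xx] at c2
    refine M.inj ?_
    rw [← c2, map_one, mul_one, mul_inv_cancel]
  -- `f z f⁻¹` moves the coset of `x7 1`
  have mv : ∀ x, Cj ψ (f * ψ (y8 0 1) * f⁻¹) (x7 1) x → x * (x7 1)⁻¹ ∉ (F : Subgroup (Co K)) := by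
    intro x c hF
    obtain ⟨w, hw, cw, w2, wF⟩ := im f⁻¹
    have cw' : Cj ψ f w (x7 1) := by simpa using cw.symm
    have c1 : Cj ψ f (y8 0 1 * w * (y8 0 1)⁻¹) x := by
      unfold Cj at c cw' ⊢
      rw [← c, ← cw', map_mul, map_mul, map_inv]; group
    have k1 := (c1.mul cw'.inv).mem' M.inj (qb_nF M f) hF
    have k2 := qb_E hK hw w2 wF (qb_G hw rfl k1)
    exact wF (h.fpf w hw _ cw' (by simpa using inv_mem k2))
  have k0 := qb_k h.ord h8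
  have i2 := qb_iter h8 2
  rw [← map_pow, yy, ← pow_mod_orderOf f, h.ord, Nat.pow_mod] at i2
  have k23 : k % 5 = 2 ∨ k % 5 = 3 := by
    by_contra c
    have c' : k % 5 = 1 ∨ k % 5 = 4 := by omega
    have i3 : ψ (y8 0 1) * f * (ψ (y8 0 1))⁻¹ = f := by
      rcases c' with e | e <;> rw [i2, e] <;> norm_num
    refine mv (x7 1) ?_ (by rw [mul_inv_cancel]; exact one_mem _)
    rwa [← mul_inv_eq_iff_eq_mul.1 i3, mul_inv_cancel_right]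
  have f5 : f ^ 5 = 1 := by rw [← h.ord, pow_orderOf_eq_one]
  have zf : ψ (y8 0 1) * f * (ψ (y8 0 1))⁻¹ = f⁻¹ := by
    rw [i2, eq_inv_iff_mul_eq_one, ← f5]
    rcases k23 with e | e <;> rw [e] <;> norm_num <;> group
  have e0 : f * ψ (y8 0 1) * f⁻¹ = f ^ 2 * ψ (y8 0 1) := by
    calc _ = f * (ψ (y8 0 1) * f * (ψ (y8 0 1))⁻¹)⁻¹ * ψ (y8 0 1) := by group
      _ = _ := by rw [zf, inv_inv, sq]
  have yz : ∀ a b, ψ (y8 a b) * ψ (y8 0 1) = ψ (y8 0 1) * ψ (y8 a b) := fun a b => by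
    rw [← map_mul, qb_88 hK, map_mul]
  have rel : ∃ e, f ^ 4 * ψ (y8 0 1) = ψ (y8 1 (e + 1)) * (f ^ 2 * ψ (y8 0 1)) * ψ (y8 1 e) := by
    have pw : ∀ n : ℕ, ψ (y8 1 0) * f ^ n * (ψ (y8 1 0))⁻¹ = f ^ (k % 5 * n % 5) := fun n => by
      rw [← conj_pow, h8, ← pow_mul, ← pow_mod_orderOf f, h.ord, Nat.mod_mul_mod]
    rcases k23 with e | e
    · refine ⟨1, ?_⟩
      have := pw 2
      rw [e] at this
      rw [CharTwo.add_self_eq_zero, ← yi, map_inv, ← this, mul_assoc _ _ (ψ (y8 0 1)),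
        (Commute.inv_left (yz 1 0)).eq]
      group
    · refine ⟨0, ?_⟩
      have := pw 4
      rw [e] at this
      rw [zero_add, ← yi, map_inv, ← this, mul_assoc, mul_assoc, mul_assoc, mul_assoc, ← yz]
      group
  obtain ⟨x, hx, cx, x2, xF'⟩ := im (f * ψ (y8 0 1) * f⁻¹)
  have x1' : x.a1 = 1 := (hK _).resolve_left fun e => mv x cx (qb_E hK hx x2 xF' e)
  obtain ⟨s, hs⟩ := conj_x1' x2 (x1' ▸ one_ne_zero)
  rw [x1'] at hs
  have c4 : Cj ψ (f * ψ (y8 0 1) * f⁻¹) (y4 1 0) (y4 1 0) := by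
    have c := H93.SX.Cj.self (ι := ψ) (y8 0 1) (y4 1 0)
    rw [qb_84, mul_inv_cancel_right] at c
    exact (h4.trans c).trans h4.symm
  have n2 : f * ψ (y8 0 1) * f⁻¹ * (f * ψ (y8 0 1) * f⁻¹) = 1 := by
    rw [conj_mul, z2, mul_one, mul_inv_cancel]
  have br : ∀ j : ℕ, j % 5 ≠ 0 → ∃ a : ℕ, f ^ j = ψ (y8 1 0) ^ a * f ^ 2 * (ψ (y8 1 0) ^ a)⁻¹ := by
    intro j hj
    obtain ⟨a, ha⟩ : ∃ a : ℕ, j % 5 = ((k % 5) ^ a % 5 * 2) % 5 := by
      have : j % 5 = 1 ∨ j % 5 = 2 ∨ j % 5 = 3 ∨ j % 5 = 4 := by omega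
      rcases k23 with e | e <;> rw [e] <;> rcases this with e | e | e | e <;> rw [e]
      exacts [⟨3, rfl⟩, ⟨0, rfl⟩, ⟨2, rfl⟩, ⟨1, rfl⟩, ⟨1, rfl⟩, ⟨0, rfl⟩, ⟨2, rfl⟩, ⟨3, rfl⟩]
    refine ⟨a, ?_⟩
    rw [← conj_pow, qb_iter h8 a, ← pow_mul, pow_eq_pow_iff_modEq, h.ord, Nat.ModEq, ha,
      ← Nat.pow_mod, Nat.mod_mul_mod]
  rw [e0] at cx c4 n2
  have nzn : f ^ 2 * ψ (y8 0 1) * ψ (y8 0 1) * (f ^ 2 * ψ (y8 0 1)) = f ^ 4 * ψ (y8 0 1) := by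
    rw [mul_assoc (f ^ 2), z2]; group
  have f2 : f ^ 2 = f ^ 2 * ψ (y8 0 1) * ψ (y8 0 1) := by rw [mul_assoc, z2, mul_one]
  generalize f ^ 2 * ψ (y8 0 1) = n at *
  have sQ : (y8 s.a8 s.b8)⁻¹ * s ∈ (Q : Subgroup (Co K)) := by
    simp only [mem_Q]
    and_intros <;> simp <;> grind
  generalize s.a8 = a at sQ
  generalize s.b8 = b at sQ
  have r4 : Cj ψ (ψ (y8 a b)) (y4 1 0) (y4 1 0) := by
    have c := H93.SX.Cj.self (ι := ψ) (y8 a b) (y4 1 0)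
    rwa [qb_84, mul_inv_cancel_right] at c
  have r7 : Cj ψ (ψ (y8 a b)) (x7 1) (x7 1) := by
    have c := H93.SX.Cj.self (ι := ψ) (y8 a b) (x7 1)
    rwa [qb_87, mul_inv_cancel_right] at c
  have rc : ∀ c d, ψ (y8 a b) * ψ (y8 c d) * (ψ (y8 a b))⁻¹ = ψ (y8 c d) := fun c d => by
    rw [← map_mul, qb_88 hK, map_mul, mul_inv_cancel_right]
  refine ⟨(ψ (y8 a b))⁻¹ * n * ψ (y8 a b), ?_, ?_, (r4.symm.trans c4).trans r4,
    ⟨_, qb_H sQ, ?_⟩, fun g => ?_⟩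
  · calc _ = (ψ (y8 a b))⁻¹ * (n * n) * ψ (y8 a b) := by group
      _ = 1 := by rw [n2]; group
  · obtain ⟨e, he⟩ := rel
    refine ⟨e, ?_⟩
    calc _ = (ψ (y8 a b))⁻¹ * (n * (ψ (y8 a b) * ψ (y8 0 1) * (ψ (y8 a b))⁻¹) * n) * ψ (y8 a b) := by group
      _ = (ψ (y8 a b))⁻¹ * ((ψ (y8 a b) * ψ (y8 1 (e + 1)) * (ψ (y8 a b))⁻¹) * n *
          (ψ (y8 a b) * ψ (y8 1 e) * (ψ (y8 a b))⁻¹)) * ψ (y8 a b) := by rw [rc, rc, rc, nzn, he]
      _ = _ := by group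
  · have c := ((H93.SX.Cj.self (ι := ψ) (y8 a b)⁻¹ x).trans cx).trans r7
    rw [map_inv] at c
    convert c using 1
    rw [← hs]; group
  · obtain ⟨j, t, rfl⟩ := h.dec g
    by_cases hj : j % 5 = 0
    · left
      rw [← pow_mod_orderOf f, h.ord, hj, pow_zero, one_mul]
      exact ⟨t, rfl⟩
    · obtain ⟨m, hm⟩ := br j hj
      refine Or.inr ⟨y8 1 0 ^ m * y8 a b, (y8 a b)⁻¹ * y8 0 1 * (y8 1 0 ^ m)⁻¹ * t, ?_⟩
      rw [hm, f2]
      simp only [map_mul, map_inv, map_pow]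
      group

end H78.Ofs
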