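import Mathlib
import Cfsg.Agent.Lib.Ofs.Def2
import Cfsg.Agent.Lib.Oct.AM2

/-!
# The case `q = 2`: normalising the two Weyl elements (OFS QC)
-/

set_option autoImplicit false
set_option linter.unusedSectionVars false

namespace H78.Ofs

open H78.Oct H78.Oct.Co Subgroup
open H93.SX (Cj nr)

/-- A second family of automorphisms of the Sylow 2-subgroup for `q = 2`. -/
def chi {A : Type*} [Mul A] [Zero A] [One A] [Mul (Co A)] (e f : A) (x : Co A) : Co A :=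
  sel x.a1 ⟨1, 0, 0, 0, 0, f, e, 0, 0, 0, 0, 0⟩ * sel x.a2 ⟨0, 1, 0, 0, 0, e, 0, 0, e, 0, 0, 0⟩ *
    ⟨0, 0, x.b2, x.a3, x.a4, x.b4, x.a5, x.a6, x.b6, x.a7, x.a8, x.b8⟩

variable {K G : Type*} [Field K] [Tits K] [Finite K] [Group G] [Finite G] {ψ : Co K →* G} {n : G}

theorem ev_chi {N : ℕ} {i : Ix N} (e f : Bs N) (x : Co (Bs N)) :
    bev K i (chi e f x) = chi (pi K i e) (pi K i f) (bev K i x) := by
  simp only [chi, ev_mul', ev_sel, ev_mk, pi_zero, pi_one]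
  rfl

namespace QC

/-- `chi` is multiplicative at `g`. -/
def ok (x y g : Co (Bs 16)) : Bs 16 :=
  eqB (chi (vr 16 12) (vr 16 13) (g * x)) (chi (vr 16 12) (vr 16 13) g * y)

/-- Elements of `U₄` are fixed. -/
def Rl (x y : Co K) : Prop := x = y4 x.a4 x.b4 → y = x

/-- The same for truth tables. -/
def rlB {N : ℕ} (x y : Co (Bs N)) : Bs N := fc x fun x => impB (eqB x (by4 x.a4 x.b4)) (eqB y x)

theorem tr_rl {N : ℕ} {i : Ix N} (x y : Co (Bs N)) : Tr K i (rlB x y) ↔ Rl (bev K i x) (bev K i y) := by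
  simp only [rlB, Rl, fc_eq, tr_imp, tr_eqB, ev_by4, pi_a4, pi_b4]

variable (hK : ∀ x : K, x = 0 ∨ x = 1)
include hK

theorem roots (e f s u : K) (x : Co K) : ∀ g ∈ [x1 s, y2 s u, x3 s, y4 s u, x5 s, y6 s u, x7 s, y8 s u],
    chi e f (g * x) = chi e f g * chi e f x := by
  obtain ⟨i, rfl, h⟩ := exists_gen hK 16 (by decide) x fun j => [e, f, s, u].getD (j - 12) 0
  obtain rfl : pi K i (vr 16 12) = e := h 12 (by decide) (by decide)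
  obtain rfl : pi K i (vr 16 13) = f := h 13 (by decide) (by decide)
  obtain rfl : pi K i (vr 16 14) = s := h 14 (by decide) (by decide)
  obtain rfl : pi K i (vr 16 15) = u := h 15 (by decide) (by decide)
  have := Tr.of (K := K) (i := i) (x := fc (gen 16 0) fun x =>
    fc (chi (vr 16 12) (vr 16 13) x) fun y =>
    andB (ok x y (bx1 (vr 16 14))) <| andB (ok x y (by2 (vr 16 14) (vr 16 15))) <|
    andB (ok x y (bx3 (vr 16 14))) <| andB (ok x y (by4 (vr 16 14) (vr 16 15))) <|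
    andB (ok x y (bx5 (vr 16 14))) <| andB (ok x y (by6 (vr 16 14) (vr 16 15))) <|
    andB (ok x y (bx7 (vr 16 14))) (ok x y (by8 (vr 16 14) (vr 16 15)))) (by decide +kernel)
  simp only [fc_eq, ok, tr_and, tr_eqB, ev_chi, ev_mul', ev_bx1, ev_by2, ev_bx3, ev_by4, ev_bx5, ev_by6,
    ev_bx7, ev_by8] at this
  simpa only [List.forall_mem_cons, List.not_mem_nil, IsEmpty.forall_iff, implies_true, and_true] using this

theorem chi_mul (e f : K) (x y : Co K) : chi e f (x * y) = chi e f x * chi e f y := by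
  have mul : ∀ g h : Co K, (∀ y, chi e f (g * y) = chi e f g * chi e f y) →
      (∀ y, chi e f (h * y) = chi e f h * chi e f y) →
      ∀ y, chi e f (g * h * y) = chi e f (g * h) * chi e f y := fun g h hg hh y => by
    rw [mul_assoc, hg, hh, hg, mul_assoc]
  have r := roots hK e f
  rw [eq_prod x]
  exact mul _ _ (mul _ _ (mul _ _ (mul _ _ (mul _ _ (mul _ _ (mul _ _ (fun y => r x.a1 0 y _ (by simp))
    fun y => r x.a2 x.b2 y _ (by simp)) fun y => r x.a3 0 y _ (by simp)) fun y => r x.a4 x.b4 y _ (by simp))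
    fun y => r x.a5 0 y _ (by simp)) fun y => r x.a6 x.b6 y _ (by simp)) fun y => r x.a7 0 y _ (by simp))
    (fun y => r x.a8 x.b8 y _ (by simp)) y

theorem facts (e f : K) (x : Co K) : (chi e f x = 1 → x = 1) ∧ (chi e f x).a8 = x.a8 ∧
    (chi e f x).b8 = x.b8 ∧ (chi e f x).a1 = x.a1 ∧ (x.a1 = 0 → x.a2 = 0 → chi e f x = x) := by
  obtain ⟨i, rfl, h⟩ := exists_gen hK 14 (by decide) x fun j => [e, f].getD (j - 12) 0
  obtain rfl : pi K i (vr 14 12) = e := h 12 (by decide) (by decide)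
  obtain rfl : pi K i (vr 14 13) = f := h 13 (by decide) (by decide)
  have := Tr.of (K := K) (i := i) (x := fc (gen 14 0) fun x =>
    fc (chi (vr 14 12) (vr 14 13) x) fun y => andB (impB (eqB y 1) (eqB x 1)) <| andB (eqS y.a8 x.a8) <|
    andB (eqS y.b8 x.b8) <| andB (eqS y.a1 x.a1) <| impB (eqS x.a1 0) <| impB (eqS x.a2 0) (eqB y x))
    (by decide +kernel)
  simp only [fc_eq, tr_and, tr_imp, tr_eqB, tr_eqS, ev_chi, ev_one, pi_a1, pi_a2, pi_a8, pi_b8, pi_zero] at this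
  exact this

theorem key {e : K} {f u v1 v2 v3 : Co K} (hf : f ∈ F) (eu : u = x1 1 * f) (e1 : v1 = y8 1 e * u * (y8 1 e)⁻¹)
    (e2 : v2 = y8 0 1 * u * (y8 0 1)⁻¹) (e3 : v3 = y8 1 (e + 1) * u * (y8 1 (e + 1))⁻¹)
    (h1 : Rl (x7 1 * v2 * u * y4 1 0 * v2 * u * x7 1) (u * v3 * x7 1 * y4 1 0 * v3 * x7 1 * u))
    (h2 : Rl (x7 1 * x7 1) (u * u))
    (h3 : Rl (v3 * u * v3 * y4 1 0 * x7 1 * u * x7 1) (v2 * x7 1 * v2 * y4 1 0 * u * x7 1 * u)) :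
    e = 0 ∧ u = chi f.a5 f.b4 (x1 1) := by
  obtain ⟨i, h⟩ := exists_ix hK 7 fun j => [f.b2, f.a3, f.a4, f.b4, f.a5, f.b6, e].getD j 0
  obtain rfl : bev K i ⟨0, 0, vr 7 0, vr 7 1, vr 7 2, vr 7 3, vr 7 4, 0, vr 7 5, 0, 0, 0⟩ = f := by
    rw [ev_mk, pi_zero, h 0 (by decide), h 1 (by decide), h 2 (by decide), h 3 (by decide),
      h 4 (by decide), h 5 (by decide)]
    exact Co.ext hf.1.symm hf.2.1.symm rfl rfl rfl rfl rfl hf.2.2.1.symm rfl hf.2.2.2.1.symm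
      hf.2.2.2.2.1.symm hf.2.2.2.2.2.symm
  obtain rfl : pi K i (vr 7 6) = e := h 6 (by decide)
  subst eu e2 e3
  have := Tr.of (K := K) (i := i) (x :=
    fc ⟨0, 0, vr 7 0, vr 7 1, vr 7 2, vr 7 3, vr 7 4, 0, vr 7 5, 0, 0, 0⟩ fun f => fc (bx1 1 * f) fun u =>
    fc (by8 0 1 * u * (by8 0 1)⁻¹) fun v2 => fc (by8 1 (vr 7 6 + 1) * u * (by8 1 (vr 7 6 + 1))⁻¹) fun v3 =>
    impB (rlB (bx7 1 * v2 * u * by4 1 0 * v2 * u * bx7 1) (u * v3 * bx7 1 * by4 1 0 * v3 * bx7 1 * u)) <|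
    impB (rlB (bx7 1 * bx7 1) (u * u)) <|
    impB (rlB (v3 * u * v3 * by4 1 0 * bx7 1 * u * bx7 1) (v2 * bx7 1 * v2 * by4 1 0 * u * bx7 1 * u)) <|
    andB (eqS (vr 7 6) 0) (eqB u (chi f.a5 f.b4 (bx1 1)))) (by decide +kernel)
  simp only [fc_eq, tr_imp, tr_and, tr_eqB, tr_eqS, tr_rl, ev_mul', ev_inv, ev_chi, ev_bx1, ev_by4, ev_bx7,
    ev_by8, pi_zero, pi_one, pi_add, pi_a5, pi_b4] at this
  exact this h1 h2 h3

theorem genQ (X : Subgroup (Co K)) (h7 : x7 1 ∈ X) (h1 : x1 1 ∈ X) (h4 : y4 1 0 ∈ X)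
    (h2 : y8 0 1 * x1 1 * (y8 0 1)⁻¹ ∈ X) (h3 : y8 1 1 * x1 1 * (y8 1 1)⁻¹ ∈ X) : Q ≤ X := fun a ha => by
  have two : (1 : K) + 1 = 0 := CharTwo.add_self_eq_zero 1
  have g2 : y2 1 0 ∈ X := by
    convert mul_mem (mul_mem (mul_mem h7 h1) h4) h3 using 1
    ext <;> simp [two]
  have g6 : y6 1 0 ∈ X := by
    convert mul_mem (mul_mem (mul_mem h1 h7) h4) h2 using 1
    ext <;> simp [two]
  have e : a = sel a.a1 (x1 1) * sel a.a2 (y2 1 0) * sel a.b2 (y2 1 0 * y2 1 0) *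
      sel a.a3 (y4 1 0 * y2 1 0 * (y4 1 0)⁻¹ * (y2 1 0)⁻¹) * sel a.a4 (y4 1 0) * sel a.b4 (y4 1 0 * y4 1 0) *
      sel a.a5 (y4 1 0 * y6 1 0 * (y4 1 0)⁻¹ * (y6 1 0)⁻¹) * sel a.a6 (y6 1 0) * sel a.b6 (y6 1 0 * y6 1 0) *
      sel a.a7 (x7 1) := by
    obtain ⟨i, rfl, -⟩ := exists_gen hK 12 le_rfl a 0
    have := Tr.of (K := K) (i := i) (x := fc (gen 12 0) fun a => impB (eqS a.a8 0) <| impB (eqS a.b8 0) <|
      eqB a <| sel a.a1 (bx1 1) * sel a.a2 (by2 1 0) * sel a.b2 (by2 1 0 * by2 1 0) *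
      sel a.a3 (by4 1 0 * by2 1 0 * (by4 1 0)⁻¹ * (by2 1 0)⁻¹) * sel a.a4 (by4 1 0) *
      sel a.b4 (by4 1 0 * by4 1 0) * sel a.a5 (by4 1 0 * by6 1 0 * (by4 1 0)⁻¹ * (by6 1 0)⁻¹) *
      sel a.a6 (by6 1 0) * sel a.b6 (by6 1 0 * by6 1 0) * sel a.a7 (bx7 1)) (by decide +kernel)
    simp only [fc_eq, tr_imp, tr_eqB, tr_eqS, ev_mul', ev_inv, ev_sel, ev_bx1, ev_by2, ev_by4, ev_by6, ev_bx7,
      pi_zero, pi_one, pi_a1, pi_a2, pi_b2, pi_a3, pi_a4, pi_b4, pi_a5, pi_a6, pi_b6, pi_a7, pi_a8, pi_b8] at this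
    exact this ha.1 ha.2
  have s : ∀ (t : K) {g : Co K}, g ∈ X → sel t g ∈ X := fun t g hg => by
    rcases hK t with rfl | rfl
    · rw [sel_zero]; exact one_mem X
    · rwa [sel_one]
  have c : ∀ {g h : Co K}, g ∈ X → h ∈ X → g * h * g⁻¹ * h⁻¹ ∈ X := fun hg hh =>
    mul_mem (mul_mem (mul_mem hg hh) (inv_mem hg)) (inv_mem hh)
  rw [e]
  exact mul_mem (mul_mem (mul_mem (mul_mem (mul_mem (mul_mem (mul_mem (mul_mem (mul_mem (s _ h1) (s _ g2))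
    (s _ (mul_mem g2 g2))) (s _ (c h4 g2))) (s _ h4)) (s _ (mul_mem h4 h4))) (s _ (c h4 g6))) (s _ g6))
    (s _ (mul_mem g6 g6))) (s _ h7)

omit hK in
/-- The elements on which `n` acts as `w`. -/
def sub (ψ : Co K →* G) (n : G) {M : Subgroup (Co K)} {w : Co K → Co K} (a : Au M w) : Subgroup (Co K) where
  carrier := {x | x ∈ M ∧ Cj ψ n x (w x)}
  mul_mem' := fun h h' => ⟨mul_mem h.1 h'.1, a.mul _ h.1 _ h'.1 ▸ h.2.mul h'.2⟩
  one_mem' := ⟨one_mem _, by rw [a.one]; simp [Cj]⟩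
  inv_mem' := fun h => ⟨inv_mem h.1, a.inv h.1 ▸ h.2.inv⟩

omit hK in
theorem cj_rel {a b c x u : Co K} (nn : n * n = 1) (r : n * ψ a * n = ψ b * n * ψ c) (e : c * x * c⁻¹ = x)
    (h : Cj ψ n x u) : Cj ψ n (a * u * a⁻¹) (b * u * b⁻¹) := by
  have hn : n⁻¹ = n := inv_eq_of_mul_eq_one_right nn
  have r' : n * ψ a * n⁻¹ = ψ b * n * ψ c := by rwa [hn]
  have h' : n * ψ u * n⁻¹ = ψ x := by have := h.symm; rwa [hn] at this
  have e' : ψ c * ψ x * (ψ c)⁻¹ = ψ x := by rw [← map_inv, ← map_mul, ← map_mul, e]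
  simp only [Cj, map_mul, map_inv] at h ⊢
  calc _ = n * ψ a * n⁻¹ * (n * ψ u * n⁻¹) * (n * ψ a * n⁻¹)⁻¹ := by group
    _ = ψ b * (n * (ψ c * ψ x * (ψ c)⁻¹) * n⁻¹) * (ψ b)⁻¹ := by rw [r', h']; group
    _ = _ := by rw [e', h]

end QC

open QC in
theorem twist_Q (hK : ∀ x : K, x = 0 ∨ x = 1) (inj : Function.Injective ψ) (nn : n * n = 1) {e : K}
    (r : n * ψ (y8 0 1) * n = ψ (y8 1 (e + 1)) * n * ψ (y8 1 e)) (h4 : Cj ψ n (y4 1 0) (y4 1 0))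
    {f : Co K} (hf : f ∈ F) (h7 : Cj ψ n (x7 1) (x1 1 * f)) :
    ∃ η : MulAut (Co K), Pr η ∧ ∀ x ∈ Q, Cj (ψ.comp η.toMonoidHom) n x (w2 x) := by
  have two : (1 : K) + 1 = 0 := CharTwo.add_self_eq_zero 1
  have hn : n⁻¹ = n := inv_eq_of_mul_eq_one_right nn
  have sy : ∀ {x y}, Cj ψ n x y → Cj ψ n y x := fun h => hn ▸ h.symm
  have g2 := cj_rel nn r (by ext <;> simp [CharTwo.add_self_eq_zero]) h7
  have g3 := sy g2
  have g1 := sy h7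
  have rule : ∀ {x y}, Cj ψ n x y → Rl x y := fun {x y} h e => h.uniq inj (by
    have : ∃ k : ℕ, x = y4 1 0 ^ k := by
      rw [e]
      rcases hK x.a4 with h | h <;> rcases hK x.b4 with h' | h' <;> rw [h, h']
      exacts [⟨0, by ext <;> simp⟩, ⟨2, by rw [pow_two]; ext <;> simp [two]⟩, ⟨1, by simp⟩,
        ⟨3, by rw [pow_three]; ext <;> simp [two]⟩]
    obtain ⟨k, rfl⟩ := this
    exact h4.pow k)
  obtain ⟨rfl, hu⟩ := key hK hf rfl rfl rfl rfl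
    (rule ((((((h7.mul g2).mul g1).mul h4).mul g2).mul g1).mul h7)) (rule (h7.mul h7))
    (rule ((((((g3.mul g1).mul g3).mul h4).mul h7).mul g1).mul h7))
  rw [zero_add] at g2 g3
  let φ : Co K →* Co K := MonoidHom.mk' (chi f.a5 f.b4) (chi_mul hK _ _)
  have fa := facts hK f.a5 f.b4
  have i : Function.Injective φ := (injective_iff_map_eq_one φ).2 fun a => (fa a).1
  let η : MulAut (Co K) := MulEquiv.ofBijective φ ⟨i, Finite.injective_iff_surjective.1 i⟩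
  have hη : ∀ x, η x = chi f.a5 f.b4 x := fun _ => rfl
  have f1 : η (x1 1) = x1 1 * f := hu.symm
  have fx : ∀ x : Co K, x.a1 = 0 → x.a2 = 0 → η x = x := fun x => (fa x).2.2.2.2
  have cj : ∀ {x y}, Cj ψ n (η x) (η y) → Cj (ψ.comp η.toMonoidHom) n x y := id
  refine ⟨η, ⟨fun x => by simp only [mem_Q, hη, (fa x).2.1, (fa x).2.2.1],
    fun x => by simp only [mem_R, hη, (fa x).2.2.2.1]⟩, fun x hx =>
    (genQ hK (sub _ n au_w2) ⟨by simp, cj ?_⟩ ⟨by simp, cj ?_⟩ ⟨by simp, cj ?_⟩ ⟨by simp [two], cj ?_⟩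
      ⟨by simp [two], cj ?_⟩ hx).2⟩
  · rwa [show w2 (x7 1) = (x1 1 : Co K) by ext <;> simp, f1, fx _ rfl rfl]
  · rwa [show w2 (x1 1) = (x7 1 : Co K) by ext <;> simp, f1, fx _ rfl rfl]
  · rwa [show w2 (y4 1 0) = (y4 1 0 : Co K) by ext <;> simp, fx _ rfl rfl]
  · rw [show w2 (y8 0 1 * x1 1 * (y8 0 1)⁻¹) = (y8 1 1 * x1 1 * (y8 1 1)⁻¹ : Co K) by ext <;> simp [two]]
    simp only [map_mul, map_inv, f1]
    rwa [fx (y8 0 1) rfl rfl, fx (y8 1 1) rfl rfl]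
  · rw [show w2 (y8 1 1 * x1 1 * (y8 1 1)⁻¹) = (y8 0 1 * x1 1 * (y8 0 1)⁻¹ : Co K) by ext <;> simp [two]]
    simp only [map_mul, map_inv, f1]
    rwa [fx (y8 0 1) rfl rfl, fx (y8 1 1) rfl rfl]

open QC AM in
theorem twist_R (hK : ∀ x : K, x = 0 ∨ x = 1) (inj : Function.Injective ψ) (nn : n * n = 1)
    (b : n * ψ (x1 1) * n = ψ (x1 1) * n * ψ (x1 1)) (h4 : Cj ψ n (y4 0 1) (y6 0 1)) (h5 : Cj ψ n (x5 1) (x5 1))
    (hR : n ∈ nr ψ R) : ∃ η : MulAut (Co K), Pr η ∧ (∀ x ∈ R, Cj (ψ.comp η.toMonoidHom) n x (w1 x)) ∧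
      ∃ r, ∀ x ∈ Q, η (w2 x) = r * w2 (r⁻¹ * η x * r) * r⁻¹ := by
  have hn : n⁻¹ = n := inv_eq_of_mul_eq_one_right nn
  obtain ⟨a, a1, ga⟩ := H93.SX.nr_cj hR (x := y2 1 0) rfl
  obtain ⟨c, c1, gc⟩ := H93.SX.nr_cj hR (x := y4 1 0) rfl
  obtain ⟨-, k2, k4⟩ := act hK inj hn b h4 h5 a1 c1 ga gc
  let φ : Co K →* Co K := MonoidHom.mk' _
    (phi_mul hK a.a4 (a.a3 + a.b4 + a.a5 + a.a3 * a.a4) (a.a3 + a.b6 + a.a5 * a.a4))
  have fa := TW.facts hK a.a4 (a.a3 + a.b4 + a.a5 + a.a3 * a.a4) (a.a3 + a.b6 + a.a5 * a.a4)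
  have i : Function.Injective φ := (injective_iff_map_eq_one φ).2 fun a => (fa a).1
  let η : MulAut (Co K) := MulAut.conj (rr a) * MulEquiv.ofBijective φ ⟨i, Finite.injective_iff_surjective.1 i⟩
  have hη : ∀ x, η x = rr a * φ x * (rr a)⁻¹ := fun _ => rfl
  have cj : ∀ {x y}, Gr ψ n (tw a x) (tw a y) → Cj (ψ.comp η.toMonoidHom) n x y := id
  refine ⟨η, ⟨fun x => ?_, fun x => ?_⟩, fun x hx => (genR hK (sub _ n au_w1)
    ⟨rfl, cj (k2.of rfl (congrArg _ (by ext <;> simp)))⟩ ⟨rfl, cj (k4.of rfl (congrArg _ (by ext <;> simp)))⟩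
    ⟨rfl, cj ((k4.symm hn).of rfl (congrArg _ (by ext <;> simp)))⟩
    ⟨rfl, cj ((k2.symm hn).of rfl (congrArg _ (by ext <;> simp)))⟩ hx).2, rr a, fun x hx => ?_⟩
  · rw [hη, Subgroup.Normal.mem_comm_iff inferInstance, inv_mul_cancel_left]
    change (phi _ _ _ x).a8 = 0 ∧ (phi _ _ _ x).b8 = 0 ↔ _
    rw [(fa x).2.1]
    exact and_congr_right fun h => by rw [(fa x).2.2.1 h]
  · rw [hη, Subgroup.Normal.mem_comm_iff inferInstance, inv_mul_cancel_left]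
    change (phi _ _ _ x).a1 = 0 ↔ _
    rw [(fa x).2.2.2.2, mem_R]
  · rw [hη, hη, show (rr a)⁻¹ * (rr a * φ x * (rr a)⁻¹) * rr a = φ x by group]
    exact congrArg (fun y => rr a * y * (rr a)⁻¹) ((fa x).2.2.2.1 hx.1 hx.2).symm

theorem auto_lemmas_ofsqc : True := by
  have := @chi.eq_1.{0}
  have := @QC.ok.eq_1
  have := @QC.Rl.eq_1.{0}
  have := @QC.rlB.eq_1
  have := @QC.sub.eq_1.{0, 0}
  trivial

end H78.Ofs
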