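import Mathlib
import Cfsg.Agent.Lib.Ofs.OC
import Cfsg.Agent.Lib.Oct.AM1

/-!
# The model at `R` for `q = 2` (OFS RA)
-/

set_option autoImplicit false
set_option linter.unusedSectionVars false
set_option linter.unnecessarySeqFocus false

namespace H78.Ofs

open H78.Oct H78.Oct.Co Subgroup
open H93.SX (Cj nr)
open scoped commutatorElement

variable {K G : Type*} [Field K] [Tits K] [Finite K] [Group G] [Finite G] {ψ : Co K →* G}
  {H : Subgroup (MulAut (Co K))}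


theorem ra_Ph (hK : ∀ x : K, x = 0 ∨ x = 1) {d : Co K} (hd : d ∈ (R1 : Subgroup (Co K))) (e : d.a4 = d.a6) :
    d ∈ Ph R := by
  have h3 : (J3 : Subgroup (Co K)) ≤ Ph R := fun d hd => by
    refine co_step (co_D3 (X := R) (by simp) (by simp)) (mul_mem
      (comm_mem_Ph (show y4 d.a3 0 ∈ R by simp) (show y2 1 0 ∈ R by simp))
      (comm_mem_Ph (show y6 d.a7 0 ∈ R by simp) (show y8 1 0 ∈ R by simp))) ?_
    simp only [mem_J3] at hd
    simp only [mem_D3]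
    and_intros <;> simp [commutatorElement_def, hd] <;> grind
  have h4 : ∀ d ∈ (R1 : Subgroup (Co K)), d.a4 = 0 → d.a6 = 0 → d ∈ Ph R := fun d hd a4 a6 => by
    obtain ⟨s, hs⟩ := N_surj d.b2
    obtain ⟨t, ht⟩ := N_surj d.b8
    refine co_step h3 (mul_mem (sq_mem_Ph (show y2 s 0 ∈ R by simp))
      (sq_mem_Ph (show y8 t 0 ∈ R by simp))) ?_
    simp only [mem_R1] at hd
    simp only [mem_J3]
    and_intros <;> simp [hd, a4, a6, CharTwo.add_self_eq_zero] <;> grind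
  rcases hK d.a6 with k | k
  · exact h4 d hd (e.trans k) k
  obtain ⟨c, p, r, a, b⟩ : ∃ c ∈ Ph (R : Subgroup (Co K)), c ∈ (R1 : Subgroup (Co K)) ∧ c.a4 = 1 ∧ c.a6 = 1 :=
    ⟨_, comm_mem_Ph (show y2 1 0 ∈ R by simp) (show y8 1 0 ∈ R by simp), by
      simp only [mem_R1]
      and_intros <;> simp [commutatorElement_def] <;> grind⟩
  refine (mul_mem_cancel_left (inv_mem p)).1 (h4 _ (mul_mem (inv_mem r) hd) ?_ ?_) <;>
  simp [r.1, r.2.1, r.2.2, hd.1, hd.2.1, hd.2.2, a, b, e, k] <;> grind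

theorem ra_V (hK : ∀ x : K, x = 0 ∨ x = 1) {v : Co K} (hv : v ∈ (V : Subgroup (Co K))) :
    v = 1 ∨ v = y4 0 1 ∨ v = y6 0 1 ∨ v = y4 0 1 * y6 0 1 := by
  simp only [mem_V] at hv
  rcases hK v.b4 with a | a <;> rcases hK v.b6 with b | b
  · left; ext <;> simp [hv, a, b]
  · right; right; left; ext <;> simp [hv, a, b]
  · right; left; ext <;> simp [hv, a, b]
  · right; right; right; ext <;> simp [hv, a, b]

theorem ra_cV [(R.map ψ).Normal] (hK : ∀ x : K, x = 0 ∨ x = 1) (M : Md ψ R) {g : G}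
    (h4 : Cj ψ g (y4 0 1) (y4 0 1)) (h6 : Cj ψ g (y6 0 1) (y6 0 1)) : g ∈ R.map ψ := by
  have VR : (V : Subgroup (Co K)) ≤ R := fun x hx => hx.1
  have nV := M.normal_of VR fun f h => au_V h
  have nP := M.normal_of (Ph_le R) fun f h x hx => by
    refine (Ph_le_of (A := h.pre (Ph R)) (fun x hx => ⟨mul_mem hx hx, ?_⟩) hx).2
    rw [h.mul x hx x hx]
    exact sq_mem_Ph (h.mem x hx)
  refine M.core (centralizer (V.map ψ : Set G)) (fun g hg o => ?_) (H93.SX.cent_of_cj fun x hx => ?_)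
  swap
  · rcases ra_V hK hx with rfl | rfl | rfl | rfl
    exacts [by simp [Cj], h4, h6, h4.mul h6]
  obtain ⟨f, hf, e⟩ := M.au g
  have gP : g ∈ nr ψ (Ph R) := by rw [nr, normalizer_eq_top]; trivial
  have fV : ∀ x ∈ (V : Subgroup (Co K)), f x = x := fun x hx => (e x (VR hx)).uniq M.inj (Cj.of_cent hg hx)
  have d5 : (x5 1 : Co K) ∈ (D3 : Subgroup (Co K)) := by simp
  have f5 := au_D3 hf _ d5
  have a5 : (f (x5 1)).a5 = 1 := (hK _).resolve_left fun k => by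
    have m : f (x5 1) ∈ (V : Subgroup (Co K)) := by
      simp only [mem_D3] at f5
      simp [f5, k]
    have := congrArg Co.a5 (hf.eq (VR m) d5.1 (fV _ m))
    rw [k] at this
    simp at this
  refine M.tv_one o (M.tv_trans o gP (B := R1) (fun x hx => ⟨_, e x hx, ?_⟩) fun x hx => ⟨_, e x hx.1, ?_⟩)
  · have k := hf.comm d5.1 hx
    have hy := hf.mem x hx
    rw [mem_R] at hx hy
    rw [fV _ (by
      simp only [mem_V]
      and_intros <;> simp [commutatorElement_def, hx] <;> grind)] at k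
    have k4 := congrArg Co.b4 k
    have k6 := congrArg Co.b6 k
    simp only [mem_D3] at f5
    simp [commutatorElement_def, hx, hy, f5, a5] at k4 k6
    simp only [mem_R1]
    and_intros <;> simp [hx, hy] <;> grind
  · have hy := au_R1 hf x hx
    by_cases k : x ∈ Ph R
    · exact mul_mem ((e x hx.1).mem M.inj gP k) (inv_mem k)
    have k1 : x.a4 ≠ x.a6 := fun c => k (ra_Ph hK hx c)
    have k2 : (f x).a4 ≠ (f x).a6 := fun c => k ((e x hx.1).mem' M.inj gP (ra_Ph hK hy c))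
    refine ra_Ph hK (mul_mem hy (inv_mem hx)) ?_
    simp [hx.1, hx.2.1, hx.2.2, hy.1, hy.2.1, hy.2.2]
    rcases hK x.a4 with a | a <;> rcases hK x.a6 with b | b <;> rcases hK (f x).a4 with c | c <;>
      rcases hK (f x).a6 with d | d <;> grind

theorem ra_im [(R.map ψ).Normal] (hK : ∀ x : K, x = 0 ∨ x = 1) (M : Md ψ R) (g : G) {v : Co K}
    (hv : v ∈ (V : Subgroup (Co K))) (h1 : v ≠ 1) :
    Cj ψ g v (y4 0 1) ∨ Cj ψ g v (y6 0 1) ∨ Cj ψ g v (y4 0 1 * y6 0 1) := by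
  obtain ⟨f, hf, e⟩ := M.au g
  rcases ra_V hK (au_V hf v hv) with k | k | k | k
  · exact absurd (hf.inj v hv.1 k) h1
  · exact Or.inl (k ▸ e v hv.1)
  · exact Or.inr (Or.inl (k ▸ e v hv.1))
  · exact Or.inr (Or.inr (k ▸ e v hv.1))

theorem ra_x4 : Cj ψ (ψ (x1 1)) (y4 0 1) (y4 0 1) := by
  convert Cj.self (ι := ψ) (x1 1) (y4 0 1) using 1
  ext <;> simp <;> grind

theorem ra_x6 : Cj ψ (ψ (x1 1)) (y6 0 1) (y4 0 1 * y6 0 1) := by
  convert Cj.self (ι := ψ) (x1 1) (y6 0 1) using 1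
  ext <;> simp <;> grind

theorem ra_x46 : Cj ψ (ψ (x1 1)) (y4 0 1 * y6 0 1) (y6 0 1) := by
  convert Cj.self (ι := ψ) (x1 1) (y4 0 1 * y6 0 1) using 1
  ext <;> simp <;> grind

theorem ra_fix [(R.map ψ).Normal] (hK : ∀ x : K, x = 0 ∨ x = 1) (M : Md ψ R) {g : G}
    (h4 : Cj ψ g (y4 0 1) (y4 0 1)) : g ∈ ψ.range := by
  have l : R.map ψ ≤ ψ.range := map_le_range _ _
  rcases ra_im hK M g (v := y6 0 1) (by simp) (fun e => by simpa using congrArg Co.b6 e) with k | k | k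
  · simpa using congrArg Co.b6 (h4.symm.uniq M.inj k.symm)
  · exact l (ra_cV hK M h4 k)
  · exact (mul_mem_cancel_left (⟨x1 1, rfl⟩ : ψ (x1 1) ∈ ψ.range)).1
      (l (ra_cV hK M (ra_x4.trans h4) (ra_x46.trans k)))

theorem ra_swap [(R.map ψ).Normal] (hK : ∀ x : K, x = 0 ∨ x = 1) (M : Md ψ R) :
    ∃ n, Cj ψ n (y4 0 1) (y6 0 1) ∧ Cj ψ n (y6 0 1) (y4 0 1) := by
  obtain ⟨g, hg⟩ : ∃ g, g ∉ ψ.range := by
    by_contra! h
    exact M.not_normal ⟨fun _ _ _ => h _⟩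
  obtain ⟨n, hn⟩ : ∃ n, Cj ψ n (y4 0 1) (y6 0 1) := by
    rcases ra_im hK M g (v := y4 0 1) (by simp) (fun e => by simpa using congrArg Co.b4 e) with k | k | k
    exacts [absurd (ra_fix hK M k) hg, ⟨_, k⟩, ⟨_, ra_x46.trans k⟩]
  rcases ra_im hK M n (v := y6 0 1) (by simp) (fun e => by simpa using congrArg Co.b6 e) with k | k | k
  · exact ⟨n, hn, k⟩
  · simpa using congrArg Co.b6 (hn.symm.uniq M.inj k.symm)
  · refine ⟨n * ψ (x1 1), hn.trans ra_x4, ?_⟩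
    convert (hn.mul k).trans ra_x6 using 1
    ext <;> simp <;> grind

theorem ra_e1 : (y2 1 0 : Co K) * y6 0 1 = y6 0 1 * y2 1 0 := by ext <;> simp

theorem ra_e2 : (y2 1 0 : Co K) * y4 0 1 = y4 0 1 * y2 1 0 := by ext <;> simp

theorem ra_e3 : (y2 1 0 : Co K) * (x5 1 * (y4 0 1 * y6 0 1) * (y4 0 0 * y6 0 1)) = x5 1 * y2 1 0 := by
  ext <;> simp <;> grind

theorem ra_e4 : (y2 1 0 : Co K) * (x5 1 * (y4 0 1 * y6 0 0)) = x5 1 * y2 1 0 := by
  ext <;> simp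

open AM1 in
theorem exists_n1 [(R.map ψ).Normal] (hK : ∀ x : K, x = 0 ∨ x = 1) (M : Md ψ R) :
    ∃ n : G, n * n = 1 ∧ n * ψ (x1 1) * n = ψ (x1 1) * n * ψ (x1 1) ∧ Cj ψ n (y4 0 1) (y6 0 1) ∧
      Cj ψ n (x5 1) (x5 1) ∧ ∀ g, g ∈ ψ.range ∨ ∃ s s', g = ψ s * n * ψ s' := by
  suffices h : ∃ n : G, n * n = 1 ∧ n * ψ (x1 1) * n = ψ (x1 1) * n * ψ (x1 1) ∧
      Cj ψ n (y4 0 1) (y6 0 1) ∧ Cj ψ n (x5 1) (x5 1) by
    obtain ⟨n, h1, h2, h3, h4⟩ := h
    refine ⟨n, h1, h2, h3, h4, fun g => ?_⟩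
    rcases ra_im hK M g (v := y4 0 1) (by simp) (fun e => by simpa using congrArg Co.b4 e) with k | k | k
    · exact Or.inl (ra_fix hK M k)
    · obtain ⟨s, hs⟩ := ra_fix hK M (h3.symm.trans k)
      exact Or.inr ⟨1, s, by rw [hs, map_one]; group⟩
    · obtain ⟨s, hs⟩ := ra_fix hK M (h3.symm.trans (ra_x46.trans k))
      exact Or.inr ⟨(x1 1)⁻¹, s, by rw [hs, map_inv]; group⟩
  obtain ⟨n, n4, n6⟩ := ra_swap hK M
  obtain ⟨m, mm, br, m4, m6⟩ := s3 (a := ψ (y4 0 1)) (b := ψ (y6 0 1)) (x := ψ (x1 1)) (n := n)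
    (by rw [← map_mul, ← map_one ψ]; congr 1; ext <;> simp <;> grind)
    (by rw [← map_mul, ← map_one ψ]; congr 1; ext <;> simp <;> grind)
    (by rw [← map_mul, ← map_mul]; congr 1; ext <;> simp)
    (by rw [← map_mul, ← map_one ψ]; congr 1; ext <;> simp <;> grind)
    ra_x4 (Eq.trans (ra_x6 (ψ := ψ)) (map_mul ..)) n4 n6
    (fun g h4 h6 => by
      obtain ⟨r, -, rfl⟩ := ra_cV hK M h4 h6
      rw [← map_pow, pow_16, map_one])
  have back : ∀ {u v : Co K}, Cj ψ m u v → Cj ψ m v u := fun h => by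
    have := h.symm
    rwa [inv_eq_of_mul_eq_one_right mm] at this
  have mV : ∀ a c, Cj ψ m (y4 0 a * y6 0 c) (y4 0 c * y6 0 a) := by
    intro a c
    have e4 : ∀ a, Cj ψ m (y4 0 a) (y6 0 a) := fun a => by
      rcases hK a with rfl | rfl
      · rw [z40, z60]; simp [Cj]
      · exact m4
    convert (e4 a).mul (back (e4 c)) using 1
    ext <;> simp
  obtain ⟨f, hf, e⟩ := M.au m
  have eb := e (x5 1) (by simp)
  have hb := au_D3 hf (x5 1) (by simp)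
  generalize f (x5 1) = b at eb hb
  have hb2 : b = x5 b.a5 * (y4 0 b.b4 * y6 0 b.b6) := by
    simp only [mem_D3] at hb
    ext <;> simp [hb]
  generalize b.a5 = s, b.b4 = a, b.b6 = c at hb2
  subst hb2
  have eb' := back eb
  rcases hK s with rfl | rfl
  · rw [show (x5 0 : Co K) = 1 by ext <;> simp, one_mul] at eb'
    simpa using congrArg Co.a5 (eb'.uniq M.inj (mV _ _))
  have hac : c = a := by
    have := congrArg Co.b4 (eb'.uniq M.inj (eb.mul (mV _ _)))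
    simp at this
    grind
  subst hac
  rcases hK c with rfl | rfl
  · rw [z40, z60, mul_one, mul_one] at eb
    exact ⟨m, mm, br, m4, eb⟩
  have cj : ∀ {u v : Co K}, y2 1 0 * u = v * y2 1 0 → Cj ψ (ψ (y2 1 0)) u v := by
    intro u v h
    convert Cj.self (ι := ψ) (y2 1 0) u using 1
    rw [h, mul_inv_cancel_right]
  have gx : ψ (y2 1 0) * ψ (x1 1) * (ψ (y2 1 0))⁻¹ = ψ (x1 1) := cj (by ext <;> simp)
  refine ⟨ψ (y2 1 0) * m * (ψ (y2 1 0))⁻¹, ?_, ?_, ?_, ?_⟩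
  · rw [← cj_mul, mm]; group
  · generalize ψ (x1 1) = x, ψ (y2 1 0) = g at gx br
    rw [← gx, ← cj_mul, ← cj_mul, ← cj_mul, ← cj_mul, br]
  · exact ((cj ra_e1).trans m4).trans (cj ra_e2).symm
  · exact ((cj ra_e3).trans (eb.mul (mV 1 0))).trans (cj ra_e4).symm

end H78.Ofs
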