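import Mathlib
import Cfsg.Agent.Lib.BSE14.Cor
import Cfsg.Agent.Lib.BSE14.Cor2
import Cfsg.Agent.S1119
import Cfsg.Agent.S1122
import Cfsg.Agent.S1131
import Cfsg.Agent.Lib.Core.CoprimeBasic

/-!
# The rank one structure of a group with a strongly embedded subgroup (OFS RK1)
-/

set_option autoImplicit false
set_option linter.unusedSectionVars false

namespace H78.Ofs

open Subgroup
open scoped commutatorElement

section

open MulAction Cfsg

variable {Y : Type*} [Group Y] [Finite Y]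

theorem rk1_two {u : Y} {k m : ℕ} (h1 : u ^ 2 ^ k = 1) (h2 : u ^ m = 1) (hm : Odd m) : u = 1 := by
  rw [← orderOf_eq_one_iff]
  exact Nat.eq_one_of_dvd_coprimes (Nat.Coprime.pow_left k (Nat.coprime_two_left.2 hm))
    (orderOf_dvd_of_pow_eq_one h1) (orderOf_dvd_of_pow_eq_one h2)

theorem rk1_pow {A : Subgroup Y} {x : Y} (hx : x ∈ A) : x ^ Nat.card A = 1 :=
  orderOf_dvd_iff_pow_eq_one.1 (A.orderOf_dvd_natCard hx)

theorem rk1_el {U : Subgroup Y} (hU : IsPGroup 2 U) {x : Y} (hx : x ∈ U) : ∃ k, x ^ 2 ^ k = 1 :=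
  let ⟨k, hk⟩ := hU ⟨x, hx⟩; ⟨k, congrArg Subtype.val hk⟩

theorem rk1_sup {U H : Subgroup Y} (h : H ≤ normalizer (U : Set Y)) {x : Y} (hx : x ∈ U ⊔ H) :
    ∃ u ∈ U, ∃ y ∈ H, u * y = x := by
  have : x ∈ ((U ⊔ H : Subgroup Y) : Set Y) := hx
  rw [coe_mul_of_right_le_normalizer_left U H h] at this
  exact this

theorem rk1_setup {X Ω : Type*} [Group X] [Finite X] [MulAction X Ω] {a : Ω} {t : X}
    {Q A : Subgroup X} (hS : IsRankOneSetup X Ω a t Q) (hQ : IsPGroup 2 Q) (hA : A ≤ stabilizer X a)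
    (ho : Odd (Nat.card A)) :
    ∃ t', IsRankOneSetup X Ω a t' Q ∧ A ≤ stabilizer X (t' • a) := by
  have : Fact (Nat.Prime 2) := ⟨Nat.prime_two⟩
  have nQ := H14.BSE.normalizer_Q hS
  obtain ⟨n, hn⟩ := IsPGroup.iff_card.1 hQ
  have := hQ.isNilpotent
  obtain ⟨k, hk, e⟩ := H2.exists_conj_le_of_forall_mul_mem (A := A) (K := Q) (nQ ▸ hA)
    (by rw [hn]; exact Nat.Coprime.pow_right n (Nat.coprime_two_right.2 ho)) (.inr inferInstance)
    (H := stabilizer X (t • a)) fun x hx => by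
      obtain ⟨u, hu, d, hd, e⟩ := rk1_sup (U := Q) (H := stabilizer X a ⊓ stabilizer X (t • a))
        (nQ ▸ inf_le_left) (hS.sup_eq.ge (hA hx))
      exact ⟨u⁻¹, inv_mem hu, by rw [← e, inv_mul_cancel_left]; exact hd.2⟩
  have ka : k • a = a := hS.le hk
  have ka' : k⁻¹ • a = a := hS.le (inv_mem hk)
  have h1 := H40.RankOne.conj_setup hS k⁻¹
  have h2 : Q.map (MulAut.conj k⁻¹).toMonoidHom = Q := by
    ext x
    constructor
    · rintro ⟨y, hy, rfl⟩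
      exact mul_mem (mul_mem (inv_mem hk) hy) (inv_mem (inv_mem hk))
    · intro hx
      exact ⟨k * x * k⁻¹, mul_mem (mul_mem hk hx) (inv_mem hk), by simp [mul_assoc]⟩
  rw [ka', h2] at h1
  refine ⟨_, h1, fun x hx => ?_⟩
  have h3 : (k * x * k⁻¹) • t • a = t • a := e x hx
  rw [mul_smul, mul_smul] at h3
  rw [mem_stabilizer_iff, inv_inv, mul_smul, mul_smul, ka, eq_inv_smul_iff, h3]

end

theorem rank_one {Y : Type*} [Group Y] [Finite Y] {M : Subgroup Y} (hM : Cfsg.IsStronglyEmbedded M)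
    (U : Sylow 2 Y) (H : Subgroup Y) (h1 : H ≤ normalizer (U : Set Y)) (h2 : Odd (Nat.card H))
    (h3 : normalizer (U : Set Y) ≤ (U : Subgroup Y) ⊔ H)
    (h4 : ∃ x y : Y, x ≠ 1 ∧ y ≠ 1 ∧ x ≠ y ∧ x * x = 1 ∧ y * y = 1 ∧ x * y = y * x)
    (h5 : Cfsg.oddCore Y ≤ centralizer (U : Set Y)) :
    ∃ t : Y, t * t = 1 ∧ t ∈ normalClosure (U : Set Y) ∧ (∀ h ∈ H, t * h * t⁻¹ ∈ H) ∧
      (∀ y, y ∈ normalizer (U : Set Y) ∨ ∃ b ∈ normalizer (U : Set Y), ∃ u ∈ U, y = b * t * u) ∧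
      (∀ h ∈ H, h ∈ centralizer (U : Set Y) → t * h * t⁻¹ = h) ∧
      (∀ i ∈ U, ∀ j ∈ U, i ≠ 1 → j ≠ 1 → i * i = 1 → j * j = 1 →
        ∃ k ∈ H, t * k * t⁻¹ = k⁻¹ ∧ k * i * k⁻¹ = j) ∧
      ∀ k ∈ H, ∀ k' ∈ H, t * k * t⁻¹ = k⁻¹ → t * k' * t⁻¹ = k'⁻¹ → ⁅k, k'⁆ ∈ centralizer (U : Set Y) := by
  have : Fact (Nat.Prime 2) := ⟨Nat.prime_two⟩
  obtain ⟨_, _, -, a, t0, S0⟩ := H14.BSE.exists_bar_sylow hM h4 U
  set O := Cfsg.oddCore Y with hO
  set π := QuotientGroup.mk' O with hπ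
  have oO : Odd (Nat.card O) := H1.odd_card_oddCore
  have pU : IsPGroup 2 (U : Subgroup Y) := U.isPGroup'
  have ker : ∀ {x y : Y}, π x = π y → x⁻¹ * y ∈ O := fun h => QuotientGroup.eq.1 h
  have UO : ∀ {x : Y}, x ∈ (U : Subgroup Y) → x ∈ O → x = 1 := fun hx ho =>
    let ⟨_, hk⟩ := rk1_el pU hx; rk1_two hk (rk1_pow ho) oO
  have nQ := H14.BSE.normalizer_Q S0
  have hN : ∀ y, y ∈ normalizer (U : Set Y) ↔ π y ∈ MulAction.stabilizer (Y ⧸ O) a := by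
    intro y
    rw [← nQ]
    constructor
    · intro hy
      exact le_normalizer_map π ⟨y, hy, rfl⟩
    · intro hy
      refine mem_normalizer_fintype fun u hu => ?_
      obtain ⟨v, hv, e⟩ := (mem_normalizer_iff.1 hy (π u)).1 ⟨u, hu, rfl⟩
      rw [← map_inv, ← map_mul, ← map_mul] at e
      have o := ker e
      obtain ⟨k, hk⟩ := rk1_el pU hu
      obtain ⟨l, hl⟩ := rk1_el pU hv
      have c : Commute v (v⁻¹ * (y * u * y⁻¹)) := h5 o v hv
      have e1 : (v⁻¹ * (y * u * y⁻¹)) ^ 2 ^ (k + l) = 1 := by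
        have := c.mul_pow (2 ^ (k + l))
        rw [mul_inv_cancel_left, conj_pow, pow_add, pow_mul, hk, one_pow, mul_one, mul_inv_cancel,
          mul_comm (2 ^ k), pow_mul v, hl, one_pow, one_mul, mul_comm (2 ^ l), ← pow_add] at this
        exact this.symm
      rw [← inv_mul_eq_one.1 (rk1_two e1 (rk1_pow o) oO)]
      exact hv
  have OH : O ≤ H := fun o ho => by
    obtain ⟨u, hu, h, hh, e⟩ := rk1_sup h1 (h3 (centralizer_le_normalizer _ (h5 ho)))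
    obtain ⟨k, hk⟩ := rk1_el pU hu
    have c : Commute u⁻¹ o := (show Commute u o from h5 ho u hu).inv_left
    have e1 := c.mul_pow (Nat.card H * Nat.card O)
    rw [← eq_inv_mul_of_mul_eq e, pow_mul, rk1_pow hh, one_pow, mul_comm (Nat.card H), pow_mul o,
      rk1_pow ho, one_pow, mul_one, inv_pow, eq_comm, inv_eq_one] at e1
    rw [← e, rk1_two hk e1 (oO.mul h2), one_mul]
    exact hh
  obtain ⟨t1, S, hH⟩ := rk1_setup (A := H.map π) S0 (pU.map π)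
    (by rintro _ ⟨h, hh, rfl⟩; exact (hN h).1 (h1 hh)) (h2.of_dvd_nat (card_map_dvd H π))
  have hD : ∀ y, y ∈ H ↔ π y ∈ MulAction.stabilizer (Y ⧸ O) a ⊓
      MulAction.stabilizer (Y ⧸ O) (t1 • a) := by
    refine fun y => ⟨fun hy => ⟨(hN y).1 (h1 hy), hH ⟨y, hy, rfl⟩⟩, fun hy => ?_⟩
    obtain ⟨u, hu, h, hh, rfl⟩ := rk1_sup h1 (h3 ((hN y).2 hy.1))
    have m : π u ∈ MulAction.stabilizer (Y ⧸ O) (t1 • a) := by
      have := (mem_inf.1 hy).2
      rw [map_mul] at this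
      exact (mul_mem_cancel_right (hH ⟨h, hh, rfl⟩)).1 this
    have : π u = 1 := mem_bot.1 (S.inf_eq_bot.le ⟨⟨u, hu, rfl⟩, m⟩)
    exact mul_mem (OH ((QuotientGroup.eq_one_iff u).1 this)) hh
  obtain ⟨t, -, tt, ht⟩ := H14.BSE.lift_bar S.ne_one S.mul_self
  replace ht : π t = t1 := ht
  have ti : t⁻¹ = t := inv_eq_of_mul_eq_one_right tt
  have tU : t ∈ normalClosure (U : Set Y) := by
    have : IsPGroup 2 (zpowers t) :=
      IsPGroup.of_card_dvd_pow (n := 1) (by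
        rw [Nat.card_zpowers, pow_one]; exact orderOf_dvd_of_pow_eq_one (by rw [pow_two, tt]))
    obtain ⟨P, hP⟩ := this.exists_le_sylow
    obtain ⟨g, rfl⟩ := MulAction.exists_smul_eq Y U P
    obtain ⟨u, hu, e⟩ := hP (mem_zpowers t)
    rw [← e]
    exact (normalClosure_normal).conj_mem u (subset_normalClosure hu) g
  have tO : t ∈ centralizer (O : Set Y) :=
    normalClosure_le_normal (N := centralizer (O : Set Y)) (fun u hu o ho => (h5 ho u hu).symm) tU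
  have tH : ∀ h ∈ H, t * h * t⁻¹ ∈ H := fun h hh => by
    obtain ⟨e1, e2⟩ := mem_inf.1 ((hD h).1 hh)
    rw [MulAction.mem_stabilizer_iff] at e1 e2
    rw [hD, ti, map_mul, map_mul, ht, mem_inf, MulAction.mem_stabilizer_iff,
      MulAction.mem_stabilizer_iff, mul_smul, mul_smul, mul_smul, mul_smul, e2, ← mul_smul t1,
      S.mul_self, one_smul, e1]
    exact ⟨rfl, rfl⟩
  obtain ⟨reg, -, -, -, bru⟩ := Cfsg.Agent.S1119.result S
  refine ⟨t, tt, tU, tH, fun y => ?_, fun h hh hc => ?_, fun i hi j hj i1 j1 ii jj => ?_,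
    fun k hk k' hk' e e' => ?_⟩
  · by_cases hy : y ∈ normalizer (U : Set Y)
    · exact .inl hy
    obtain ⟨⟨p, _⟩, ⟨hp, ⟨u, hu, rfl⟩, e⟩, -⟩ := bru (π y) fun h => hy ((hN y).2 h)
    refine .inr ⟨y * (t * u)⁻¹, (hN _).2 ?_, u, hu, by group⟩
    rw [map_mul, map_inv, map_mul, ht, e, mul_assoc p, mul_inv_cancel_right]
    exact hp
  · obtain ⟨e1, e2⟩ := mem_inf.1 ((hD h).1 hh)
    rw [MulAction.mem_stabilizer_iff] at e1 e2
    have : π h = 1 := by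
      refine FaithfulSMul.eq_of_smul_eq_smul (α := Y ⧸ M) fun b => ?_
      rw [one_smul]
      by_cases hb : b = a
      · rw [hb, e1]
      obtain ⟨⟨_, u, hu, rfl⟩, e, -⟩ := reg (t1 • a) b S.not_mem hb
      rw [← e, ← mul_smul, ← map_mul, ← hc u hu, map_mul, mul_smul, e2]
    rw [← tO h ((QuotientGroup.eq_one_iff h).1 this), mul_inv_cancel_right]
  · obtain ⟨k, ⟨hk, kt⟩, e⟩ := (Cfsg.Agent.S1122.result S).2 (π i)
      ⟨S.le ⟨i, hi, rfl⟩, H14.BSE.bar_ne_one i1 ii, H14.BSE.bar_sq ii⟩ (π j)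
      ⟨S.le ⟨j, hj, rfl⟩, H14.BSE.bar_ne_one j1 jj, H14.BSE.bar_sq jj⟩
    obtain ⟨n, hn⟩ := S.odd_card
    obtain ⟨k0, h0⟩ := QuotientGroup.mk'_surjective O (k ^ n)
    replace h0 : π k0 = k ^ n := h0
    have m0 : k0 ∈ H := (hD k0).2 (h0 ▸ pow_mem hk n)
    have kk : k ^ n * k ^ n = k⁻¹ := by
      have := rk1_pow hk
      rw [hn, pow_succ, two_mul, pow_add] at this
      exact eq_inv_of_mul_eq_one_left this
    have pk : π (k0 * (t * k0⁻¹ * t⁻¹)) = k⁻¹ := by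
      rw [map_mul, map_mul, map_mul, map_inv, map_inv, ht, h0, ← conj_inv, ← conj_pow, kt, inv_pow,
        inv_inv, kk]
    have mk : k0 * (t * k0⁻¹ * t⁻¹) ∈ H := mul_mem m0 (tH _ (inv_mem m0))
    refine ⟨_, mk, ?_, ?_⟩
    · rw [ti]
      calc t * (k0 * (t * k0⁻¹ * t)) * t = t * k0 * t * k0⁻¹ * (t * t) := by group
        _ = (k0 * (t * k0⁻¹ * t))⁻¹ := by rw [tt]; simp only [mul_inv_rev, ti, inv_inv, mul_assoc, mul_one]
    · generalize k0 * (t * k0⁻¹ * t⁻¹) = c at pk mk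
      have m := (mem_normalizer_iff.1 (h1 mk) i).1 hi
      refine inv_mul_eq_one.1 (UO (mul_mem (inv_mem m) hj) (ker ?_))
      rw [map_mul, map_mul, map_inv, pk, inv_inv, e]
  · obtain ⟨C, hC, cyc, -⟩ := Cfsg.Agent.S1131.result S (H14.BSE.rank2_bar h4)
    have m : ∀ k ∈ H, t * k * t⁻¹ = k⁻¹ → π k ∈ C := fun k hk e => by
      rw [← SetLike.mem_coe, hC]
      exact ⟨(hD k).1 hk, by rw [← ht, ← map_inv, ← map_inv, ← map_mul, ← map_mul, e]⟩
    refine h5 ((QuotientGroup.eq_one_iff _).1 (show π _ = 1 from ?_))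
    rw [map_commutatorElement, commutatorElement_eq_one_iff_mul_comm]
    exact congrArg Subtype.val (cyc.commGroup.mul_comm ⟨_, m k hk e⟩ ⟨_, m k' hk' e'⟩)

end H78.Ofs
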