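import Mathlib
import Cfsg.Agent.Lib.Ofs.Def2
import Cfsg.Agent.Lib.Ofs.RK1

/-!
# The rank one structure of a model (OFS RK2)
-/

set_option autoImplicit false
set_option linter.unusedSectionVars false

namespace H78.Ofs

open H78.Oct H78.Oct.Co Subgroup
open H93.SX (Cj nr)
open scoped commutatorElement

variable {W G : Type*} [Group W] [Finite W] [Group G] [Finite G] {ψ : W →* G} {E A B C : Subgroup W}
  [(E.map ψ).Normal] {g : G}

theorem rk2_sect {P H : Type*} [Group P] [Finite P] [Group H] (ρ : P →* H)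
    (h : Function.Surjective ρ) (c : (Nat.card ρ.ker).Coprime (Nat.card H)) :
    ∃ l : H →* P, ∀ τ, ρ (l τ) = τ := by
  obtain ⟨K, hK⟩ := exists_right_complement'_of_coprime (N := ρ.ker) (by
    rwa [index_ker, MonoidHom.range_eq_top.2 h, card_top])
  have b : Function.Bijective (ρ.comp K.subtype) := by
    constructor
    · refine (injective_iff_map_eq_one _).2 fun x hx => Subtype.ext ?_
      exact mem_bot.1 (hK.disjoint.le_bot ⟨hx, x.2⟩)
    · intro τ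
      obtain ⟨p, rfl⟩ := h τ
      obtain ⟨⟨n, k⟩, e⟩ := hK.2 p
      refine ⟨k, ?_⟩
      rw [← e]
      simp only [map_mul, MonoidHom.mem_ker.1 n.2, one_mul]
      rfl
  exact ⟨K.subtype.comp (MulEquiv.ofBijective _ b).symm.toMonoidHom,
    fun τ => (MulEquiv.ofBijective _ b).apply_symm_apply τ⟩

theorem Md.rk2_lift (M : Md ψ E) {H : Subgroup (MulAut W)} (T : Tp ψ H) (hH : Odd (Nat.card H)) :
    ∃ l : H →* G, ∀ τ x, Cj ψ (l τ) x (τ.1 x) := by
  have : Fact (Nat.Prime 2) := ⟨Nat.prime_two⟩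
  let P : Subgroup (G × H) :=
    { carrier := {p | ∀ x, Cj ψ p.1 x (p.2.1 x)}
      one_mem' := fun _ => Cj.one
      mul_mem' := fun {p p'} h h' x => (h _).trans (h' x)
      inv_mem' := fun {p} h x => by
        have := (h (p.2.1⁻¹ x)).symm
        rwa [MulAut.apply_inv_self] at this }
  let ρ : P →* H := (MonoidHom.snd G H).comp P.subtype
  have k : IsPGroup 2 ρ.ker := by
    rintro ⟨⟨⟨g, τ⟩, hp⟩, hk⟩
    obtain rfl : τ = 1 := hk
    obtain ⟨n, hn⟩ := rk1_el ((M.pg.to_subgroup E).map ψ) (M.cen g fun x _ => hp x)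
    exact ⟨n, Subtype.ext (Subtype.ext (Prod.ext hn (one_pow _)))⟩
  obtain ⟨n, hn⟩ := IsPGroup.iff_card.1 k
  obtain ⟨l, hl⟩ := rk2_sect ρ (fun τ => let ⟨g, hg⟩ := T.ex τ.1 τ.2; ⟨⟨(g, τ), hg⟩, rfl⟩)
    (by rw [hn]; exact Nat.Coprime.pow_left n (Nat.coprime_two_left.2 hH))
  refine ⟨((MonoidHom.fst G H).comp P.subtype).comp l, fun τ x => ?_⟩
  have := (l τ).2 x
  rwa [show (l τ).1.2 = τ from hl τ] at this

/-- The elements acting trivially on `A` modulo `B`. -/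
def rk2_L (A B : Subgroup G) [B.Normal] : Subgroup G where
  carrier := {g | ∀ a ∈ A, g * a * g⁻¹ * a⁻¹ ∈ B}
  one_mem' a _ := by simp
  mul_mem' {g g'} h h' a ha := by
    have := mul_mem (‹B.Normal›.conj_mem _ (h' a ha) g) (h a ha)
    convert this using 1
    group
  inv_mem' {g} h a ha := by
    have := ‹B.Normal›.conj_mem _ (inv_mem (h a ha)) g⁻¹
    convert this using 1
    group

theorem rk2_normal (A B : Subgroup G) [hA : A.Normal] [hB : B.Normal] : (rk2_L A B).Normal :=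
  ⟨fun g h c a ha => by
    have := hB.conj_mem _ (h _ (hA.conj_mem a ha c⁻¹)) c
    convert this using 1
    group⟩

theorem Md.rk (M : Md ψ E) {H : Subgroup (MulAut W)} (T : Tp ψ H) (hH : Odd (Nat.card H)) (o : Oc ψ E) {i j : W}
    (hi : i ∉ E) (hj : j ∉ E) (hij : i * j ∉ E) (ii : i * i ∈ E) (jj : j * j ∈ E) (ij : ⁅i, j⁆ ∈ E) :
    ∃ n ω, Rk ψ E H n ω := by
  have : Fact (Nat.Prime 2) := ⟨Nat.prime_two⟩
  obtain ⟨l, hl⟩ := M.rk2_lift T hH
  obtain ⟨SE, hSE⟩ := M.se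
  set π := QuotientGroup.mk' (E.map ψ) with hπ
  have sπ : Function.Surjective π := QuotientGroup.mk'_surjective _
  have pE : IsPGroup 2 (E.map ψ) := (M.pg.to_subgroup E).map ψ
  have k1 : ∀ {g : G}, π g = 1 ↔ g ∈ E.map ψ := fun {g} => QuotientGroup.eq_one_iff g
  have k2 : ∀ {x : W}, π (ψ x) = 1 ↔ x ∈ E := fun {x} => k1.trans (mem_map_iff_mem M.inj)
  have k3 : ∀ {x y : W}, π (ψ x) = π (ψ y) ↔ x * y⁻¹ ∈ E := fun {x y} => by
    rw [← k2, map_mul, map_mul, map_inv, map_inv, mul_inv_eq_one]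
  have ER : E.map ψ ≤ ψ.range := map_le_range ψ E
  let S : Sylow 2 G := (M.pg.of_surjective _ ψ.rangeRestrict_surjective).toSylow
    (fun h => Nat.not_even_iff_odd.2 M.odd (even_iff_two_dvd.2 h))
  let U := S.mapSurjective sπ
  have mU : ∀ s, π (ψ s) ∈ (U : Subgroup _) := fun s => ⟨ψ s, ⟨s, rfl⟩, rfl⟩
  have mU' : ∀ u ∈ (U : Subgroup _), ∃ s, π (ψ s) = u := by
    rintro _ ⟨_, ⟨s, rfl⟩, rfl⟩; exact ⟨s, rfl⟩
  have hN : ∀ g, π g ∈ normalizer (U : Set (G ⧸ E.map ψ)) ↔ g ∈ nr ψ ⊤ := fun g => by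
    rw [H93.SX.nr_top]
    refine ⟨fun h => mem_normalizer_fintype ?_, fun h => le_normalizer_map π ⟨g, h, rfl⟩⟩
    rintro _ ⟨s, rfl⟩
    obtain ⟨s', e⟩ := mU' _ ((mem_normalizer_iff.1 h _).1 (mU s))
    rw [← map_inv, ← map_mul, ← map_mul] at e
    exact (ψ.range.mul_mem_cancel_left (ψ.range.inv_mem ⟨s', rfl⟩)).1 (ER (QuotientGroup.eq.1 e))
  have l1 : ∀ {τ τ' : H}, π (l τ) = π (l τ') → τ = τ' := fun {τ τ'} e => by
    have m : l (τ⁻¹ * τ') ∈ E.map ψ := by rw [map_mul, map_inv]; exact QuotientGroup.eq.1 e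
    obtain ⟨n, hn⟩ := rk1_el pE m
    have e1 := rk1_two hn (by rw [← map_pow, pow_card_eq_one', map_one]) hH
    refine inv_mul_eq_one.1 (Subtype.ext (MulEquiv.ext fun x => ?_))
    have := hl (τ⁻¹ * τ') x
    rw [e1] at this
    exact this.uniq M.inj Cj.one
  have lc : ∀ (τ : H) s, π (l τ) * π (ψ s) * (π (l τ))⁻¹ = π (ψ (τ.1 s)) := fun τ s => by
    rw [← map_inv, ← map_mul, ← map_mul, hl τ s]
  have cen : ∀ τ : H, π (l τ) ∈ centralizer (U : Set (G ⧸ E.map ψ)) ↔ ∀ s, τ.1 s * s⁻¹ ∈ E := by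
    refine fun τ => ⟨fun h s => k3.1 ?_, fun h u hu => ?_⟩
    · rw [← lc, ← h _ (mU s), mul_inv_cancel_right]
    · obtain ⟨s, rfl⟩ := mU' u hu
      rw [← mul_inv_eq_iff_eq_mul.1 ((lc τ s).trans (k3.2 (h s)))]
  obtain ⟨t, tt, tU, tH, bru, fx, tr, com⟩ := rank_one hSE U (π.comp l).range
    (by
      rintro _ ⟨τ, rfl⟩
      exact (hN _).2 (H93.SX.mem_nr fun x _ => ⟨_, mem_top _, hl τ x⟩))
    (hH.of_dvd_nat (card_range_dvd _))
    (fun y hy => by
      obtain ⟨g, rfl⟩ := sπ y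
      obtain ⟨s, τ, hτ, e⟩ := T.top g ((hN g).1 hy)
      have m := M.cen (g⁻¹ * (ψ s * l ⟨τ, hτ⟩)) fun x _ =>
        (e x).symm.trans ((Cj.self s _).trans (hl ⟨τ, hτ⟩ x))
      rw [show π g = π (ψ s * l ⟨τ, hτ⟩) from QuotientGroup.eq.2 m, map_mul]
      exact mul_mem_sup (mU s) ⟨_, rfl⟩)
    ⟨π (ψ i), π (ψ j), fun h => hi (k2.1 h), fun h => hj (k2.1 h),
      fun h => hij (by simpa using mul_mem (k3.1 h) jj),
      by rw [← map_mul, ← map_mul, k2.2 ii], by rw [← map_mul, ← map_mul, k2.2 jj],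
      commutatorElement_eq_one_iff_mul_comm.1 (by
        rw [← map_commutatorElement, ← map_commutatorElement, k2.2 ij])⟩
    (fun y hy u hu => by
      obtain ⟨g, rfl⟩ := sπ y
      obtain ⟨s, rfl⟩ := mU' u hu
      refine (commutatorElement_eq_one_iff_mul_comm.1 ?_).symm
      rw [← map_commutatorElement]
      exact k1.2 (o g hy s))
  obtain ⟨n0, m0, rfl⟩ : t ∈ (normalClosure (ψ.range : Set G)).map π :=
    have := normalClosure_normal.map (H := normalClosure (ψ.range : Set G)) π sπ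
    normalClosure_le_normal (N := (normalClosure (ψ.range : Set G)).map π) (fun u hu => by
      obtain ⟨s, rfl⟩ := mU' u hu
      exact ⟨ψ s, subset_normalClosure ⟨s, rfl⟩, rfl⟩) tU
  obtain ⟨a, ha⟩ := IsPGroup.iff_card.1 pE
  have := pE.isNilpotent
  obtain ⟨e0, he0, e⟩ := H2.exists_conj_le_of_forall_mul_mem
    (A := ((MulAut.conj n0).toMonoidHom.comp l).range) (K := E.map ψ)
    (by rw [normalizer_eq_top]; exact le_top)
    (by
      rw [ha]
      exact Nat.Coprime.pow_right a (Nat.coprime_two_right.2 (hH.of_dvd_nat (card_range_dvd _))))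
    (.inr inferInstance) (H := l.range) (by
      rintro _ ⟨τ, rfl⟩
      obtain ⟨τ', e⟩ := tH _ ⟨τ, rfl⟩
      refine ⟨l τ' * (n0 * l τ * n0⁻¹)⁻¹, k1.1 ?_, τ', (inv_mul_cancel_right _ _).symm⟩
      rw [map_mul, map_inv, mul_inv_eq_one, map_mul, map_mul, map_inv]
      exact e)
  have pn : π (e0 * n0) = π n0 := by rw [map_mul, k1.2 he0, one_mul]
  have mn : e0 * n0 ∈ normalClosure (ψ.range : Set G) := mul_mem (subset_normalClosure (ER he0)) m0
  have ex : ∀ τ, ∃ τ', l τ' = e0 * n0 * l τ * (e0 * n0)⁻¹ := fun τ => by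
    obtain ⟨τ', e⟩ := e _ ⟨τ, rfl⟩
    exact ⟨τ', by rw [e]; simp [mul_assoc]⟩
  rw [← pn] at bru fx tr com
  generalize e0 * n0 = n at bru fx tr com mn ex
  choose ω hω using ex
  have pω : ∀ τ, π (l (ω τ)) = π n * π (l τ) * (π n)⁻¹ := fun τ => by
    rw [hω, map_mul, map_mul, map_inv]
  have iv : ∀ τ, ω τ = τ⁻¹ ↔ π n * π (l τ) * (π n)⁻¹ = (π (l τ))⁻¹ := fun τ => by
    rw [← pω, ← map_inv, ← map_inv]
    exact ⟨fun h => by rw [h], l1⟩
  refine ⟨n, MonoidHom.mk' ω fun τ τ' => l1 (by rw [map_mul, map_mul, pω, pω, pω, map_mul, map_mul]; group),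
    fun g => ?_, fun τ x _ y h => ?_, fun τ h => l1 ?_, fun i j hi hj ii jj => ?_,
    fun τ h A B nA nB c x hx => ?_, fun τ τ' h h' s => ?_⟩
  · obtain h | ⟨b, hb, u, hu, h⟩ := bru (π g)
    · exact .inl ((hN g).1 h)
    obtain ⟨s, rfl⟩ := mU' u hu
    refine .inr ⟨g * (n * ψ s)⁻¹, (hN _).1 ?_, s, by group⟩
    rw [map_mul, map_inv, map_mul, h, mul_assoc b, mul_inv_cancel_right]
    exact hb
  · have h1 := ((hl (ω τ) y).trans h).trans (hl τ x).symm
    rwa [hω, inv_mul_cancel_right, mul_inv_cancel_right] at h1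
  · exact (pω τ).trans (fx _ ⟨τ, rfl⟩ ((cen τ).2 h))
  · obtain ⟨_, ⟨τ, rfl⟩, h1, h2⟩ := tr _ (mU i) _ (mU j) (fun h => hi (k2.1 h)) (fun h => hj (k2.1 h))
      (by rw [← map_mul, ← map_mul, k2.2 ii]) (by rw [← map_mul, ← map_mul, k2.2 jj])
    exact ⟨τ, (iv τ).2 h1, k3.1 ((lc τ i).symm.trans h2)⟩
  · have nL := rk2_normal (A.map ψ) (B.map ψ)
    have m : n ∈ rk2_L (A.map ψ) (B.map ψ) := normalClosure_le_normal (by
      rintro _ ⟨s, rfl⟩ _ ⟨x, hx, rfl⟩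
      exact ⟨_, c s x hx, by simp [commutatorElement_def]⟩) mn
    obtain ⟨r, hr⟩ := hH
    have kk : τ ^ r * τ ^ r = τ⁻¹ := by
      have := pow_card_eq_one' (x := τ)
      rw [hr, pow_succ, two_mul, pow_add] at this
      exact eq_inv_of_mul_eq_one_left this
    have h1 : n * l τ ^ r * n⁻¹ = (l τ ^ r)⁻¹ := by
      rw [← conj_pow, ← hω, show ω τ = τ⁻¹ from h, map_inv, inv_pow]
    have h2 : l τ = n * (l τ ^ r * n⁻¹ * (l τ ^ r)⁻¹) := by
      rw [← mul_assoc, ← mul_assoc, h1, ← mul_inv_rev, ← map_pow, ← map_mul, kk, map_inv, inv_inv]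
    have h3 : l τ ∈ rk2_L (A.map ψ) (B.map ψ) := by
      rw [h2]; exact mul_mem m (nL.conj_mem _ (inv_mem m) _)
    have h4 := h3 _ ⟨x, hx, rfl⟩
    rw [hl τ x, ← map_inv, ← map_mul] at h4
    exact (mem_map_iff_mem M.inj).1 h4
  · have h1 := com _ ⟨τ, rfl⟩ _ ⟨τ', rfl⟩ ((iv τ).1 h) ((iv τ').1 h')
    rw [← map_commutatorElement] at h1
    simpa [commutatorElement_def] using (cen _).1 h1 (τ'.1 (τ.1 s))

theorem auto_lemmas_rk2 : True := by
  have := @rk2_L.eq_1.{0}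
  trivial

end H78.Ofs
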