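import Mathlib
import Cfsg.Agent.Lib.Ofs.OC
import Cfsg.Agent.Lib.Ofs.AU
import Cfsg.Agent.Lib.Ofs.BQ

/-!
# The torus and the Weyl elements (OFS SQ)
-/

set_option autoImplicit false
set_option linter.unusedSectionVars false
set_option linter.unnecessarySeqFocus false

namespace H78.Ofs

open H78.Oct H78.Oct.Co Subgroup
open H93.SX (Cj nr)
open scoped commutatorElement

variable {K G : Type*} [Field K] [Tits K] [Finite K] [Group G] [Finite G] {ψ : Co K →* G}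
  {H : Subgroup (MulAut (Co K))}


variable {n : G} {ω : H →* H}

namespace SQ

variable {P : Subgroup (Co K)}

theorem scal (hH : H ≤ TG K) (r : Rk ψ P H n ω) (z : K → Co K) (wt : Kˣ × Kˣ → K) (wne : ∀ p, wt p ≠ 0)
    (hz : ∀ p (φ : Gal K) x, (tA p * fld φ : MulAut (Co K)) (z x) = z (wt p * φ.1 x)) (zE : ∀ x y, z x * (z y)⁻¹ ∈ P → x = y)
    (z0 : ∀ x, z x ∈ P → x = 0) (sq : ∀ x, z x * z x ∈ P) {μ : K} (hμ : μ ≠ 0) :
    ∃ τ : H, ω τ = τ⁻¹ ∧ ∃ c k, τ.1 = tA (c, k) ∧ wt (c, k) = μ := by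
  have tr : ∀ μ, μ ≠ 0 → ∃ τ : H, ω τ = τ⁻¹ ∧ ∃ p φ, τ.1 = tA p * fld φ ∧ wt p = μ := fun μ hμ => by
    obtain ⟨τ, h1, h2⟩ := r.tr (z 1) (z μ) (fun h => one_ne_zero (z0 _ h)) (fun h => hμ (z0 _ h)) (sq _) (sq _)
    obtain ⟨p, φ, e⟩ := hH τ.2
    rw [e, hz] at h2
    exact ⟨τ, h1, p, φ, e, by simpa using zE _ _ h2⟩
  obtain ⟨τ, h1, p, φ, e, e'⟩ := tr μ hμ
  have := semi_scalar {x | ∃ τ : H, ω τ = τ⁻¹ ∧ ∃ p φ, τ.1 = tA p * fld φ ∧ x = (wt p, φ.1)}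
    (fun μ hμ => let ⟨τ, h1, p, φ, e, e'⟩ := tr μ hμ; ⟨_, ⟨τ, h1, p, φ, e, rfl⟩, e'⟩)
    (by rintro _ ⟨-, -, p, -, -, rfl⟩; exact wne p)
    (by
      rintro _ ⟨τ, h1, p, φ, e, rfl⟩ _ ⟨τ', h1', p', φ', e', rfl⟩ x
      have := r.com τ τ' h1 h1' (z x)
      rw [e, e', hz, hz, hz, hz] at this
      exact zE _ _ this) _ ⟨τ, h1, p, φ, e, rfl⟩
  obtain rfl : φ = 1 := Subtype.ext this
  exact ⟨τ, h1, p.1, p.2, by rw [e, map_one, mul_one], e'⟩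

theorem exists_σu (c : Kˣ) : ∃ e : Kˣ, σu e = c :=
  ⟨Units.mk0 (σ.symm (c : K)) (by simp), Units.ext (by simp)⟩

theorem σu_σu (e : Kˣ) : σu (σu e) = e * e := Units.ext (by simp [sq])

theorem weyl [(P.map ψ).Normal] (M : Md ψ P) (T : Tp ψ H) (r : Rk ψ P H n ω) (hT : ∀ p, tA p ∈ H)
    {w : Co K → Co K} (a : Au P w) (ww : ∀ x ∈ P, w (w x) = x) (s : Kˣ × Kˣ → Kˣ × Kˣ) (ss : ∀ p, s (s p) = p)
    (ws : ∀ p x, w (tA p x) = tA (s p) (w x)) (om : ∀ p, (ω ⟨_, hT p⟩).1 = tA (s p))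
    (tP : ∀ p, ∀ x ∈ P, tA p x ∈ P)
    (be : ∀ β, Au P β → (∀ c k, ∀ a ∈ P, β (tor c k a) = tor c k (β a)) → ∃ c k, ∀ a ∈ P, β a = tor c k a) :
    ∃ n', (∀ x ∈ P, Cj ψ n' x (w x)) ∧ Brm ψ n' := by
  obtain ⟨f, af, hf⟩ := M.au n
  obtain ⟨c, k, e⟩ := be (fun x => w (f x)) ⟨fun x hx => a.mem _ (af.mem x hx),
    fun x hx y hy => by rw [af.mul x hx y hy, a.mul _ (af.mem x hx) _ (af.mem y hy)],
    fun x hx e => af.inj x hx (a.inj _ (af.mem x hx) e)⟩ fun c k x hx => by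
      have := (hf _ (tP (c, k) x hx)).uniq M.inj (r.om ⟨_, hT (c, k)⟩ x hx _ (hf x hx))
      rw [om] at this
      rw [← tA_apply, this, ws, ss, tA_apply]
  obtain ⟨h, hh⟩ := T.ex _ (hT (s (c, k)))
  refine ⟨h⁻¹ * n, fun x hx => (hh (w x)).symm.trans ?_, fun g => (r.bru g).imp_right ?_⟩
  · rw [← ws, tA_apply, ← e x hx, ww _ (af.mem x hx)]
    exact hf x hx
  · rintro ⟨b, hb, t, rfl⟩
    exact ⟨b * h, mul_mem hb (H93.SX.mem_nr fun x _ => ⟨_, mem_top _, hh x⟩), t, by group⟩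

end SQ

open SQ

theorem tor_Q [(Q.map ψ).Normal] (M : Md ψ Q) (hH : H ≤ TG K) (r : Rk ψ Q H n ω) (k : Kˣ) :
    ∃ h : tA (1, k) ∈ H, ω ⟨_, h⟩ = ⟨_, h⟩⁻¹ := by
  obtain ⟨⟨τ, hτ⟩, h1, c, k', rfl, e⟩ := scal hH r (y8 0)
    (fun p => (p.2 : K) ^ 2 * σ (p.2 : K) * ((p.1 : K) * σ (p.1 : K))⁻¹) (fun p => by simp)
    (fun p φ x => by change tor p.1 p.2 (fl φ _) = _; ext <;> simp)
    (fun x y h => by simp at h; grind) (fun x h => h.2) (fun x => by simp [CharTwo.add_self_eq_zero])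
    (μ := (k : K) ^ 2 * σ (k : K)) (by simp)
  have := r.triv _ h1 Z ⊥ (M.normal_of (fun x hx => by simp_all) fun _ => au_Z) (by rw [Subgroup.map_bot]; infer_instance)
    (fun s x hx => by
      rw [mem_Z] at hx
      rw [mem_bot]
      ext <;> simp [commutatorElement_def, hx] <;> grind) (y4 0 1) (by simp)
  have e4 := congrArg Co.b4 (mul_inv_eq_one.1 (mem_bot.1 this))
  obtain rfl : c = 1 := Units.ext (N_inj (by simpa using e4))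
  obtain rfl : k' = k := Units.ext (σ.injective (N_inj (by simpa [mul_comm] using e)))
  exact ⟨hτ, h1⟩

theorem tor_R [(R.map ψ).Normal] (M : Md ψ R) (hH : H ≤ TG K) (r : Rk ψ R H n ω) (c : Kˣ) :
    ∃ h : tA (c, c⁻¹) ∈ H, ω ⟨_, h⟩ = ⟨_, h⟩⁻¹ := by
  obtain ⟨⟨τ, hτ⟩, h1, c', k, rfl, e⟩ := scal hH r x1
    (fun p => (p.1 : K) * σ (p.1 : K) * ((p.2 : K) * σ (p.2 : K))⁻¹) (fun p => by simp)
    (fun p φ x => by change tor p.1 p.2 (fl φ _) = _; ext <;> simp)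
    (fun x y h => by simp at h; grind) (fun x h => h) (fun x => by simp [CharTwo.add_self_eq_zero])
    (μ := (c : K) * c * σ ((c : K) * c)) (by simp)
  have := r.triv _ h1 D3 V (M.normal_of (fun x hx => hx.1) fun _ => au_D3)
    (M.normal_of (fun x hx => hx.1) fun _ => au_V) (fun s x hx => by
      simp only [mem_D3, mem_V] at hx ⊢
      and_intros <;> simp [commutatorElement_def, hx] <;> grind) (x5 1) (by simp)
  obtain rfl : k = c'⁻¹ := eq_inv_of_mul_eq_one_right (Units.ext (by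
    have := this.2.2.2.2.2.1
    simp at this ⊢
    grind))
  have e2 : (c' : K) * c' = c * c := N_inj (by rw [← e]; simp; ring)
  obtain rfl : c' = c := Units.ext (by grind)
  exact ⟨hτ, h1⟩

theorem weyl_Q [(Q.map ψ).Normal] (hq : 2 < Nat.card K) (M : Md ψ Q) (T : Tp ψ H) (hH : H ≤ TG K)
    (r : Rk ψ Q H n ω) (hT : ∀ p, tA p ∈ H) : ∃ n', (∀ x ∈ Q, Cj ψ n' x (w2 x)) ∧ Brm ψ n' := by
  refine weyl M T r hT au_w2 (fun _ => w2_w2) (fun p => (p.1, σu p.1 * p.2⁻¹)) (fun p => by simp)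
    (fun p => w2_tor p.1 p.2) (fun ⟨c, k⟩ => ?_) (fun ⟨c, k⟩ x hx => by simp_all) fun _ => beta_Q hq
  obtain ⟨e, rfl⟩ := exists_σu c
  obtain ⟨h, e1⟩ := tor_Q M hH r (e⁻¹ * k)
  have e2 := r.fix ⟨_, hT (σu e, e)⟩ fun s => by
    have := σ_ne e.ne_zero
    simp only [tA_apply, mem_Q]
    and_intros <;> simp <;> field_simp <;> grind
  rw [show (⟨_, hT (σu e, k)⟩ : H) = ⟨_, hT (σu e, e)⟩ * ⟨_, h⟩ from Subtype.ext (by
    rw [coe_mul, ← map_mul]; simp), map_mul, e1, e2, coe_mul, coe_inv, ← map_inv, ← map_mul, σu_σu]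
  simp [mul_comm, mul_left_comm, mul_assoc]

theorem weyl_R [(R.map ψ).Normal] (hq : 2 < Nat.card K) (M : Md ψ R) (T : Tp ψ H) (hH : H ≤ TG K)
    (r : Rk ψ R H n ω) (hT : ∀ p, tA p ∈ H) : ∃ n', (∀ x ∈ R, Cj ψ n' x (w1 x)) ∧ Brm ψ n' := by
  refine weyl M T r hT au_w1 (fun _ => w1_w1) Prod.swap Prod.swap_swap
    (fun p => w1_tor p.1 p.2) (fun ⟨c, k⟩ => ?_) (fun ⟨c, k⟩ x hx => by simp_all) fun _ => beta_R hq
  obtain ⟨e', he'⟩ := exists_σu (c * k)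
  obtain ⟨e, rfl⟩ := exists_σu e'
  obtain rfl : k = c⁻¹ * (e * e) := by rw [← σu_σu, he', inv_mul_cancel_left]
  obtain ⟨h, e1⟩ := tor_R M hH r (e⁻¹ * c)
  have e2 := r.fix ⟨_, hT (e, e)⟩ fun s => by
    have := σ_ne e.ne_zero
    simp
    field_simp
    grind
  rw [show (⟨_, hT (c, c⁻¹ * (e * e))⟩ : H) = ⟨_, hT (e, e)⟩ * ⟨_, h⟩ from Subtype.ext (by
    rw [coe_mul, ← map_mul]; simp [mul_comm, mul_left_comm, mul_assoc]), map_mul, e1, e2, coe_mul, coe_inv, ← map_inv,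
    ← map_mul]
  simp [mul_comm, mul_left_comm, mul_assoc]

end H78.Ofs
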