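import Mathlib
import Cfsg.Agent.Lib.Ofs.FG

/-!
# The realizing groups (OFS ST)
-/

set_option autoImplicit false
set_option linter.unusedSectionVars false

namespace H78.Ofs

open H78.Oct H78.Oct.Co Subgroup
open H93.SX (Cj nr)
open scoped commutatorElement

universe u v

variable {K : Type u} {Γ : Type v} [Field K] [Tits K] [Finite K] [Group Γ] [Finite Γ] (O : Oct K Γ) {g : Γ}

theorem st_cen {t : K} (h : Cj O.nf g (y4 0 1) (y4 0 t)) :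
    ∃ a x, g = O.nf a * O.h x ∨ ∃ b, g = O.nf a * O.h x * O.n2 * O.nf b := by
  obtain ⟨c, rfl⟩ := N_surj t
  have c0 : c ≠ 0 := by
    rintro rfl
    have : (y4 0 1 : Co K) = 1 := h.symm.uniq O.inj (by simp [Cj, show (y4 0 0 : Co K) = 1 from rfl])
    simpa using congrArg Co.b4 this
  have e := Oct.OP.h_z O (Units.mk0 c c0) 1 1
  rw [Units.val_mk0, mul_one] at e
  have k : ∀ a k, O.h (Units.mk0 c c0, 1) * (O.nf a * O.h (1, k)) =
      O.nf (tor (Units.mk0 c c0) 1 a) * O.h ((Units.mk0 c c0, 1) * (1, k)) := fun a k => by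
    rw [← O.h_nf, map_mul]; group
  rcases Oct.OP.cen_form O (g := (O.h (Units.mk0 c c0, 1))⁻¹ * g) ((Cj.symm e).trans h) with
    ⟨a, j, e⟩ | ⟨a, j, t, v, e⟩
  · exact ⟨_, _, Or.inl (by rw [← k, ← e, mul_inv_cancel_left])⟩
  · exact ⟨_, _, Or.inr ⟨y8 t v, by rw [← k, mul_assoc (O.h _), mul_assoc (O.h _), ← e, mul_inv_cancel_left]⟩⟩

theorem st_nf (X : Subgroup (Co K)) [hX : X.Normal] (a : Co K) : O.nf a ∈ nr O.nf X :=
  H93.SX.mem_nr fun x hx => ⟨_, hX.conj_mem x hx a, Cj.self a x⟩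

theorem st_h {X : Subgroup (Co K)} (hX : ∀ c k, ∀ a ∈ X, tor c k a ∈ X) (x : Kˣ × Kˣ) : O.h x ∈ nr O.nf X :=
  H93.SX.mem_nr fun a ha => ⟨_, hX x.1 x.2 a ha, O.h_nf x.1 x.2 a⟩

theorem st_small {X : Subgroup (Co K)} [X.Normal] (hX : ∀ c k, ∀ a ∈ X, tor c k a ∈ X) (h8 : y8 1 0 ∈ X)
    (hg : g ∈ nr O.nf X) {t : K} (h : Cj O.nf g (y4 0 1) (y4 0 t)) : ∃ a x, g = O.nf a * O.h x := by
  obtain ⟨a, x, e | ⟨b, rfl⟩⟩ := st_cen O h
  · exact ⟨a, x, e⟩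
  obtain ⟨y, -, e⟩ := H93.SX.nr_cj ((mul_mem_cancel_left (mul_mem (st_nf O X a) (st_h O hX x))).1
    ((mul_mem_cancel_right (st_nf O X b)).1 hg)) h8
  rw [Cj, Oct.OP.n2_inv, Oct.OP.n_y8] at e
  simpa using congrArg Co.a8 (Oct.OP.opp' O e)

theorem st_comm {X : Subgroup (Co K)} (hg : g ∈ nr O.nf X) {y : Co K} (h : Cj O.nf g (y4 0 1) y) {a : Co K}
    (ha : a ∈ X) : y * a = a * y := by
  obtain ⟨b, -, e⟩ := H93.SX.nr_cj' hg ha
  refine (h.mul e).uniq O.inj ?_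
  rw [← O.inj ((map_mul _ _ _).trans ((Oct.OP.z_comm O b 1).trans (map_mul _ _ _).symm))]
  exact e.mul h

theorem oct_nS (h : g ∈ nr O.nf ⊤) : ∃ a x, g = O.nf a * O.h x := by
  obtain ⟨y, -, e⟩ := H93.SX.nr_cj h (mem_top (y4 0 1))
  rw [Oct.OP.cent_co fun b => (st_comm O h e (mem_top b)).symm] at e
  exact st_small O (fun _ _ _ _ => mem_top _) (mem_top _) h e

theorem oct_nQ (h : g ∈ nr O.nf Q) : ∃ a x, g = O.nf a * O.h x ∨ ∃ b, g = O.nf a * O.h x * O.n2 * O.nf b := by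
  obtain ⟨y, -, e⟩ := H93.SX.nr_cj h (x := y4 0 1) (by simp)
  obtain ⟨P, -⟩ := O.exists_par
  obtain ⟨t, ht⟩ := P.cent_Q (c := P.nf y) fun a ha => Commute.map (st_comm O h e ha) P.nf
  rw [P.inj ht] at e
  exact st_cen O e

theorem oct_nR (h : g ∈ nr O.nf R) : ∃ a x, g = O.nf a * O.h x ∨ ∃ b, g = O.nf a * O.h x * O.n1 * O.nf b := by
  obtain ⟨y, -, e⟩ := H93.SX.nr_cj h (x := y4 0 1) (by simp)
  obtain ⟨P, -⟩ := O.exists_par
  obtain ⟨v, hv, ht⟩ := P.cent_R (c := P.nf y) fun a ha => Commute.map (st_comm O h e ha) P.nf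
  obtain rfl := P.inj ht
  rw [mem_V] at hv
  have tR : ∀ c k, ∀ a ∈ (R : Subgroup (Co K)), tor c k a ∈ (R : Subgroup (Co K)) := fun c k a ha => by
    simp [mem_R.1 ha]
  by_cases h6 : y.b6 = 0
  · rw [show y = y4 0 y.b4 by ext <;> simp [hv, h6]] at e
    obtain ⟨a, x, e⟩ := st_small O tR (by simp) h e
    exact ⟨a, x, Or.inl e⟩
  have n1 : O.n1 ∈ nr O.nf R := H93.SX.mem_nr fun a ha => ⟨_, w1_mem a, Oct.OP.c1 O ha rfl⟩
  have e1 : Cj O.nf (O.n1 * O.nf (x1 (y.b4 / y.b6))) y (y4 0 y.b6) :=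
    Cj.trans (y := y6 0 y.b6) (Oct.OP.c1 O (by simp) (by ext <;> simp)) (by
      convert Cj.self (ι := O.nf) (x1 (y.b4 / y.b6)) y using 1
      ext <;> simp [hv, mul_div_cancel₀ _ h6, CharTwo.add_self_eq_zero])
  obtain ⟨a, ⟨c, k⟩, e⟩ := st_small O tR (by simp) (mul_mem (mul_mem n1 (st_nf O R _)) h) (e1.trans e)
  refine ⟨(x1 (y.b4 / y.b6))⁻¹, (k, c), Or.inr ⟨tor c⁻¹ k⁻¹ a, ?_⟩⟩
  rw [← O.n1_h, ← O.h_nf, ← Prod.inv_mk, map_inv, map_inv, mul_assoc _ _ O.n1, mul_assoc _ O.n1 O.n1, O.n11,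
    ← Oct.OP.n1_inv]
  calc g = (O.n1 * O.nf (x1 (y.b4 / y.b6)))⁻¹ * (O.nf a * O.h (c, k)) := by rw [← e]; group
    _ = _ := by group

include O in
theorem exists_std (A : Subgroup (Gal K)) (hA : Odd (Nat.card A)) :
    ∃ (G : Type (max u v)) (_ : Group G) (_ : Finite G) (ψ : Co K →* G), Function.Injective ψ ∧
      (∃ T : Sylow 2 G, (T : Subgroup G) = ψ.range) ∧ Std ψ A := by
  obtain ⟨Θ, hΘ⟩ := exists_fld O
  have : Fact (Nat.Prime 2) := ⟨Nat.prime_two⟩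
  have fin : Finite (Gal K) := Finite.of_injective (fun φ : Gal K => (φ.1 : K → K))
    fun _ _ e => Subtype.ext (DFunLike.coe_injective e)
  let G := Γ ⋊[Θ.comp A.subtype] A
  have fG : Finite G := Finite.of_equiv _ SemidirectProduct.equivProd.symm
  let i : Γ →* G := SemidirectProduct.inl
  let j : A →* G := SemidirectProduct.inr
  let ψ : Co K →* G := i.comp O.nf
  have ii : Function.Injective i := SemidirectProduct.inl_injective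
  have inj : Function.Injective ψ := ii.comp O.inj
  have ci : ∀ {γ x y}, Cj ψ (i γ) x y ↔ Cj O.nf γ x y := fun {γ x y} => by
    rw [Cj, Cj, ← ii.eq_iff, map_mul, map_mul, map_inv]; rfl
  have cj : ∀ (φ : A) x, Cj ψ (j φ) x (fl φ.1 x) := fun φ x => by
    rw [Cj, ← map_inv]
    exact (SemidirectProduct.inl_aut φ (O.nf x)).symm.trans (congrArg i (hΘ φ.1 x))
  have ni : ∀ {X γ}, i γ ∈ nr ψ X ↔ γ ∈ nr O.nf X := fun {X γ} =>
    ⟨fun h => H93.SX.mem_nr fun x hx => (H93.SX.nr_cj h hx).imp fun _ e => ⟨e.1, ci.1 e.2⟩,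
      fun h => H93.SX.mem_nr fun x hx => (H93.SX.nr_cj h hx).imp fun _ e => ⟨e.1, ci.2 e.2⟩⟩
  have dec : ∀ {X : Subgroup (Co K)}, (∀ φ, ∀ x ∈ X, fl φ x ∈ X) → ∀ g ∈ nr ψ X,
      ∃ φ, ∃ γ ∈ nr O.nf X, g = j φ * i γ := fun {X} hX g hg => by
    have e : g = j g⁻¹.right⁻¹ * i g⁻¹.left⁻¹ := by
      rw [map_inv, map_inv, ← mul_inv_rev, SemidirectProduct.inl_left_mul_inr_right, inv_inv]
    refine ⟨_, _, ni.1 ((mul_mem_cancel_left (H93.SX.mem_nr fun x hx => ⟨_, hX _ x hx, cj _ x⟩)).1 (e ▸ hg)), e⟩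
  have top : ∀ φ a x, j φ * i (O.nf a * O.h x) ∈ nr ψ ⊤ := fun φ a x =>
    mul_mem (H93.SX.mem_nr fun x _ => ⟨_, mem_top _, cj _ x⟩)
      (ni.2 (mul_mem (st_nf O ⊤ a) (st_h O (fun _ _ _ _ => mem_top _) x)))
  have br : ∀ {X : Subgroup (Co K)} {w n}, (∀ φ, ∀ x ∈ X, fl φ x ∈ X) → (∀ x ∈ X, Cj O.nf n x (w x)) →
      (∀ γ ∈ nr O.nf X, ∃ a x, γ = O.nf a * O.h x ∨ ∃ b, γ = O.nf a * O.h x * n * O.nf b) → Br ψ X w :=
    fun {X w n} hX hn h => ⟨i n, fun x hx => ci.2 (hn x hx), fun g hg => by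
      obtain ⟨φ, γ, hγ, rfl⟩ := dec hX g hg
      obtain ⟨a, x, rfl | ⟨b, rfl⟩⟩ := h γ hγ
      · exact ⟨_, top φ a x, Or.inl fun _ _ _ e => e⟩
      · exact ⟨_, top φ a x, Or.inr ⟨b, fun _ _ _ e => by
          rwa [map_mul, map_mul, ← mul_assoc, ← mul_assoc] at e⟩⟩⟩
  refine ⟨G, inferInstance, fG, ψ, inj, ⟨(isPGroup.of_surjective _ ψ.rangeRestrict_surjective).toSylow ?_, rfl⟩,
    ⟨fun g hg => ?_, fun τ hτ => ?_⟩,
    br (fun φ x hx => by simp [mem_Q.1 hx]) (fun x hx => Oct.OP.c2 O hx rfl) fun _ => oct_nQ O,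
    br (fun φ x hx => by simp [mem_R.1 hx]) (fun x hx => Oct.OP.c1 O hx rfl) fun _ => oct_nR O⟩
  · have e : ψ.range.index = O.nf.range.index * Nat.card A := by
      refine Nat.eq_of_mul_eq_mul_left (Nat.card_pos (α := Co K)) ?_
      rw [← mul_assoc]
      nth_rw 1 [← Nat.card_congr (MonoidHom.ofInjective inj).toEquiv.symm]
      rw [← Nat.card_congr (MonoidHom.ofInjective O.inj).toEquiv.symm, card_mul_index, card_mul_index,
        SemidirectProduct.card]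
    rw [e]
    exact (O.odd_index.mul hA).not_two_dvd_nat
  · obtain ⟨φ, γ, hγ, rfl⟩ := dec (fun _ _ _ => mem_top _) g hg
    obtain ⟨a, ⟨c, k⟩, rfl⟩ := oct_nS O hγ
    refine ⟨fl φ.1 a, fld φ.1 * tA (c, k), mul_mem (mem_sup_right ⟨_, φ.2, rfl⟩) (mem_sup_left ⟨_, rfl⟩), fun x => ?_⟩
    convert (cj φ _).trans (ci.2 ((Cj.self a _).trans (O.h_nf c k x))) using 1
    exact ((map_mul (fld φ.1) _ _).trans (by rw [map_mul, map_inv]; rfl)).symm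
  · let L : Subgroup (MulAut (Co K)) :=
      { carrier := {τ | ∃ g, ∀ x, Cj ψ g x (τ x)}
        mul_mem' := fun ⟨g, hg⟩ ⟨k, hk⟩ => ⟨g * k, fun x => (hg _).trans (hk x)⟩
        one_mem' := ⟨1, fun _ => Cj.one⟩
        inv_mem' := fun {τ} ⟨g, hg⟩ => ⟨g⁻¹, fun x => by simpa using (hg (τ⁻¹ x)).symm⟩ }
    refine (sup_le (c := L) ?_ ?_) hτ
    · rintro _ ⟨p, rfl⟩
      exact ⟨i (O.h p), fun x => ci.2 (O.h_nf p.1 p.2 x)⟩
    · rintro _ ⟨φ, hφ, rfl⟩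
      exact ⟨j ⟨φ, hφ⟩, cj ⟨φ, hφ⟩⟩

end H78.Ofs
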