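import Mathlib
import Cfsg.Agent.Lib.Ofs.AU
import Cfsg.Agent.Lib.R3.Foc

/-!
# The automizer of the Sylow subgroup (OFS TP)
-/

set_option autoImplicit false
set_option linter.unusedSectionVars false

namespace H78.Ofs

open H78.Oct H78.Oct.Co Subgroup
open H93.SX (Cj nr)
open scoped commutatorElement

/-- The automizer of the Sylow subgroup splits over the inner automorphisms. -/
theorem tp_split {W X : Type*} [Group W] [Finite W] [Group X] [Finite X] {ι : W →* X} (F : H93.SX.Cf 2 ι) :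
    ∃ H : Subgroup (MulAut W), Odd (Nat.card H) ∧ Tp ι H := by
  haveI : Fact (Nat.Prime 2) := ⟨Nat.prime_two⟩
  let ρ : normalizer (ι.range : Set X) →* MulAut W :=
    (MulAut.congr (MonoidHom.ofInjective F.inj)).symm.toMonoidHom.comp ι.range.normalizerMonoidHom
  have hρ : ∀ n x, Cj ι n.1 x (ρ n x) := fun n x =>
    (congrArg Subtype.val ((MonoidHom.ofInjective F.inj).apply_symm_apply
      (ι.range.normalizerMonoidHom n (MonoidHom.ofInjective F.inj x)))).symm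
  let I := (MulAut.conj (G := W)).range
  haveI : I.Normal := ⟨by
    rintro _ ⟨s, rfl⟩ α
    exact ⟨α s, MulEquiv.ext fun x => by simp⟩⟩
  have o : ¬ 2 ∣ (I.subgroupOf ρ.range).index := fun d => by
    have le : (ι.range ⊔ centralizer (ι.range : Set X)) ≤ normalizer (ι.range : Set X) :=
      sup_le le_normalizer (centralizer_le_normalizer _)
    have k : (ι.range ⊔ centralizer (ι.range : Set X)).subgroupOf _ ≤ I.comap ρ := fun n hn => by
      obtain ⟨_, ⟨s, rfl⟩, c, hc, e⟩ := (H93.R3.mem_sup_iff (H93.R3.cent_le_norm _)).1 hn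
      refine ⟨s, MulEquiv.ext fun x => H93.SX.Cj.uniq F.inj ?_ (hρ n x)⟩
      rw [show n.1 = ι s * c from e]
      exact (H93.SX.Cj.self s x).trans (H93.R3.conj_eq hc ⟨x, rfl⟩)
    have h1 := H93.R3.lg_rel (p := 2) le
    have h2 := H93.R3.lg_norm_top F.pr F.sat
    have h3 := one_le_padicValNat_of_dvd (index_ne_zero_of_finite) (d.trans (index_comap I ρ ▸ index_dvd_of_le k))
    rw [relIndex] at h1
    omega
  obtain ⟨n, hn⟩ := IsPGroup.iff_card.1 ((F.pg.of_surjective _ MulAut.conj.rangeRestrict_surjective).comap_subtype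
    (K := ρ.range))
  obtain ⟨H, hH⟩ := exists_right_complement'_of_coprime (N := I.subgroupOf ρ.range)
    (hn ▸ ((Nat.Prime.coprime_iff_not_dvd Nat.prime_two).2 o).pow_left n)
  refine ⟨H.map ρ.range.subtype, ?_, fun g hg => ?_, ?_⟩
  · rw [card_map_of_injective (subtype_injective _), ← hH.symm.index_eq_card]
    exact Nat.odd_iff.2 (Nat.two_dvd_ne_zero.1 o)
  · rw [H93.SX.nr_top] at hg
    obtain ⟨⟨⟨a, s, hs⟩, τ⟩, e⟩ := hH.2 ⟨ρ ⟨g, hg⟩, _, rfl⟩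
    refine ⟨s, τ.1, mem_map_of_mem _ τ.2, fun x => ?_⟩
    have e' : MulAut.conj s * τ.1.1 = ρ ⟨g, hg⟩ := hs ▸ congrArg Subtype.val e
    have := hρ ⟨g, hg⟩ x
    rwa [← e'] at this
  · rintro _ ⟨⟨_, n, rfl⟩, -, rfl⟩
    exact ⟨n, hρ n⟩

section

variable {K : Type*} [Field K] [Tits K] [Finite K] {α β : MulAut (Co K)}

theorem tp_mul (a : Pr α) (b : Pr β) : Pr (α * β) :=
  ⟨fun x => (a.1 _).trans (b.1 x), fun x => (a.2 _).trans (b.2 x)⟩

theorem tp_inv (a : Pr α) : Pr α⁻¹ :=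
  ⟨fun x => by rw [← a.1]; simp, fun x => by rw [← a.2]; simp⟩

end

theorem exists_tp {K X : Type*} [Field K] [Tits K] [Finite K] [Group X] [Finite X] {ι : Co K →* X}
    (F : H93.SX.Cf 2 ι) (hQ : nr ι ⊤ ≤ nr ι Q) (hR : nr ι ⊤ ≤ nr ι R) :
    ∃ η : MulAut (Co K), Pr η ∧ ∃ H ≤ TG K, Tp (ι.comp η.toMonoidHom) H := by
  haveI : Fact (Nat.Prime 2) := ⟨Nat.prime_two⟩
  obtain ⟨H, o, T⟩ := tp_split F
  have pr : ∀ τ ∈ H, Pr τ := fun τ h => by
    obtain ⟨g, hg⟩ := T.ex τ h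
    have m : g ∈ nr ι ⊤ := H93.SX.mem_nr fun x _ => ⟨_, mem_top _, hg x⟩
    exact ⟨fun x => ⟨(hg x).mem' F.inj (hQ m), (hg x).mem F.inj (hQ m)⟩,
      fun x => ⟨(hg x).mem' F.inj (hR m), (hg x).mem F.inj (hR m)⟩⟩
  let P : Subgroup (MulAut (Co K)) :=
    { carrier := {α | Pr α ∧ ∀ x, (α x).a1 = x.a1 ∧ (α x).a8 = x.a8}
      one_mem' := ⟨⟨fun _ => Iff.rfl, fun _ => Iff.rfl⟩, fun _ => ⟨rfl, rfl⟩⟩
      mul_mem' := fun a b => ⟨tp_mul a.1 b.1, fun x =>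
        ⟨(a.2 _).1.trans (b.2 x).1, (a.2 _).2.trans (b.2 x).2⟩⟩
      inv_mem' := fun {α} a => ⟨tp_inv a.1, fun x => by
        rw [← (a.2 (α⁻¹ x)).1, ← (a.2 (α⁻¹ x)).2]; simp⟩ }
  obtain ⟨j, m, hm, e⟩ := Nat.exists_eq_two_pow_mul_odd (Nat.card_pos (α := MulAut (Co K))).ne'
  have P2 : IsPGroup 2 P := fun a => ⟨j, Subtype.ext (aut_odd (pow_mem a.2 _).1
    (hm.of_dvd_nat (orderOf_dvd_of_pow_eq_one (by
      rw [coe_pow, ← pow_mul, ← e, pow_card_eq_one']))) (pow_mem a.2 _).2)⟩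
  obtain ⟨n, hn⟩ := IsPGroup.iff_card.1 P2
  haveI := P2.isNilpotent
  obtain ⟨π, hπ, k⟩ := H2.exists_conj_le_of_forall_mul_mem (A := H) (K := P) (H := TG K)
    (H93.R3.le_norm fun τ h a ha => ⟨tp_mul (tp_mul (pr τ h) ha.1) (tp_inv (pr τ h)), fun x => by
      obtain ⟨_, ⟨⟨c, d⟩, φ, rfl⟩, t⟩ := aut_semi (pr τ h)
      have := t (τ⁻¹ x)
      simp only [MulAut.apply_inv_self] at this
      rw [this.1, this.2]
      simp [t, ha.2]⟩)
    (hn ▸ (Nat.coprime_two_right.2 o).pow_right n) (.inr inferInstance) fun τ h => by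
      obtain ⟨t, ht, e⟩ := aut_semi (pr τ h)
      exact ⟨t * τ⁻¹, ⟨tp_mul (pr_TG ht) (tp_inv (pr τ h)), fun x => by
        simpa [eq_comm] using e (τ⁻¹ x)⟩, by rwa [inv_mul_cancel_right]⟩
  refine ⟨π⁻¹, tp_inv hπ.1, H.map (MulAut.conj π).toMonoidHom, ?_, fun g hg => ?_, ?_⟩
  · rintro _ ⟨τ, h, rfl⟩
    exact k τ h
  · obtain ⟨s, τ, h, e⟩ := T.top g (H93.SX.mem_nr fun x _ => by
      obtain ⟨y, -, e⟩ := H93.SX.nr_cj hg (mem_top (π x))
      exact ⟨π⁻¹ y, mem_top _, by simpa [H93.SX.Cj.comp] using e⟩)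
    exact ⟨π s, _, mem_map_of_mem _ h, fun x => by simpa [H93.SX.Cj.comp] using e (π⁻¹ x)⟩
  · rintro _ ⟨τ, h, rfl⟩
    obtain ⟨g, e⟩ := T.ex τ h
    exact ⟨g, fun x => by simpa [H93.SX.Cj.comp] using e (π⁻¹ x)⟩

end H78.Ofs
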