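import Mathlib
import Cfsg.Agent.Lib.Ofs.ES
import Cfsg.Agent.Lib.Ofs.LK
import Cfsg.Agent.Lib.Ofs.MD
import Cfsg.Agent.Lib.Ofs.RK2
import Cfsg.Agent.Lib.Ofs.TP
import Cfsg.Agent.Lib.Ofs.SQ
import Cfsg.Agent.Lib.Ofs.ST
import Cfsg.Agent.Lib.Ofs.QA
import Cfsg.Agent.Lib.Ofs.QB
import Cfsg.Agent.Lib.Ofs.QC
import Cfsg.Agent.Lib.Ofs.RA
import Cfsg.Agent.S5076

/-!
# Saturated fusion systems over a Sylow 2-subgroup of `²F₄(q)` are realizable (OFS MN)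
-/

set_option autoImplicit false
set_option linter.unusedSectionVars false

namespace H78.Ofs

open H78.Oct H78.Oct.Co Subgroup
open H93.SX (Cj nr Cf Es Eqv)
open scoped commutatorElement

variable {K X Γ : Type*} [Field K] [Tits K] [Finite K] [Group X] [Finite X] [Group Γ] [Finite Γ]
  {ι : Co K →* X} {ψ : Co K →* Γ} {H : Subgroup (MulAut (Co K))} {A : Subgroup (Gal K)}

theorem Std.eqv (S : Std ι A) (S' : Std ψ A) (i : Function.Injective ι) {Y : Subgroup (Co K)}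
    (h : Y = ⊤ ∨ Y = Q ∨ Y = R) : Eqv ι ψ Y := by
  rcases h with rfl | rfl | rfl
  exacts [S.tp.eqv S'.tp i, S.nQ.eqv S'.nQ S.tp S'.tp i, S.nR.eqv S'.nR S.tp S'.tp i]

theorem Std.real (S : Std ι A) (F : Cf 2 ι) (O : Oct K Γ) (o : Odd (Nat.card (Gal K))) :
    (Cfsg.groupFusionSystem ι.range).IsRealizable 2 := by
  obtain ⟨G, _, _, ψ, i, ⟨T, hT⟩, S'⟩ := exists_std O A (o.of_dvd_nat (card_subgroup_dvd_card A))
  have F' : Cf 2 ψ := ⟨i, isPGroup, hT ▸ Cfsg.Agent.S5076.result 2 T⟩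
  refine H93.SX.real_of_eqv F F' T hT fun Y h => ?_
  have := h.imp_right fun h => h.elim (es_cases F) (es_cases F')
  exact ⟨S.eqv S' F.inj this, S'.eqv S i this⟩

theorem std_of (T : Tp ι H) (hH : H ≤ TG K) (hT : ∀ p, tA p ∈ H) (b : Br ι Q w2) (b' : Br ι R w1) :
    Std ι (H.comap fld) := by
  refine ⟨?_, b, b'⟩
  rwa [show tA.range ⊔ (H.comap fld).map fld = H from le_antisymm
    (sup_le (by rintro _ ⟨p, rfl⟩; exact hT p) (map_comap_le _ _)) fun α hα => by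
      obtain ⟨p, φ, rfl⟩ := hH hα
      exact mul_mem (mem_sup_left ⟨p, rfl⟩) (mem_sup_right ⟨φ, (H.mul_mem_cancel_left (hT p)).1 hα, rfl⟩)]

theorem std_big {l : K} (h0 : l ≠ 0) (h1 : l ≠ 1) (F : Cf 2 ι) (eQ : Es 2 ι Q) (eR : Es 2 ι R) (T : Tp ι H)
    (hH : H ≤ TG K) (o : Odd (Nat.card (Gal K))) : Std ι (H.comap fld) := by
  have hq : 2 < Nat.card K := by
    have := Fintype.ofFinite K
    rw [Nat.card_eq_fintype_card, Fintype.two_lt_card_iff]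
    exact ⟨l, 0, 1, h0, h1, zero_ne_one⟩
  have h2 : 1 + l ≠ 0 := fun e => h1 (CharTwo.add_eq_zero.1 e).symm
  have h3 : 1 + l + 1 + l = 0 := add_assoc (1 + l) 1 l ▸ CharTwo.add_self_eq_zero _
  have oH : Odd (Nat.card H) := (odd_TG o).of_dvd_nat (card_dvd_of_le hH)
  obtain ⟨G, _, _, ψ, _, M, L⟩ := es_model F eQ
  obtain ⟨G', _, _, ψ', _, M', L'⟩ := es_model F eR
  have T1 := L.tp F.inj (es_top F eQ) T
  have T2 := L'.tp F.inj (es_top F eR) T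
  obtain ⟨n, ω, r⟩ := M.rk T1 oH (oc_Q hq M) (i := y8 0 1) (j := y8 0 l) (by simp) (by simpa)
    (by simpa) (by simp [CharTwo.add_self_eq_zero]) (by simp [CharTwo.add_self_eq_zero])
    (by simp [commutatorElement_def, h3])
  obtain ⟨n', ω', r'⟩ := M'.rk T2 oH (oc_R hq M') (i := x1 1) (j := x1 l) (by simp) (by simpa)
    (by simpa) (by simp [CharTwo.add_self_eq_zero]) (by simp [CharTwo.add_self_eq_zero])
    (by simp [commutatorElement_def, h3])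
  have hT : ∀ p, tA p ∈ H := fun ⟨c, k⟩ => by
    have := mul_mem (tor_R M' hH r' c).1 (tor_Q M hH r (c * k)).1
    rwa [← map_mul, Prod.mk_mul_mk, mul_one, inv_mul_cancel_left] at this
  obtain ⟨m, a, b⟩ := weyl_Q hq M T1 hH r hT
  obtain ⟨m', a', b'⟩ := weyl_R hq M' T2 hH r' hT
  exact std_of T hH hT (L.br a b) (L'.br a' b')

theorem TG_bot (hK : ∀ x : K, x = 0 ∨ x = 1) : TG K = ⊥ := by
  refine eq_bot_iff.2 ?_
  rintro _ ⟨p, φ, rfl⟩
  have h1 : p = 1 := Prod.ext (Units.ext ((hK _).resolve_left p.1.ne_zero))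
    (Units.ext ((hK _).resolve_left p.2.ne_zero))
  have h2 : φ = 1 := Subtype.ext (RingEquiv.ext fun x => by rcases hK x with rfl | rfl <;> simp)
  simp [h1, h2]

theorem std_two (hK : ∀ x : K, x = 0 ∨ x = 1) (F : Cf 2 ι) (eQ : Es 2 ι Q) (eR : Es 2 ι R) (T : Tp ι ⊥) :
    ∃ η η' : MulAut (Co K), Std ((ι.comp η.toMonoidHom).comp η'.toMonoidHom) ((⊥ : Subgroup _).comap fld) := by
  obtain ⟨G, _, _, ψ, _, M, L⟩ := es_model F eQ
  obtain ⟨f, h⟩ := exists_fv hK M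
  obtain ⟨f, h, h4, k, h8⟩ := h.norm hK M
  obtain ⟨n, nn, ⟨e, r⟩, g4, ⟨u, hu, g7⟩, b⟩ := exists_n2 hK M h h4 h8
  obtain ⟨η, p, c⟩ := twist_Q hK M.inj nn r g4 hu g7
  have := normal_comp (ψ := ψ) p.1
  have B := (L.comp p.1).br c (brm_of b η)
  obtain ⟨G', _, _, ψ', _, M', L'⟩ := es_model (F.comp η) (es_comp eR p.2)
  obtain ⟨n', nn', r', g4', g5', b'⟩ := exists_n1 hK M'
  obtain ⟨η', p', c', s, hs⟩ := twist_R hK M'.inj nn' r' g4' g5' ((normalizer_eq_top (R.map ψ')).ge (mem_top n'))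
  have := normal_comp (ψ := ψ') p'.2
  exact ⟨η, η', std_of ((T.comp η).comp η') bot_le (fun x => TG_bot hK ▸ ⟨x, 1, by simp⟩) (B.comp p'.1 hs)
    ((L'.comp p'.2).br c' (brm_of b' η'))⟩

theorem realizable (F : Cf 2 ι) (O : Oct K Γ) (o : Odd (Nat.card (Gal K))) :
    (Cfsg.groupFusionSystem ι.range).IsRealizable 2 := by
  by_cases h : Es 2 ι Q ∧ Es 2 ι R
  swap
  · refine F.real_of_uniq fun Y Y' a b => ?_
    rcases es_cases F a with rfl | rfl <;> rcases es_cases F b with rfl | rfl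
    exacts [rfl, (h ⟨a, b⟩).elim, (h ⟨b, a⟩).elim, rfl]
  obtain ⟨η, p, H, hH, T⟩ := exists_tp F (es_top F h.1) (es_top F h.2)
  rw [← H93.SX.range_comp η]
  by_cases hK : ∀ x : K, x = 0 ∨ x = 1
  · obtain rfl : H = ⊥ := le_bot_iff.1 (TG_bot hK ▸ hH)
    obtain ⟨η₁, η₂, S⟩ := std_two hK (F.comp η) (es_comp h.1 p.1) (es_comp h.2 p.2) T
    rw [← H93.SX.range_comp η₁, ← H93.SX.range_comp η₂]
    exact S.real (((F.comp η).comp η₁).comp η₂) O o
  · push Not at hK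
    obtain ⟨l, h0, h1⟩ := hK
    exact (std_big h0 h1 (F.comp η) (es_comp h.1 p.1) (es_comp h.2 p.2) T hH o).real (F.comp η) O o

end H78.Ofs
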